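import Cfsg.Agent.OddHalf.Clean
set_option linter.all false

/-!
# ODD half, D8: the fact sheet of a sporadic group `K` of type (E) (helper915)

All facts are about the abstract group `K`.

`z` is 2-central with `Z(S) = ⟨z⟩`, `P = C_K(z)^∞`, `R = O₂(P)` (extraspecial in all the examples), `P` irreducible on
`R/⟨z⟩`. Groups: J2 J3 Suz Co1 Co2 Th B M (`P = C_K(z)`), J4 HN Fi24' (`|C_K(z) : P| = 2`).
-/

set_option autoImplicit false

namespace Cfsg.Agent.OddHalf.D8.Sheet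

open Subgroup

/-- the part of the sheet common to all the types with `z ∈ C_K(z)^∞` -/
structure Basic {K : Type*} [Group K] (z : K) (P : Subgroup K) : Prop where
  zz : z * z = 1
  z1 : z ≠ 1
  /-- `z` is 2-central and `Z(S) = ⟨z⟩` -/
  syl : ∃ S : Sylow 2 K, z ∈ S ∧ (∀ x ∈ S, x * z = z * x) ∧
    ∀ y ∈ S, (∀ x ∈ S, x * y = y * x) → y = 1 ∨ y = z
  zP : z ∈ P
  /-- `P` is the last term of the derived series of `C_K(z)` -/
  cen : ∀ x ∈ P, x * z = z * x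
  perf : ⁅P, P⁆ = P
  der : ∃ m, TR.dser m (centralizer ({z} : Set K)) ≤ P
  /-- `|Out(K)|₂ ≤ 2` -/
  out : ¬ 4 ∣ (MulAut.conj : K →* MulAut K).range.index
  /-- perfect groups of automorphisms are inner (Schreier) -/
  schreier : ∃ n, TR.dser n (⊤ : Subgroup (MulAut K)) ≤ (MulAut.conj : K →* MulAut K).range
  /-- a 2-element of `Aut(K)` centralising a Sylow 2-subgroup whose centre contains `z` is inner -/
  sylAut : ∀ S : Sylow 2 K, (∀ x ∈ S, x * z = z * x) → ∀ α : MulAut K, IsPGroup 2 (zpowers α) →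
    (∀ x ∈ S, α x = x) → ∃ k : K, α = MulAut.conj k

/-- the sheet of type (E) -/
structure SheetE {K : Type*} [Group K] (z : K) (P R : Subgroup K) : Prop where
  zz : z * z = 1
  z1 : z ≠ 1
  /-- `z` is 2-central and `Z(S) = ⟨z⟩` -/
  syl : ∃ S : Sylow 2 K, z ∈ S ∧ (∀ x ∈ S, x * z = z * x) ∧
    ∀ y ∈ S, (∀ x ∈ S, x * y = y * x) → y = 1 ∨ y = z
  /-- `P` is the last term of the derived series of `C_K(z)` -/
  cen : ∀ x ∈ P, x * z = z * x
  perf : ⁅P, P⁆ = P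
  der : ∃ m, TR.dser m (centralizer ({z} : Set K)) ≤ P
  /-- `|Out(K)|₂ ≤ 2` -/
  out : ¬ 4 ∣ (MulAut.conj : K →* MulAut K).range.index
  /-- perfect groups of automorphisms are inner (Schreier) -/
  schreier : ∃ n, TR.dser n (⊤ : Subgroup (MulAut K)) ≤ (MulAut.conj : K →* MulAut K).range
  zR : z ∈ R
  RP : R ≤ P
  R2 : IsPGroup 2 R
  Rn : ∀ x ∈ P, ∀ r ∈ R, x * r * x⁻¹ ∈ R
  /-- `R = O₂(P)` -/
  Rmax : ∀ B : Subgroup K, B ≤ P → IsPGroup 2 B → (∀ x ∈ P, ∀ b ∈ B, x * b * x⁻¹ ∈ B) → B ≤ R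
  /-- `R/⟨z⟩` is irreducible -/
  Rmin : ∀ B : Subgroup K, B ≤ R → (∀ x ∈ P, ∀ b ∈ B, x * b * x⁻¹ ∈ B) →
    (∀ b ∈ B, b = 1 ∨ b = z) ∨ B = R
  Rna : ∃ a ∈ R, ∃ b ∈ R, a * b ≠ b * a
  /-- `C_P(R) ≤ R` -/
  cR : ∀ x ∈ P, (∀ r ∈ R, x * r = r * x) → x ∈ R
  /-- automorphisms of `K` of 2-power order fixing `z` and trivial on `P/R` are inner, from `R` -/
  aut : ∀ α : MulAut K, IsPGroup 2 (zpowers α) → α z = z → (∀ x ∈ P, x⁻¹ * α x ∈ R) →
    ∃ r ∈ R, α = MulAut.conj r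
  /-- the `y`-trick: `z₁ = k z k⁻¹ ∈ P - R`, `w = k⁻¹ z k ∈ P`, and every automorphism of `P` fixing `z` maps `w`
  to a `C_K(z)`-conjugate of `w` -/
  ytrick : ∃ k : K, k * z * k⁻¹ ∈ P ∧ k * z * k⁻¹ ∉ R ∧ ∃ hw : k⁻¹ * z * k ∈ P,
    ∀ β : MulAut P, (β ⟨z, RP zR⟩ : K) = z →
      ∃ p : K, p * z = z * p ∧ (β ⟨k⁻¹ * z * k, hw⟩ : K) = p * (k⁻¹ * z * k) * p⁻¹

variable {K : Type*} [Group K] {z : K} {P R : Subgroup K}

/-- an automorphism fixing `z` maps `P` to `P` -/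
theorem map_P (perf : ⁅P, P⁆ = P) (cen : ∀ x ∈ P, x * z = z * x)
    (der : ∃ m, TR.dser m (centralizer ({z} : Set K)) ≤ P) (α : MulAut K) (hα : α z = z) {x : K}
    (hx : x ∈ P) : α x ∈ P := by
  obtain ⟨m, hm⟩ := der
  have h1 : P ≤ centralizer ({z} : Set K) := fun x hx => mem_centralizer_singleton_iff.2 (cen x hx)
  have h2 : P.map α.toMonoidHom ≤ centralizer ({z} : Set K) := by
    rintro _ ⟨y, hy, rfl⟩
    rw [mem_centralizer_singleton_iff]
    have h3 : α (y * z) = α (z * y) := by rw [cen y hy]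
    rw [map_mul, map_mul, hα] at h3
    exact h3
  have h3 := TR.dser_mono m h2
  rw [TR.dser_map, TR.dser_of_perfect m perf] at h3
  exact (h3.trans hm) ⟨x, hx, rfl⟩

namespace SheetE

theorem zP (h : SheetE z P R) : z ∈ P := h.RP h.zR

/-- `R` is normal in `C_K(z)` and lies in every Sylow subgroup centralising `z` -/
theorem R_le_sylow [Finite K] (h : SheetE z P R) (S : Sylow 2 K) (hS : ∀ x ∈ S, x * z = z * x) :
    R ≤ S := by
  have hn : ∀ c : K, c * z = z * c → ∀ r ∈ R, c * r * c⁻¹ ∈ R := by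
    intro c hc
    have hcz : MulAut.conj c z = z := by
      rw [MulAut.conj_apply, hc]; group
    have hPc : ∀ x ∈ P, c * x * c⁻¹ ∈ P := fun x hx =>
      map_P h.perf h.cen h.der (MulAut.conj c) hcz hx
    have hPc' : ∀ x ∈ P, c⁻¹ * x * c ∈ P := by
      intro x hx
      have hcz' : MulAut.conj c⁻¹ z = z := by
        rw [MulAut.conj_apply, inv_inv, mul_assoc, ← hc]; group
      have := map_P h.perf h.cen h.der (MulAut.conj c⁻¹) hcz' hx
      rwa [MulAut.conj_apply, inv_inv] at this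
    have h1 : R.map (MulAut.conj c).toMonoidHom ≤ R := by
      apply h.Rmax
      · rintro _ ⟨r, hr, rfl⟩
        exact hPc r (h.RP hr)
      · exact h.R2.map _
      · rintro x hx _ ⟨r, hr, rfl⟩
        refine ⟨c⁻¹ * x * c * r * (c⁻¹ * x * c)⁻¹, h.Rn _ (hPc' x hx) r hr, ?_⟩
        show c * (c⁻¹ * x * c * r * (c⁻¹ * x * c)⁻¹) * c⁻¹ = x * (c * r * c⁻¹) * x⁻¹
        group
    intro r hr
    exact h1 ⟨r, hr, rfl⟩
  have hnorm : (S : Subgroup K) ≤ normalizer (R : Set K) := by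
    intro s hs
    rw [mem_normalizer_iff]
    intro r
    constructor
    · exact fun hr => hn s (hS s hs) r hr
    · intro hr
      have h1 := hn s⁻¹ (hS _ (inv_mem hs)) _ hr
      have e : s⁻¹ * (s * r * s⁻¹) * s⁻¹⁻¹ = r := by group
      rwa [e] at h1
  have h2 : IsPGroup 2 ((S : Subgroup K) ⊔ R : Subgroup K) :=
    S.isPGroup'.to_sup_of_normal_right' h.R2 hnorm
  have h3 := S.is_maximal' h2 le_sup_left
  exact (le_sup_right : R ≤ (S : Subgroup K) ⊔ R).trans h3.le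

theorem basic [Finite K] (h : SheetE z P R) : Basic z P where
  zz := h.zz
  z1 := h.z1
  syl := h.syl
  zP := h.zP
  cen := h.cen
  perf := h.perf
  der := h.der
  out := h.out
  schreier := h.schreier
  sylAut := by
    intro S hS α hα2 hα
    have hR := h.R_le_sylow S hS
    have hαz : α z = z := hα z (hR h.zR)
    obtain ⟨r, -, hr⟩ := h.aut α hα2 hαz (by
      intro x hx
      apply h.cR _ (P.mul_mem (P.inv_mem hx) (map_P h.perf h.cen h.der α hαz hx))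
      intro r hr
      -- `α x r (α x)⁻¹ = α (x r x⁻¹) = x r x⁻¹`
      have h1 : α x * r * (α x)⁻¹ = x * r * x⁻¹ := by
        have h2 : α (x * r * x⁻¹) = x * r * x⁻¹ := hα _ (hR (h.Rn x hx r hr))
        rw [map_mul, map_mul, map_inv, hα r (hR hr)] at h2
        exact h2
      calc x⁻¹ * α x * r = x⁻¹ * (α x * r * (α x)⁻¹) * α x := by group
        _ = x⁻¹ * (x * r * x⁻¹) * α x := by rw [h1]
        _ = r * (x⁻¹ * α x) := by group)
    exact ⟨r, hr⟩

end SheetE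

end Cfsg.Agent.OddHalf.D8.Sheet
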