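import Cfsg.Agent.OddHalf.Iface
import Cfsg.Agent.Prune
set_option linter.all false
prune_inst 0x7f00000000000000000000000000000000000000000000000000000000000000000000000000000000000000000000000000000000000000000000000000000000000000000000000000000000000000003fffffffffffffffffffffffffffbeffbdffffffff

/-!
# ODD half, node D8: the rows (helper915)

`Row P`: no counterexample `G` to S1765 has a standard component `K` (as in `Iface.Std`, `Iface.Cyc`) with
`P K`. `d8_of_rows`: the node `Iface.D8` follows from the 23 rows (M12, McL, Ly are `Listed`).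
-/

set_option autoImplicit false

namespace Cfsg.Agent.OddHalf.D8.Rows

open Cfsg

universe u

/-- the row of a group property `P` -/
def Row (P : (K : Type u) → [Group K] → Prop) : Prop :=
  ∀ (G : Type u) [Group G], Iface.Ctx G → ∀ K : Subgroup G, Iface.Std G K → Iface.Cyc K →
    P ↥K → False

/-- all rows of D8 -/
structure All : Prop where
  m11 : Row.{u} (fun K _ => Spor.IsoM11 K)
  m22 : Row.{u} (fun K _ => Spor.IsoM22 K)
  m23 : Row.{u} (fun K _ => Spor.IsoM23 K)
  m24 : Row.{u} (fun K _ => Spor.IsoM24 K)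
  j1 : Row.{u} (fun K _ => Spor.IsoJ1 K)
  j2 : Row.{u} (fun K _ => Spor.IsoJ2 K)
  j3 : Row.{u} (fun K _ => Spor.IsoJ3 K)
  j4 : Row.{u} (fun K _ => Spor.IsoJ4 K)
  co1 : Row.{u} (fun K _ => Spor.IsoCo1 K)
  co2 : Row.{u} (fun K _ => Spor.IsoCo2 K)
  co3 : Row.{u} (fun K _ => Spor.IsoCo3 K)
  hs : Row.{u} (fun K _ => Spor.IsoHS K)
  suz : Row.{u} (fun K _ => Spor.IsoSuz K)
  he : Row.{u} (fun K _ => Spor.IsoHe K)
  ru : Row.{u} (fun K _ => Spor.IsoRu K)
  on : Row.{u} (fun K _ => Spor.IsoON K)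
  fi22 : Row.{u} (fun K _ => Spor.IsoFi22 K)
  fi23 : Row.{u} (fun K _ => Spor.IsoFi23 K)
  fi24 : Row.{u} (fun K _ => Spor.IsoFi24' K)
  hn : Row.{u} (fun K _ => Spor.IsoHN K)
  th : Row.{u} (fun K _ => Spor.IsoTh K)
  b : Row.{u} (fun K _ => Spor.IsoB K)
  m : Row.{u} (fun K _ => Spor.IsoM K)

/-- **D8** from its rows -/
theorem d8_of_rows (h : All.{u}) : Iface.D8.{u} := by
  intro G _ hG K hK hC hS hL
  have hm12 : ¬ Spor.IsoM12 ↥K := fun e => hL (by
    unfold Iface.Listed
    exact Or.inr (Or.inr (Or.inr (Or.inr (Or.inr (Or.inr (Or.inr (Or.inr (Or.inr (Or.inr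
      (Or.inr (Or.inl e))))))))))))
  have hmcl : ¬ Spor.IsoMcL ↥K := fun e => hL (by
    unfold Iface.Listed
    exact Or.inr (Or.inr (Or.inr (Or.inr (Or.inr (Or.inr (Or.inr (Or.inr (Or.inr (Or.inr
      (Or.inr (Or.inr (Or.inr (Or.inr (Or.inl e)))))))))))))))
  have hly : ¬ Spor.IsoLy ↥K := fun e => hL (by
    unfold Iface.Listed
    exact Or.inr (Or.inr (Or.inr (Or.inr (Or.inr (Or.inr (Or.inr (Or.inr (Or.inr (Or.inr
      (Or.inr (Or.inr (Or.inr (Or.inr (Or.inr e)))))))))))))))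
  rcases hS with e | e | e | e | e | e | e | e | e | e | e | e | e | e | e | e | e | e | e | e |
    e | e | e | e | e | e
  · exact h.m11 G hG K hK hC e
  · exact hm12 e
  · exact h.m22 G hG K hK hC e
  · exact h.m23 G hG K hK hC e
  · exact h.m24 G hG K hK hC e
  · exact h.j1 G hG K hK hC e
  · exact h.j2 G hG K hK hC e
  · exact h.j3 G hG K hK hC e
  · exact h.j4 G hG K hK hC e
  · exact h.co1 G hG K hK hC e
  · exact h.co2 G hG K hK hC e
  · exact h.co3 G hG K hK hC e
  · exact hmcl e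
  · exact h.hs G hG K hK hC e
  · exact h.suz G hG K hK hC e
  · exact h.he G hG K hK hC e
  · exact h.ru G hG K hK hC e
  · exact h.on G hG K hK hC e
  · exact hly e
  · exact h.fi22 G hG K hK hC e
  · exact h.fi23 G hG K hK hC e
  · exact h.fi24 G hG K hK hC e
  · exact h.hn G hG K hK hC e
  · exact h.th G hG K hK hC e
  · exact h.b G hG K hK hC e
  · exact h.m G hG K hK hC e

end Cfsg.Agent.OddHalf.D8.Rows
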