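import Cfsg.Agent.OddHalf.D8.RowCo3
import Cfsg.Agent.KFacts.MM.OutC_m3
import Cfsg.Agent.OddHalf.D4.Spor.Baby.Main_m3
import Cfsg.Agent.FixBN.LOAll
import Cfsg.Agent.OddHalf.NI.FrameSp_m3
import Cfsg.Agent.OddHalf.D8.MainE_m3
import Cfsg.Agent.OddHalf.D9.EEight.CountsF_m3
import Cfsg.Agent.S1069
import Cfsg.Prelude.Def_LieTypeChar
import Cfsg.Agent.OddHalf.D8.JTwo.Sheet
import Cfsg.Agent.KFacts.J2.SheetX
import Cfsg.Agent.KFacts.QMinusNormal
import Cfsg.Agent.OddHalf.MM.Main_m3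
import Cfsg.Agent.OddHalf.D8.Rows
import Cfsg.Agent.KFacts.M23.OutOne
import Cfsg.Agent.OddHalf.MM.Sheet
import Cfsg.Agent.KFacts.TwESix.Cent_m3
import Cfsg.Agent.KFacts.Ru.PackD_m3
import Cfsg.Agent.OddHalf.D7F4.Adapted_m3
import Cfsg.Agent.KFacts.He.Hyp
import Cfsg.Agent.S1695
import Cfsg.Agent.OddHalf.D6.QThree.TS.Ref_m3
import Cfsg.Agent.KFacts.Co1.CaseM_m3
import Cfsg.Agent.OddHalf.D8.SheetMap_m3
import Cfsg.Agent.OddHalf.D4.En2.Kill_mg_m3
import Cfsg.Agent.KFacts.MonsterM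
import Cfsg.Agent.MonsterX.InstanceFinal_m3
import Cfsg.Agent.H850.MonSub
import Cfsg.Agent.KFacts.FiTF.QuasiBInst_mg_m3
import Cfsg.Agent.OddHalf.Quat.Classical_m3
import Cfsg.Agent.OddHalf.Known
import Cfsg.Agent.OddHalf.D4.Rk2.False_m3
import Cfsg.Agent.UGT.L2Inner.WBAut_m3
import Cfsg.Agent.SignalizersComponents.PLayerAut
import Cfsg.Agent.OddHalf.D6.Cut_m3
import Cfsg.Agent.OddHalf.D6.LTwoMain_m3
import Cfsg.Agent.KFacts.MM.Main
import Cfsg.Agent.OddHalf.D8.RowJ3
import Cfsg.Agent.OddHalf.D4.TwE.Row_mg_m3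
import Cfsg.Agent.OddHalf.D8.HS.Elim_m3
import Cfsg.Agent.OddHalf.D5.DblClean_m3
import Cfsg.Agent.OddHalf.D9.MultAll
import Cfsg.Agent.OddHalf.D9.Plug.Ru
import Cfsg.Agent.OddHalf.NI.Ex.RowM12_m3
import Cfsg.Agent.H12.KSch
import Cfsg.Agent.S0483
import Cfsg.Agent.S1758
import Cfsg.Agent.S1762
import Cfsg.Agent.GH.Cov.SzCover
import Cfsg.Agent.KFacts.Co1D4.Main
import Cfsg.Agent.OddHalf.D9.Cut
import Cfsg.Agent.OddHalf.D3.Final_m3
import Mathlib
import Cfsg.Agent.OddHalf.D5.SixAut.ZeroEnd_m3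
import Cfsg.Agent.OddHalf.D8.RuFam.PlaneRu_m3
import Cfsg.Agent.SporRec.SuzCl.Inv
import Cfsg.Agent.KFacts.SuzInvol
import Cfsg.Agent.OddHalf.Small.M24Char
import Cfsg.Agent.OddHalf.Table.RuInv
import Cfsg.Agent.KFacts.RuDbl.One
import Cfsg.Agent.OddHalf.Table.OutRu
import Cfsg.Agent.OddHalf.D8.RuFam.BDef_m3
import Cfsg.Agent.OddHalf.SpN.KInst_mg_m3
import Cfsg.Agent.OddHalf.NI3.Ex4.Cut_m3
import Cfsg.Agent.OddHalf.D9.EEight.RowFinal
import Cfsg.Agent.OddHalf.Quat.KTwoOf_m3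
import Cfsg.Agent.OddHalf.SpN.Start_m3
import Cfsg.Agent.KFacts.TwESix.Tor
import Cfsg.Agent.OddHalf.D5.SixAut.FusEight_mg_m3
import Cfsg.Agent.OddHalf.D6.Six.Count
import Cfsg.Agent.OddHalf.D6.Six.Parity
import Cfsg.Agent.OddHalf.D4.Spor.MTwentyFour_m3
import Cfsg.Agent.OddHalf.Quat.PlugOne_m3
import Cfsg.Agent.Lib.PermCode
import Cfsg.Agent.Lib.Refl
import Cfsg.Agent.OddHalf.D9.FFour.Out_m3
import Cfsg.Agent.OddHalf.D7Tw.Front_mg
import Cfsg.Agent.FastGrp
import Cfsg.Agent.Prune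
set_option linter.all false

section
prune_inst 0x7fbcfef9afb82ddeffff7e7ffed9dffc39d0dfffefdffb4bffe8f3ff2fdf230c3be5fb8d1de058ff0ef6e23c30b87813f9fece7fa36bdc7ffffd5ff45ffbec1f856fbf0d71d7ac340ffc6ffffbf17fce7f3fffffffffffffffffffffffffffbeffffffbfffff

-- part: OddHalf/D8/Plug
section
prune_inst 0x100000000000012000020004000000000000001408008000000200000002000080000000000200000040000110004000000000000000000002007290002000201000000000000000000000000000000000000000000000000000000000400000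
set_option linter.all false
open scoped Cfsg.Agent.FastGrp

-- part: OddHalf/CaseM/EndX
section
-- merged: Cfsg.Agent.OddHalf.CaseM.GlueX
section

/-!
# Case (M) of D8: from the sheets of `K` to `X = C_G(z)`, for sheets without the `y`-trick
-/

set_option autoImplicit false

namespace Cfsg.Agent.OddHalf.CaseM.X

open Subgroup Cfsg
open Cfsg.Agent.OddHalf.Front.FE Cfsg.Agent.OddHalf.D8.Sheet Cfsg.Agent.OddHalf.D8.GlueE
open Cfsg.Agent.OddHalf.D8.Front Cfsg.Agent.OddHalf.D8.JTwo.Sheet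
open Cfsg.Agent.Cit (cj mem_cj conj_mem_cj conj_mem_cj_iff)

open scoped commutatorElement

universe u

variable {G : Type u} [Group G]

/-- the data -/
structure EmbX (K : Subgroup G) (t q : G) (z : K) (P R : Subgroup K) : Prop where
  st : Start K t q
  sh : SheetX z P R

namespace EmbX

variable {K : Subgroup G} {t q : G} {z : K} {P R : Subgroup K}

theorem emb [Finite G] (h : EmbX K t q z P R) : Emb K t q z P := ⟨h.st, h.sh.basic⟩

/-- 2-elements of `N` trivial on `P/R` -/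
theorem mem_of_trivial [Finite G] (h : EmbX K t q z P R) {x : G} (hx2 : IsPGroup 2 (zpowers x))
    (hxt : x * t = t * x) (hxz : x * z = z * x)
    (hx : ∀ p ∈ P.map K.subtype, p⁻¹ * (x * p * x⁻¹) ∈ R.map K.subtype) :
    ∃ r ∈ R.map K.subtype, r⁻¹ * x ∈ zpowers q := by
  have hE := h.emb
  obtain ⟨r, hr, e⟩ := h.sh.aut (K.normalizerMonoidHom ⟨x, hE.nor hxt⟩)
    (isPGroup_nmh (hE.nor hxt) hx2) (hE.aut_z hxt hxz) (by
    intro p hp
    have h1 := hx p ⟨p, hp, rfl⟩
    obtain ⟨h2, h3⟩ := Emb.mem_map.1 h1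
    convert h3 using 1
    apply Subtype.ext
    rw [Subgroup.coe_mul, nmh_apply]
    rfl)
  refine ⟨r, ⟨r, hr, rfl⟩, ?_⟩
  apply h.st.cK
  · have h4 := h.st.Kt (r : G)⁻¹ (K.inv_mem r.2)
    calc (r : G)⁻¹ * x * t = (r : G)⁻¹ * (x * t) := by group
      _ = ((r : G)⁻¹ * t) * x := by rw [hxt]; group
      _ = t * ((r : G)⁻¹ * x) := by rw [h4]; group
  · exact exists_of_conj (hE.nor hxt) e

end EmbX

section

variable {K : Subgroup G} {t q : G} {z : K} {P R : Subgroup K}

/-- `N` normalises `R` -/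
theorem conj_R (h : Emb K t q z P) (sh : SheetX z P R) {g : G} (hg : g * t = t * g)
    (hgz : g * z = z * g) {x : G} (hx : x ∈ R.map K.subtype) : g * x * g⁻¹ ∈ R.map K.subtype := by
  obtain ⟨hxK, hxP⟩ := Emb.mem_map.1 hx
  have h1 := map_R sh (K.normalizerMonoidHom ⟨g, h.nor hg⟩) (h.aut_z hg hgz) hxP
  refine Emb.mem_map.2 ⟨?_, ?_⟩
  · exact (mem_normalizer_iff.1 (h.nor hg) x).1 hxK
  · convert h1 using 1
    exact Subtype.ext (nmh_apply (h.nor hg) ⟨x, hxK⟩).symm

/-- an element of odd order of `C(t) ∩ C(z)` which centralises `R` is trivial -/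
theorem odd_eq_one [Finite G] (h : Emb K t q z P) (sh : SheetX z P R) (m : SheetM P R) {y : G}
    (hyt : y * t = t * y) (hyz : y * z = z * y) (hodd : Odd (orderOf y))
    (hyR : ∀ r ∈ R.map K.subtype, y * r = r * y) : y = 1 := by
  -- `y` centralises `P`
  have hyP : ∀ p ∈ P.map K.subtype, y * p = p * y := by
    rintro _ ⟨p, hp, rfl⟩
    set α : MulAut K := K.normalizerMonoidHom ⟨y, h.nor hyt⟩ with hα
    have hαz : α z = z := h.aut_z hyt hyz
    have hαR : ∀ r ∈ R, α r = r := by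
      intro r hr
      apply Subtype.ext
      rw [hα, nmh_apply, hyR r ⟨r, hr, rfl⟩, mul_inv_cancel_right]
    have hαP : ∀ p ∈ P, α p ∈ P := fun p hp => map_P sh.perf sh.cen sh.der α hαz hp
    set r : K := p⁻¹ * α p with hr
    have hrR : r ∈ R := by
      apply sh.cR _ (P.mul_mem (P.inv_mem hp) (hαP p hp))
      intro s hs
      have h1 : α p * s * (α p)⁻¹ = p * s * p⁻¹ := by
        have h2 : α (p * s * p⁻¹) = p * s * p⁻¹ := hαR _ (sh.Rn p hp s hs)
        rw [map_mul, map_mul, map_inv, hαR s hs] at h2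
        exact h2
      calc p⁻¹ * α p * s = p⁻¹ * (α p * s * (α p)⁻¹) * α p := by group
        _ = p⁻¹ * (p * s * p⁻¹) * α p := by rw [h1]
        _ = s * (p⁻¹ * α p) := by group
    -- iterate
    have hit : ∀ n : ℕ, (α ^ n) p = p * r ^ n := by
      intro n
      induction n with
      | zero => simp
      | succ n ih =>
        rw [pow_succ', MulAut.mul_apply, ih, map_mul, map_pow, hαR r hrR]
        have : α p = p * r := by rw [hr]; group
        rw [this, pow_succ']; group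
    have hord : orderOf α ∣ orderOf y := by
      have h1 : orderOf (⟨y, h.nor hyt⟩ : normalizer (K : Set G)) = orderOf y :=
        Subgroup.orderOf_mk y _
      rw [← h1]
      exact orderOf_map_dvd _ _
    have h2 := hit (orderOf α)
    rw [pow_orderOf_eq_one] at h2
    have h3 : r ^ (orderOf α) = 1 := by
      have : p = p * r ^ orderOf α := h2
      exact (mul_eq_left.1 this.symm)
    obtain ⟨k, hk⟩ := sh.R2 ⟨r, hrR⟩
    have h4 : r ^ (2 ^ k) = 1 := congrArg Subtype.val hk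
    have h5 : r = 1 := by
      have h6 : orderOf r ∣ 2 ^ k := orderOf_dvd_of_pow_eq_one h4
      have h7 : orderOf r ∣ orderOf y := (orderOf_dvd_of_pow_eq_one h3).trans hord
      have h8 : (2 ^ k).Coprime (orderOf y) := Nat.Coprime.pow_left k ((Nat.coprime_two_left).2 hodd)
      have h9 : orderOf r = 1 := Nat.eq_one_of_dvd_coprimes h8 h6 h7
      exact orderOf_eq_one_iff.1 h9
    have h6 : α p = p := by
      have : α p = p * r := by rw [hr]; group
      rw [this, h5, mul_one]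
    have h7 := congrArg Subtype.val h6
    rw [hα, nmh_apply, mul_inv_eq_iff_eq_mul] at h7
    exact h7
  -- the automorphism of `K` is trivial
  have h1 : K.normalizerMonoidHom ⟨y, h.nor hyt⟩ = 1 := by
    apply m.odd
    · have h2 : orderOf (⟨y, h.nor hyt⟩ : normalizer (K : Set G)) = orderOf y := Subgroup.orderOf_mk y _
      have h3 : orderOf (K.normalizerMonoidHom ⟨y, h.nor hyt⟩) ∣ orderOf y := by
        rw [← h2]
        exact orderOf_map_dvd _ _
      exact hodd.of_dvd_nat h3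
    · intro x hx
      apply Subtype.ext
      rw [nmh_apply, hyP x ⟨x, hx, rfl⟩, mul_inv_cancel_right]
  have h2 : y ∈ zpowers q := by
    apply h.st.cK y hyt
    intro x hx
    have h3 := congrArg (fun f : MulAut K => ((f ⟨x, hx⟩ : K) : G)) h1
    simp only [nmh_apply (h.nor hyt), MulAut.one_apply] at h3
    rw [mul_inv_eq_iff_eq_mul] at h3
    exact h3.symm
  -- a 2-element of odd order
  obtain ⟨k, hk⟩ := h.st.pQ ⟨y, h2⟩
  have h4 : y ^ (2 ^ k) = 1 := congrArg Subtype.val hk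
  have h6 : orderOf y ∣ 2 ^ k := orderOf_dvd_of_pow_eq_one h4
  have h8 : (2 ^ k).Coprime (orderOf y) := Nat.Coprime.pow_left k ((Nat.coprime_two_left).2 hodd)
  exact orderOf_eq_one_iff.1 (Nat.eq_one_of_dvd_coprimes h8 h6 dvd_rfl)

theorem res' [Finite G] (h : Emb K t q z P) (sh : SheetX z P R)
    {S : Subgroup ↥(centralizer ({(z : G)} : Set G))} (hSt : ∀ x ∈ S, (x : G) * t = t * x)
    (hp : ⁅S, S⁆ = S) : S ≤ toX z P := by
  obtain ⟨n, hn⟩ := h.dser_eq
  have h1 : S.map (centralizer ({(z : G)} : Set G)).subtype ≤ centralizer ({t} : Set G) ⊓ centralizer ({(z : G)} : Set G) := by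
    rintro _ ⟨x, hx, rfl⟩
    exact ⟨mem_centralizer_singleton_iff.2 (hSt x hx), x.2⟩
  have h2 := TR.dser_mono n h1
  have hp' : ⁅S.map (centralizer ({(z : G)} : Set G)).subtype, S.map (centralizer ({(z : G)} : Set G)).subtype⁆ =
      S.map (centralizer ({(z : G)} : Set G)).subtype := by rw [← map_commutator, hp]
  rw [TR.dser_of_perfect n hp', hn] at h2
  intro x hx
  exact h2 ⟨x, hx, rfl⟩

theorem core' [Finite G] (sh : SheetX z P R) (m : SheetM P R)
    (hz : (⟨z, mem_centralizer_singleton_iff.2 rfl⟩ : ↥(centralizer ({(z : G)} : Set G))) ∈ toX z P) :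
    Core (⟨_, hz⟩ : toX z P) ((toX z R).subgroupOf (toX z P)) := by
  refine (core sh m).of_equiv (eP z P sh.cen) ?_ ?_
  · exact Subtype.ext (Subtype.ext rfl)
  · ext x
    rw [mem_subgroupOf, mem_toX, Emb.mem_map]
    constructor
    · rintro ⟨y, hy, rfl⟩
      exact ⟨(y : K).2, mem_subgroupOf.1 hy⟩
    · rintro ⟨h1, h2⟩
      refine ⟨⟨⟨_, h1⟩, sh.RP h2⟩, mem_subgroupOf.2 h2, ?_⟩
      exact Subtype.ext (Subtype.ext rfl)

/-- the hypotheses of `CaseM.Hyp` -/
theorem hyp [Finite G] (o : Out K t q z P) (sh : SheetX z P R) (m : SheetM P R) :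
    Hyp (X := ↥(centralizer ({(z : G)} : Set G)))
      ⟨z, mem_centralizer_singleton_iff.2 rfl⟩ ⟨t, mem_centralizer_singleton_iff.2 o.emb.comm⟩
      (toX z R) (toX z P) := by
  have h := o.emb
  have : Fact (Nat.Prime 2) := ⟨Nat.prime_two⟩
  set H : Subgroup G := centralizer ({(z : G)} : Set G) with hH
  have hmemH : ∀ x, x ∈ H ↔ x * z = z * x := fun x => mem_centralizer_singleton_iff
  have hPz : ∀ x ∈ P, x * z = z * x := sh.cen
  have hRz : ∀ x ∈ R, x * z = z * x := fun x hx => sh.cen x (sh.RP hx)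
  have hPt : ∀ x ∈ P.map K.subtype, x * t = t * x := by
    rintro _ ⟨x, -, rfl⟩
    exact h.st.Kt x x.2
  have hinj : Function.Injective (Subgroup.map H.subtype) := map_injective H.subtype_injective
  have hmP : (toX z P).map H.subtype = P.map K.subtype := map_toX hPz
  have hmR : (toX z R).map H.subtype = R.map K.subtype := map_toX hRz
  set t' : H := ⟨t, mem_centralizer_singleton_iff.2 o.emb.comm⟩ with ht'
  set z' : H := ⟨z, mem_centralizer_singleton_iff.2 rfl⟩ with hz'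
  have hzc : ∀ x : H, x * z' = z' * x := fun x => Subtype.ext ((hmemH x).1 x.2)
  have hct : ∀ x : H, x * t' = t' * x ↔ (x : G) * t = t * x := fun x =>
    ⟨fun e => congrArg Subtype.val e, fun e => Subtype.ext e⟩
  have hz2 : (z : G) * z = 1 := h.zz
  -- `t` does not lie in `K`
  have htz : t' ≠ z' := by
    intro e
    apply h.tK
    have : t = z := congrArg Subtype.val e
    rw [this]; exact z.2
  have hR2 : IsPGroup 2 (toX z R) := by
    have h1 : IsPGroup 2 (R.map K.subtype) := sh.R2.map _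
    exact h1.comap_of_injective H.subtype H.subtype_injective
  have hRn : ∀ x : H, x * t' = t' * x → ∀ r ∈ toX z R, x * r * x⁻¹ ∈ toX z R := by
    intro x hx r hr
    exact conj_R h sh ((hct x).1 hx) ((hmemH x).1 x.2) hr
  -- elements of `C(t)` trivial on `R`
  have hcR : ∀ x : H, x * t' = t' * x → (∀ r ∈ toX z R, x * r = r * x) →
      x = 1 ∨ x = z' ∨ x = t' ∨ x = t' * z' := by
    intro x hx hxR
    have hxt := (hct x).1 hx
    have hxz := (hmemH x).1 x.2
    have hxR' : ∀ r ∈ R.map K.subtype, (x : G) * r = r * x := by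
      intro r hr
      have hrH : r ∈ H := map_le_cent hRz hr
      exact congrArg Subtype.val (hxR ⟨r, hrH⟩ hr)
    -- `x` is a 2-element
    obtain ⟨k, l, hl, hkl⟩ := Nat.exists_eq_two_pow_mul_odd (orderOf_pos (x : G)).ne'
    have h1 : (x : G) ^ (2 ^ k) = 1 := by
      apply odd_eq_one h sh m
      · exact ((show Commute (x : G) t from hxt).pow_left _).eq
      · exact ((show Commute (x : G) z from hxz).pow_left _).eq
      · rw [orderOf_pow, hkl, Nat.gcd_mul_right_left, Nat.mul_div_cancel_left _ (pow_pos two_pos k)]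
        exact hl
      · intro r hr
        exact ((show Commute (x : G) r from hxR' r hr).pow_left _).eq
    have hx2 : IsPGroup 2 (zpowers (x : G)) := by
      obtain ⟨j, -, hj⟩ := (Nat.dvd_prime_pow Nat.prime_two).1 (orderOf_dvd_of_pow_eq_one h1)
      exact IsPGroup.of_card (by rw [Nat.card_zpowers, hj])
    have hE : EmbX K t q z P R := ⟨h.st, sh⟩
    obtain ⟨r, hr, hrx⟩ := hE.mem_of_trivial hx2 hxt hxz (by
      -- `p⁻¹ (x p x⁻¹)` centralises `R`
      rintro _ ⟨p, hp, rfl⟩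
      have h2 : (x : G) * p * (x : G)⁻¹ ∈ P.map K.subtype := h.conj_P hxt hxz ⟨p, hp, rfl⟩
      obtain ⟨p', hp', hpp⟩ := h2
      have hpp' : (p' : G) = (x : G) * p * (x : G)⁻¹ := hpp
      refine ⟨p⁻¹ * p', ?_, ?_⟩
      · apply sh.cR _ (P.mul_mem (P.inv_mem hp) hp')
        intro s hs
        apply Subtype.ext
        have h3 : (x : G) * (p * s * (p : G)⁻¹) = (p * s * (p : G)⁻¹) * x :=
          hxR' _ ⟨p * s * p⁻¹, sh.Rn p hp s hs, rfl⟩
        have h4 : (x : G)⁻¹ * s * x = s := by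
          rw [mul_assoc, ← hxR' s ⟨s, hs, rfl⟩]; group
        change (p : G)⁻¹ * p' * s = s * ((p : G)⁻¹ * p')
        rw [hpp']
        calc (p : G)⁻¹ * (x * p * (x : G)⁻¹) * s
            = (p : G)⁻¹ * (x * p * ((x : G)⁻¹ * s * x) * (x : G)⁻¹) := by group
          _ = (p : G)⁻¹ * ((x * (p * s * (p : G)⁻¹)) * p * (x : G)⁻¹) := by rw [h4]; group
          _ = (p : G)⁻¹ * (((p * s * (p : G)⁻¹) * x) * p * (x : G)⁻¹) := by rw [h3]
          _ = s * ((p : G)⁻¹ * (x * p * (x : G)⁻¹)) := by group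
      · change (p : G)⁻¹ * p' = (p : G)⁻¹ * (x * p * (x : G)⁻¹)
        rw [hpp'])
    -- `r` centralises `R`
    have hrr : r = 1 ∨ r = z := by
      obtain ⟨r', hr', rfl⟩ := hr
      have h5 : ∀ s ∈ R, r' * s = s * r' := by
        intro s hs
        apply Subtype.ext
        change (r' : G) * s = s * r'
        have h6 : (K.subtype r')⁻¹ * (x : G) = 1 ∨ (K.subtype r')⁻¹ * (x : G) = t := o.Q2 _ hrx
        have h7 : Commute ((r' : G)⁻¹ * x) s := by
          rcases h6 with e | e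
          · have : (r' : G)⁻¹ * x = 1 := e
            rw [this]; exact Commute.one_left _
          · have : (r' : G)⁻¹ * x = t := e
            rw [this]; exact (h.st.Kt s s.2).symm
        have h8 : Commute (x : G) s := hxR' s ⟨s, hs, rfl⟩
        have h9 : Commute ((x : G) * ((r' : G)⁻¹ * x)⁻¹) s := h8.mul_left h7.inv_left
        have e : (x : G) * ((r' : G)⁻¹ * x)⁻¹ = r' := by group
        rw [e] at h9
        exact h9.eq
      obtain ⟨a, ha, b, hb, hab⟩ := sh.Rna
      rcases sh.Rmin (R ⊓ centralizer (R : Set K)) inf_le_left (by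
          intro y hy b hb
          refine mem_inf.2 ⟨sh.Rn y hy b hb.1, mem_centralizer_iff.2 ?_⟩
          intro s hs
          have h10 := mem_centralizer_iff.1 hb.2 (y⁻¹ * s * y) (by
            have := sh.Rn y⁻¹ (P.inv_mem hy) s hs
            rwa [inv_inv] at this)
          calc s * (y * b * y⁻¹) = y * ((y⁻¹ * s * y) * b) * y⁻¹ := by group
            _ = y * (b * (y⁻¹ * s * y)) * y⁻¹ := by rw [h10]
            _ = y * b * y⁻¹ * s := by group) with h11 | h11
      · rcases h11 r' ⟨hr', mem_centralizer_iff.2 fun s hs => (h5 s hs).symm⟩ with e | e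
        · exact Or.inl (congrArg Subtype.val e)
        · exact Or.inr (congrArg Subtype.val e)
      · exfalso
        have h12 : b ∈ R ⊓ centralizer (R : Set K) := by rw [h11]; exact hb
        exact hab (mem_centralizer_iff.1 h12.2 a ha)
    rcases hrr with e | e <;> rcases o.Q2 _ hrx with e' | e'
    · left
      apply Subtype.ext
      rw [e, inv_one, one_mul] at e'
      exact e'
    · right; right; left
      apply Subtype.ext
      rw [e, inv_one, one_mul] at e'
      exact e'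
    · right; left
      apply Subtype.ext
      rw [e, inv_mul_eq_one] at e'
      exact e'.symm
    · right; right; right
      apply Subtype.ext
      rw [e, inv_mul_eq_iff_eq_mul] at e'
      change (x : G) = t * z
      rw [e', h.comm]
  have hRP' : toX z R ≤ toX z P := fun x hx => (map_mono sh.RP) hx
  exact
    { zc := hzc
      zz := Subtype.ext hz2
      z1 := fun e => h.z1 (congrArg Subtype.val e)
      tt := Subtype.ext h.st.tt
      t1 := fun e => h.st.t1 (congrArg Subtype.val e)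
      tz := htz
      RP := hRP'
      Pt := fun x hx => Subtype.ext (hPt x hx)
      Pperf := by
        apply hinj
        rw [map_commutator, hmP, ← map_commutator, sh.perf]
      Pn := fun x hx p hp => h.conj_P ((hct x).1 hx) ((hmemH x).1 x.2) hp
      Rn := hRn
      R2 := hR2
      zR := by
        have h1 : (z : G) ∈ (⁅toX z R, toX z R⁆).map H.subtype := by
          rw [map_commutator, hmR, ← map_commutator]
          exact ⟨z, z_mem_comm sh, rfl⟩
        obtain ⟨x, hx, hxz⟩ := h1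
        have : x = z' := Subtype.ext hxz
        rwa [← this]
      cR := hcR
      res := by
        intro S hSt hp
        exact res' h sh (fun x hx => (hct x).1 (mem_centralizer_singleton_iff.1 (hSt hx))) hp
      big := by
        intro S hSt hS hp hne
        have hSP : S ≤ toX z P :=
          res' h sh (fun x hx => (hct x).1 (mem_centralizer_singleton_iff.1 (hSt hx))) hp
        have hPt' : toX z P ≤ centralizer ({t'} : Set H) := fun x hx =>
          mem_centralizer_singleton_iff.2 (Subtype.ext (hPt x hx))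
        have hRt' : toX z R ≤ centralizer ({t'} : Set H) := hRP'.trans hPt'
        have h1 : (S.subgroupOf (toX z P)).IsSubnormal := by
          have : S.subgroupOf (toX z P) = (S.subgroupOf (centralizer ({t'} : Set H))).comap (inclusion hPt') := by
            ext x; rfl
          rw [this]
          exact hS.comap _
        have hSm : (S.subgroupOf (toX z P)).map (toX z P).subtype = S := by
          rw [subgroupOf_map_subtype, inf_of_le_left hSP]
        have hRm : ((toX z R).subgroupOf (toX z P)).map (toX z P).subtype = toX z R := by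
          rw [subgroupOf_map_subtype, inf_of_le_left hRP']
        have h2 : ⁅S.subgroupOf (toX z P), S.subgroupOf (toX z P)⁆ = S.subgroupOf (toX z P) := by
          apply map_injective (toX z P).subtype_injective
          rw [map_commutator, hSm, hp]
        have h3 : S.subgroupOf (toX z P) ≠ ⊥ := by
          intro h0
          apply hne
          rw [← hSm, h0, Subgroup.map_bot]
        have h4 := (core' sh m ⟨z, sh.zP, rfl⟩).big _ h1 h2 h3
        have h5 : ⁅toX z R, S⁆ = toX z R := by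
          have := congrArg (Subgroup.map (toX z P).subtype) h4
          rwa [map_commutator, hSm, hRm] at this
        -- along the subnormal chain
        have hSm' : (S.subgroupOf (centralizer ({t'} : Set H))).map (centralizer ({t'} : Set H)).subtype = S := by
          rw [subgroupOf_map_subtype, inf_of_le_left hSt]
        have hRm' : ((toX z R).subgroupOf (centralizer ({t'} : Set H))).map
            (centralizer ({t'} : Set H)).subtype = toX z R := by
          rw [subgroupOf_map_subtype, inf_of_le_left hRt']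
        have h6 : ⁅(toX z R).subgroupOf (centralizer ({t'} : Set H)), S.subgroupOf (centralizer ({t'} : Set H))⁆ =
            (toX z R).subgroupOf (centralizer ({t'} : Set H)) := by
          apply map_injective (centralizer ({t'} : Set H)).subtype_injective
          rw [map_commutator, hSm', hRm', h5]
        have h7 := le_of_subnormal h6 le_rfl hS
        have h8 := map_mono (f := (centralizer ({t'} : Set H)).subtype) h7
        rwa [hSm', hRm'] at h8
      rad := by
        intro S hSt hS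
        by_cases hcon : ∃ s ∈ S, ∃ r ∈ toX z R, r ≠ 1 ∧ r ≠ z' ∧ (s = r ∨ s = t' * r)
        · exact Or.inr hcon
        left
        push Not at hcon
        have hPt' : toX z P ≤ centralizer ({t'} : Set H) := fun x hx =>
          mem_centralizer_singleton_iff.2 (Subtype.ext (hPt x hx))
        have hRt' : toX z R ≤ centralizer ({t'} : Set H) := hRP'.trans hPt'
        have hSc : ∀ s ∈ S, s * t' = t' * s := fun s hs => mem_centralizer_singleton_iff.1 (hSt hs)
        -- elements of odd order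
        have hodd : ∀ s ∈ S, Odd (orderOf (s : G)) → (s : G) = 1 := by
          intro s hs ho
          have hst := hSc s hs
          have hAC : zpowers s ≤ centralizer ({t'} : Set H) := zpowers_le.2 (hSt hs)
          have hAS : zpowers s ≤ S := zpowers_le.2 hs
          have hAn : zpowers s ≤ normalizer ((toX z R : Subgroup H) : Set H) := by
            intro a ha
            rw [mem_normalizer_iff]
            have hac := mem_centralizer_singleton_iff.1 (hAC ha)
            intro r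
            constructor
            · exact fun hr => hRn a hac r hr
            · intro hr
              have hac' : a⁻¹ * t' = t' * a⁻¹ := mem_centralizer_singleton_iff.1 (inv_mem (hAC ha))
              have := hRn a⁻¹ hac' _ hr
              have e : a⁻¹ * (a * r * a⁻¹) * a⁻¹⁻¹ = r := by group
              rwa [e] at this
          have hos : orderOf s = orderOf (s : G) := (Subgroup.orderOf_coe s).symm
          have hcop : (Nat.card (zpowers s)).Coprime (Nat.card (toX z R)) := by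
            obtain ⟨n, hn⟩ := IsPGroup.iff_card.1 hR2
            rw [hn, Nat.card_zpowers, hos]
            exact Nat.Coprime.pow_right n ((Nat.coprime_two_right).2 ho)
          have hW := Cfsg.Agent.Lib.CoprimeCommutator.commutator_commutator_eq (zpowers s) (toX z R) hAn hcop
          have hWR : ⁅toX z R, zpowers s⁆ ≤ toX z R :=
            Cfsg.Agent.Lib.CoprimeCommutator.commutator_le_left hAn
          have hWt : ⁅toX z R, zpowers s⁆ ≤ centralizer ({t'} : Set H) := hWR.trans hRt'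
          -- `W ≤ S`
          have hWS : ⁅toX z R, zpowers s⁆ ≤ S := by
            have hCinj := map_injective (centralizer ({t'} : Set H)).subtype_injective
            have h1 : ∀ L : Subgroup H, L ≤ centralizer ({t'} : Set H) →
                (L.subgroupOf (centralizer ({t'} : Set H))).map (centralizer ({t'} : Set H)).subtype = L := by
              intro L hL
              rw [subgroupOf_map_subtype, inf_of_le_left hL]
            have h6 : ⁅(⁅toX z R, zpowers s⁆).subgroupOf (centralizer ({t'} : Set H)),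
                (zpowers s).subgroupOf (centralizer ({t'} : Set H))⁆ =
                (⁅toX z R, zpowers s⁆).subgroupOf (centralizer ({t'} : Set H)) := by
              apply hCinj
              rw [map_commutator, h1 _ hWt, h1 _ hAC, hW]
            have h7 := le_of_subnormal h6 (A := (zpowers s).subgroupOf (centralizer ({t'} : Set H)))
              (fun x hx => mem_subgroupOf.2 (hAS (mem_subgroupOf.1 hx))) hS
            have h8 := map_mono (f := (centralizer ({t'} : Set H)).subtype) h7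
            rwa [h1 _ hWt, h1 _ hSt] at h8
          have hWz : ∀ w ∈ ⁅toX z R, zpowers s⁆, w = 1 ∨ w = z' := by
            intro w hw
            by_contra hne
            push Not at hne
            exact (hcon w (hWS hw) w (hWR hw) hne.1 hne.2).1 rfl
          have hW1 : ⁅toX z R, zpowers s⁆ = ⊥ := by
            rw [← hW, commutator_eq_bot_iff_le_centralizer]
            intro w hw
            rw [mem_centralizer_iff]
            intro a _
            rcases hWz w hw with e | e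
            · rw [e, mul_one, one_mul]
            · rw [e]; exact hzc a
          rw [commutator_eq_bot_iff_le_centralizer] at hW1
          apply odd_eq_one h sh m ((hct s).1 hst) ((hmemH s).1 s.2) ho
          intro r hr
          have hrH : r ∈ H := map_le_cent hRz hr
          have hr' : (⟨r, hrH⟩ : H) ∈ toX z R := hr
          exact congrArg Subtype.val (mem_centralizer_iff.1 (hW1 hr') s (mem_zpowers s))
        -- `S` is a 2-group
        have hS2 : IsPGroup 2 S := by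
          intro s
          obtain ⟨k, l, hl, hkl⟩ := Nat.exists_eq_two_pow_mul_odd (orderOf_pos ((s : H) : G)).ne'
          refine ⟨k, Subtype.ext (Subtype.ext ?_)⟩
          apply hodd ((s : H) ^ (2 ^ k)) (pow_mem s.2 _)
          rw [SubmonoidClass.coe_pow, orderOf_pow, hkl, Nat.gcd_mul_right_left,
            Nat.mul_div_cancel_left _ (pow_pos two_pos k)]
          exact hl
        -- `O_2(C(t))`
        have hSO : S.subgroupOf (centralizer ({t'} : Set H)) ≤ pCore 2 ↥(centralizer ({t'} : Set H)) :=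
          Cfsg.Agent.SignalizersComponents.CompBasic.subnormal_pGroup_le_pCore hS hS2.comap_subtype
        have hOn : (pCore 2 ↥(centralizer ({t'} : Set H))).Normal := Cfsg.Agent.Lib.Cores.pCore_normal 2
        have hO2 : IsPGroup 2 (pCore 2 ↥(centralizer ({t'} : Set H))) := Cfsg.Agent.Lib.Cores.pCore_isPGroup 2
        -- the intersection with `P`
        set B : Subgroup K := ((((pCore 2 ↥(centralizer ({t'} : Set H))).map
          (centralizer ({t'} : Set H)).subtype).map H.subtype).subgroupOf K) ⊓ P with hB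
        have hmemB : ∀ x : K, x ∈ B ↔ x ∈ P ∧ ∃ y : ↥(centralizer ({t'} : Set H)),
            y ∈ pCore 2 ↥(centralizer ({t'} : Set H)) ∧ ((y : H) : G) = x := by
          intro x
          rw [hB, mem_inf, mem_subgroupOf]
          constructor
          · rintro ⟨⟨_, ⟨y, hy, rfl⟩, e⟩, hx⟩
            exact ⟨hx, y, hy, e⟩
          · rintro ⟨hx, y, hy, e⟩
            exact ⟨⟨_, ⟨y, hy, rfl⟩, e⟩, hx⟩
        have hBR : B ≤ R := by
          apply sh.Rmax _ inf_le_right
          · have h1 : IsPGroup 2 (((pCore 2 ↥(centralizer ({t'} : Set H))).map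
              (centralizer ({t'} : Set H)).subtype).map H.subtype) := (hO2.map _).map _
            exact (h1.comap_of_injective K.subtype K.subtype_injective).to_le inf_le_left
          · intro x hx b hb
            obtain ⟨hbP, y, hy, e⟩ := (hmemB b).1 hb
            have hxH : (x : G) ∈ H := (hmemH x).2 (congrArg Subtype.val (sh.cen x hx))
            have hxt : (⟨x, hxH⟩ : H) ∈ centralizer ({t'} : Set H) :=
              mem_centralizer_singleton_iff.2 (Subtype.ext (h.st.Kt x x.2))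
            refine (hmemB _).2 ⟨P.mul_mem (P.mul_mem hx hbP) (P.inv_mem hx), (⟨⟨x, hxH⟩, hxt⟩ * y *
              ⟨⟨x, hxH⟩, hxt⟩⁻¹ :), hOn.conj_mem y hy _, ?_⟩
            change (x : G) * ((y : H) : G) * (x : G)⁻¹ = x * b * (x : G)⁻¹
            rw [e]
        intro s hs
        have hst := hSc s hs
        have hsO : (⟨s, hSt hs⟩ : ↥(centralizer ({t'} : Set H))) ∈ pCore 2 ↥(centralizer ({t'} : Set H)) :=
          hSO (mem_subgroupOf.2 hs)
        have hs2 : IsPGroup 2 (zpowers (s : G)) := by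
          obtain ⟨k, hk⟩ := hS2 ⟨s, hs⟩
          have h1 : (s : G) ^ (2 ^ k) = 1 := by
            have := congrArg (fun x : S => ((x : H) : G)) hk
            simpa only [_root_.SubmonoidClass.mk_pow, _root_.SubmonoidClass.coe_pow, _root_.OneMemClass.coe_one] using this
          obtain ⟨j, -, hj⟩ := (Nat.dvd_prime_pow Nat.prime_two).1 (orderOf_dvd_of_pow_eq_one h1)
          exact IsPGroup.of_card (by rw [Nat.card_zpowers, hj])
        have hE : EmbX K t q z P R := ⟨h.st, sh⟩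
        obtain ⟨r, hr, hrs⟩ := hE.mem_of_trivial hs2 ((hct s).1 hst) ((hmemH s).1 s.2) (by
          rintro _ ⟨p, hp, rfl⟩
          have hpH : (p : G) ∈ H := (hmemH p).2 (congrArg Subtype.val (sh.cen p hp))
          have hpt : (⟨p, hpH⟩ : H) ∈ centralizer ({t'} : Set H) :=
            mem_centralizer_singleton_iff.2 (Subtype.ext (h.st.Kt p p.2))
          have h2 : (s : G) * p * (s : G)⁻¹ ∈ P.map K.subtype :=
            h.conj_P ((hct s).1 hst) ((hmemH s).1 s.2) ⟨p, hp, rfl⟩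
          obtain ⟨p', hp', hpp⟩ := h2
          have hpp' : (p' : G) = (s : G) * p * (s : G)⁻¹ := hpp
          refine ⟨p⁻¹ * p', hBR ((hmemB _).2 ⟨P.mul_mem (P.inv_mem hp) hp', ?_⟩), ?_⟩
          · refine ⟨(⟨⟨p, hpH⟩, hpt⟩⁻¹ * ⟨s, hSt hs⟩ * ⟨⟨p, hpH⟩, hpt⟩) * ⟨s, hSt hs⟩⁻¹, ?_, ?_⟩
            · refine mul_mem ?_ (inv_mem hsO)
              have := hOn.conj_mem _ hsO (⟨⟨p, hpH⟩, hpt⟩⁻¹)
              rwa [inv_inv] at this
            · change (p : G)⁻¹ * s * p * (s : G)⁻¹ = (p : G)⁻¹ * p'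
              rw [hpp']; group
          · change (p : G)⁻¹ * p' = (p : G)⁻¹ * (s * p * (s : G)⁻¹)
            rw [hpp'])
        -- the end
        have hrH : r ∈ H := map_le_cent hRz hr
        have hr' : (⟨r, hrH⟩ : H) ∈ toX z R := hr
        rcases o.Q2 _ hrs with e | e
        · have e1 : s = ⟨r, hrH⟩ := Subtype.ext (inv_mul_eq_one.1 e).symm
          by_cases hr1 : (⟨r, hrH⟩ : H) = 1
          · left; rw [e1, hr1]
          by_cases hrz : (⟨r, hrH⟩ : H) = z'
          · right; left; rw [e1, hrz]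
          · exact absurd e1 (hcon s hs _ hr' hr1 hrz).1
        · have e1 : s = t' * ⟨r, hrH⟩ := by
            apply Subtype.ext
            change (s : G) = t * r
            rw [inv_mul_eq_iff_eq_mul] at e
            rw [e]
            exact (hPt r (map_mono sh.RP hr))
          by_cases hr1 : (⟨r, hrH⟩ : H) = 1
          · right; right; left; rw [e1, hr1, mul_one]
          by_cases hrz : (⟨r, hrH⟩ : H) = z'
          · right; right; right; rw [e1, hrz]
          · exact absurd e1 (hcon s hs _ hr' hr1 hrz).2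
      prim := by
        intro U hzU hUR hU
        have hUP : U ≤ toX z P := hUR.trans hRP'
        have hUm : (U.subgroupOf (toX z P)).map (toX z P).subtype = U := by
          rw [subgroupOf_map_subtype, inf_of_le_left hUP]
        have hRm : ((toX z R).subgroupOf (toX z P)).map (toX z P).subtype = toX z R := by
          rw [subgroupOf_map_subtype, inf_of_le_left hRP']
        rcases (core' sh m ⟨z, sh.zP, rfl⟩).prim (U.subgroupOf (toX z P)) (mem_subgroupOf.2 hzU)
          (by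
            intro x hx
            exact mem_subgroupOf.2 (hUR (mem_subgroupOf.1 hx))) (by
            intro p
            have h1 : (cj p (U.subgroupOf (toX z P))).map (toX z P).subtype = cj (p : H) U := by
              rw [← cj_map, hUm]; rfl
            rcases hU p p.2 with h2 | h2
            · left
              apply map_injective (toX z P).subtype_injective
              rw [h1, hUm, h2]
            · right
              intro x hx y hy
              apply Subtype.ext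
              apply h2 x (mem_subgroupOf.1 hx)
              rw [← h1]
              exact ⟨y, hy, rfl⟩) with h1 | h1
        · left
          intro u hu
          rcases h1 ⟨u, hUP hu⟩ (mem_subgroupOf.2 hu) with h2 | h2
          · left; exact congrArg Subtype.val h2
          · right; exact congrArg Subtype.val h2
        · right
          rw [← hUm, h1, hRm] }

end

end Cfsg.Agent.OddHalf.CaseM.X

end

-- merged: Cfsg.Agent.OddHalf.CaseM.EndX
section

/-!
# Case (M) of D8: the end, without `NI`, for sheets without the `y`-trick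

The components `M` with `M / Z(M)` of Lie type in odd characteristic are excluded by THEOREM LO (`FixBN.LOAut`):
`R` is a normal 2-subgroup of `C_M(t)`, so the perfect group `P ≤ C_M(t)` centralises `R`.

`noCompX_of`: `C_G(z)` has no component (`SheetX`); `noComp_of'`: the same for `SheetE`.
-/

set_option autoImplicit false

namespace Cfsg.Agent.OddHalf.CaseM

open Subgroup Cfsg
open Cfsg.Agent.OddHalf.Iface Cfsg.Agent.OddHalf.D9.Cut Cfsg.Agent.OddHalf.Table
open Cfsg.Agent.OddHalf.D8.Sheet Cfsg.Agent.OddHalf.D8.GlueE Cfsg.Agent.OddHalf.D8.Front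
open Cfsg.Agent.OddHalf.D8.JTwo.Sheet
open Cfsg.Agent.Cit (cj mem_cj conj_mem_cj conj_mem_cj_iff)
open Cfsg.Agent.SignalizersComponents.Components
open Cfsg.Agent.Schreier.Basic

open scoped commutatorElement

universe u

/-- **(LO)** excludes `P ≤ M` -/
theorem Hyp.false_of_lo {X : Type*} [Group X] [Finite X] {z t : X} {R P : Subgroup X} (h : Hyp z t R P)
    {M : Subgroup X} (hM : IsComponent M) (hPM : P ≤ M)
    (hLO : Cfsg.Agent.FixBN.LOAut (↥M ⧸ center ↥M)) : False := by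
  have hn : ∀ x ∈ M, t * x * t⁻¹ ∈ M := fun x hx => by
    have := conj_mem_cj (g := t) hx
    rwa [h.cj_t hM] at this
  have hinv : ∀ x : X, t * (t * x * t⁻¹) * t⁻¹ = x := by
    intro x
    calc t * (t * x * t⁻¹) * t⁻¹ = (t * t) * x * (t * t)⁻¹ := by group
      _ = x := by rw [h.tt]; group
  let σ : ↥M ≃* ↥M :=
    { toFun := fun x => ⟨t * x * t⁻¹, hn x x.2⟩
      invFun := fun x => ⟨t * x * t⁻¹, hn x x.2⟩
      left_inv := fun x => Subtype.ext (hinv x)
      right_inv := fun x => Subtype.ext (hinv x)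
      map_mul' := fun x y => Subtype.ext (by
        change t * ((x : X) * y) * t⁻¹ = (t * x * t⁻¹) * (t * y * t⁻¹)
        group) }
  have hσσ : ∀ x : ↥M, σ (σ x) = x := fun x => Subtype.ext (hinv x)
  have hfix : ∀ x : ↥M, x ∈ Cfsg.Agent.FixBN.Reduce.fixSub σ ↔ (x : X) * t = t * x := by
    intro x
    constructor
    · intro hx
      have h1 : t * (x : X) * t⁻¹ = x := congrArg Subtype.val (show σ x = x from hx)
      rw [mul_inv_eq_iff_eq_mul] at h1
      exact h1.symm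
    · intro hx
      change σ x = x
      apply Subtype.ext
      change t * (x : X) * t⁻¹ = x
      rw [← hx]; group
  have hRM : R ≤ M := h.RP.trans hPM
  have hinj : Function.Injective (Subgroup.map M.subtype) := map_injective M.subtype_injective
  have key := Cfsg.Agent.FixBN.LOAut.of_central (N := center ↥M) le_rfl hLO σ
    (fun n hn' => by
      rw [mem_center_iff]
      intro g
      have h1 := mem_center_iff.1 hn' (σ g)
      have h2 := congrArg σ h1
      rw [map_mul, map_mul, hσσ] at h2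
      exact h2)
    (fun g => by rw [hσσ, inv_mul_cancel]; exact one_mem _)
    (X := R.subgroupOf M) (P := P.subgroupOf M)
    (fun x hx => (hfix x).2 (h.Rt x (mem_subgroupOf.1 hx)))
    (fun g hg x hx => mem_subgroupOf.2 (h.Rn g ((hfix g).1 hg) x (mem_subgroupOf.1 hx)))
    (h.R2.comap_of_injective M.subtype M.subtype_injective)
    (fun x hx => (hfix x).2 (h.Pt x (mem_subgroupOf.1 hx)))
    (by
      apply hinj
      rw [map_commutator, subgroupOf_map_subtype, inf_of_le_left hPM, h.Pperf])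
  apply h.Rna
  intro a ha b hb
  exact congrArg Subtype.val (key ⟨a, hRM ha⟩ (mem_subgroupOf.2 (h.RP ha)) ⟨b, hRM hb⟩ (mem_subgroupOf.2 hb))

/-- signs of outer automorphisms of intrinsic components not of Lie type in odd characteristic -/
def IntrSign' : Prop :=
  ∀ (G : Type u) [Group G], Ctx G → ∀ (M : Subgroup G) (z : G), orderOf z = 2 → CompOf z M → z ∈ M →
    ¬ PRankLE 2 1 ↥M → IsSimpleGroup (↥M ⧸ center ↥M) → ¬ IsMulCommutative (↥M ⧸ center ↥M) →
    IsKnownSimple' (↥M ⧸ center ↥M) → ¬ LieOdd (↥M ⧸ center ↥M) → Table.OutSign (↥M ⧸ center ↥M)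

/-- **the signs** -/
theorem intrSign' (hM : Mult.{u}) (R : SignRows.{u}) : IntrSign'.{u} := by
  intro G _ C M z hz hcomp hzM hrk hs hna hk ho
  have hfin := C.fin
  have hq := Soft.CompOf.quasisimple hcomp
  have hz2 := Soft.CompOf.center_isPGroup (C.bal z hz) hcomp
  have hne : center ↥M ≠ ⊥ := by
    intro h
    have h1 : (⟨z, hzM⟩ : M) ∈ center ↥M := by
      rw [mem_center_iff]
      intro x
      exact Subtype.ext (mem_centralizer_singleton_iff.1 (hcomp.1 x.2))
    rw [h, mem_bot] at h1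
    have h2 : z = 1 := congrArg Subtype.val h1
    rw [h2, orderOf_one] at hz
    exact absurd hz (by norm_num)
  by_cases hx2 : Exc2 (↥M ⧸ center ↥M)
  · exact R.exc2 _ hx2
  by_cases hx4 : Exc4 (↥M ⧸ center ↥M)
  · exact R.exc4 _ hx4
  by_cases hxs : XSz (↥M ⧸ center ↥M)
  · exact R.sz _ hxs
  by_cases ha : IsAlternating (↥M ⧸ center ↥M)
  · obtain ⟨n, hn, ⟨f⟩⟩ := ha
    by_cases h7 : 7 ≤ n
    · exact OutSign.of_equiv f.symm (outSign_alt h7)
    · exfalso
      apply ho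
      obtain rfl | rfl : n = 5 ∨ n = 6 := by omega
      · exact lieOdd_of_alt5 f
      · exact lieOdd_of_alt6 f
  exfalso
  obtain ⟨K, _, hK, hKne, ⟨e⟩⟩ := exists_double hq hz2 hne
  rcases Known.classify hna hk with h | h | h | h
  · exact ha h
  · exact ho h
  · exact hKne (hM.lie K hK (lieTwo_congr e.symm ⟨h, ha, ho⟩) (fun h => hx2 (exc2_congr e h))
      (fun h => hx4 (exc4_congr e h)) (fun h => hxs (xsz_congr e h)))
  · exact hKne (hM.spor K hK (Known.isSporadic_congr e.symm h) (fun h => hx2 (exc2_congr e h))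
      (fun h => hx4 (exc4_congr e h)))

/-- (LO) for the simple groups of Lie type in odd characteristic -/
def LOAll : Prop :=
  ∀ (X : Type u) [Group X], Finite X → IsSimpleGroup X → LieOdd X → Cfsg.Agent.FixBN.LOAut X

/-- Case (M) for the sheets without the `y`-trick: `C_G(z)` has no component, if the sheet satisfies `Y`. -/
def NoCompX (Y : (K : Type u) → [Group K] → K → Subgroup K → Subgroup K → Prop) : Prop :=
  ∀ (G : Type u) [Group G], Iface.Ctx G → ∀ (K : Subgroup G) (t q : G) (z : K) (P R : Subgroup K),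
    Out K t q z P → SheetX z P R → Y ↥K z P R →
    ∀ M : Subgroup ↥(centralizer ({(z : G)} : Set G)), ¬ IsComponent M

section

variable {G : Type u} [Group G]

/-- `P ≤ M` for every component `M` of `C_G(z)` -/
theorem main_compX (C : Ctx G) (hSch : Cfsg.Agent.Schreier.Cases.SchFor.{u} @IsKnownSimple')
    (hGW : SylowSp4.Hyps.GW.{u}) {K : Subgroup G} {t q : G} {z : K} {P R : Subgroup K}
    (o : Out K t q z P) (sh : SheetX z P R) (m : SheetM P R)
    {M : Subgroup ↥(centralizer ({(z : G)} : Set G))} (hM : IsComponent M) :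
    toX z P ≤ M ∧
      (((⟨t, mem_centralizer_singleton_iff.2 o.emb.comm⟩ : ↥(centralizer ({(z : G)} : Set G))) ∈ M) ∨
        (⟨t, mem_centralizer_singleton_iff.2 o.emb.comm⟩ : ↥(centralizer ({(z : G)} : Set G))) ∉
          M ⊔ centralizer (M : Set ↥(centralizer ({(z : G)} : Set G)))) := by
  have hfin := C.fin
  have h := X.hyp o sh m
  have hz := D8.MainE.orderOf_z o.emb
  have hcomp := compOf_map hM
  have hSchM : Sch (↥M ⧸ center ↥M) := by
    have e : ↥(M.map (centralizer ({(z : G)} : Set G)).subtype) ≃* ↥M :=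
      (M.equivMapOfInjective _ (centralizer ({(z : G)} : Set G)).subtype_injective).symm
    exact Cfsg.Agent.Schreier.Balance.sch_center_quotient e (sch_of_comp C hSch hz hcomp)
  have hev : 2 ∣ Nat.card M := by
    have h1 := even_card C hz hcomp
    rwa [Nat.card_congr (M.equivMapOfInjective _
      (centralizer ({(z : G)} : Set G)).subtype_injective).toEquiv.symm] at h1
  rcases h.main hM (fun hn => le_sup_centralizer hM.2.1 hSchM h.Pperf hn) hev with ⟨hzM, huniq⟩ | ⟨hP, h2⟩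
  · exfalso
    refine rank_two C hGW hz hcomp ⟨_, hzM, rfl⟩ ?_
    intro E _ hE
    -- all the elements of `E` are in `{1, z}`
    have hEz : ∀ x ∈ E, x = 1 ∨ ((x : ↥(M.map (centralizer ({(z : G)} : Set G)).subtype)) : G) = z := by
      intro x hx
      obtain ⟨y, hy, hyx⟩ := x.2
      have h1 : ((x : ↥(M.map (centralizer ({(z : G)} : Set G)).subtype)) : G) *
          ((x : ↥(M.map (centralizer ({(z : G)} : Set G)).subtype)) : G) = 1 := by
        have := congrArg Subtype.val (hE x hx)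
        rw [pow_two] at this
        exact this
      rcases huniq y hy (by
        apply Subtype.ext
        change (y : G) * y = 1
        have hyx' : (y : G) = ((x : ↥(M.map (centralizer ({(z : G)} : Set G)).subtype)) : G) := hyx
        rw [hyx']; exact h1) with e | e
      · left
        apply Subtype.ext
        rw [← hyx, e]; rfl
      · right
        rw [← hyx, e]; rfl
    have hle : E ≤ zpowers (⟨z, ⟨_, hzM, rfl⟩⟩ : ↥(M.map (centralizer ({(z : G)} : Set G)).subtype)) := by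
      intro x hx
      rcases hEz x hx with e | e
      · rw [e]; exact one_mem _
      · have : x = ⟨z, ⟨_, hzM, rfl⟩⟩ := Subtype.ext e
        rw [this]; exact mem_zpowers _
    have hcard := Subgroup.card_le_of_le hle
    rw [Nat.card_zpowers] at hcard
    have ho : orderOf (⟨z, ⟨_, hzM, rfl⟩⟩ : ↥(M.map (centralizer ({(z : G)} : Set G)).subtype)) = 2 := by
      rw [← Subgroup.orderOf_coe]; exact hz
    rw [ho] at hcard
    exact hcard
  · refine ⟨hP, ?_⟩
    rcases h2 with h3 | h3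
    · exact Or.inl h3.1
    · exact Or.inr h3

/-- **case (M)** for the sheets without the `y`-trick -/
theorem noCompX (hSch : Cfsg.Agent.Schreier.Cases.SchFor.{u} @IsKnownSimple')
    (hGW : SylowSp4.Hyps.GW.{u}) (hI : Intr.{u}) (hLO : LOAll.{u}) (hS : IntrSign'.{u}) :
    NoCompX.{u} (fun _ _ _ P R => SheetM P R) := by
  intro G _ C K t q z P R o sh m M hM
  have hfin := C.fin
  have hsimp := C.simple
  have h := X.hyp o sh m
  have hz := D8.MainE.orderOf_z o.emb
  have hcomp := compOf_map hM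
  have htH : t ∈ centralizer ({(z : G)} : Set G) := mem_centralizer_singleton_iff.2 o.emb.comm
  obtain ⟨hP, hcase⟩ := main_compX C hSch hGW o sh m hM
  have hzM : (z : G) ∈ M.map (centralizer ({(z : G)} : Set G)).subtype :=
    ⟨⟨z, mem_centralizer_singleton_iff.2 rfl⟩, hP ⟨z, sh.zP, rfl⟩, rfl⟩
  have hrk := rank_two C hGW hz hcomp hzM
  have hq := Soft.CompOf.quasisimple hcomp
  have hnt := Soft.CompOf.ne_top C.na hz hcomp
  have hkn := Known.known_quotient C.kproper _ hnt _ hq.2 (Soft.quo_na hq)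
  -- `M` is not of Lie type in odd characteristic
  have hLie : ¬ LieOdd (↥(M.map (centralizer ({(z : G)} : Set G)).subtype) ⧸
      center ↥(M.map (centralizer ({(z : G)} : Set G)).subtype)) := by
    intro ho
    have e : (↥M ⧸ center ↥M) ≃* (↥(M.map (centralizer ({(z : G)} : Set G)).subtype) ⧸
        center ↥(M.map (centralizer ({(z : G)} : Set G)).subtype)) := by
      have e0 : ↥M ≃* ↥(M.map (centralizer ({(z : G)} : Set G)).subtype) :=
        M.equivMapOfInjective _ (centralizer ({(z : G)} : Set G)).subtype_injective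
      exact QuotientGroup.congr _ _ e0 (by
        ext x
        rw [mem_map, mem_center_iff]
        constructor
        · rintro ⟨y, hy, rfl⟩ g
          have h1 := mem_center_iff.1 hy (e0.symm g)
          have h2 := congrArg e0 h1
          rw [map_mul, map_mul, e0.apply_symm_apply] at h2
          exact h2
        · intro hx
          refine ⟨e0.symm x, ?_, e0.apply_symm_apply x⟩
          rw [mem_center_iff]
          intro g
          apply e0.injective
          rw [map_mul, map_mul, e0.apply_symm_apply]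
          exact hx (e0 g))
    exact h.false_of_lo hM hP (Cfsg.Agent.FixBN.LOAut.congr e (hLO _ inferInstance hq.2 ho))
  -- `t` does not centralise `M`
  have hnc : ∃ x ∈ M.map (centralizer ({(z : G)} : Set G)).subtype, t * x ≠ x * t := by
    by_contra hcon
    push Not at hcon
    refine h.not_quasisimple hM.2 (h.RP.trans hP) ?_
    intro x hx
    exact Subtype.ext (hcon x ⟨x, hx, rfl⟩).symm
  rcases hcase with htM | htM
  · -- `t ∈ M`
    obtain ⟨-, hcent, hnorm, hstd⟩ := Table.lemmaS (D₀ := (P.map K.subtype : Subgroup G)) hz o.emb.st.tt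
      hcomp.1 hcomp.2 hzM (by
        intro d hd
        have hdH : d ∈ centralizer ({(z : G)} : Set G) := map_le_cent sh.cen hd
        exact ⟨⟨d, hdH⟩, hP hd, rfl⟩) (by
        intro y hyz hyt hyP
        have hyH : y ∈ centralizer ({(z : G)} : Set G) := mem_centralizer_singleton_iff.2 hyz
        rcases h.cR ⟨y, hyH⟩ (Subtype.ext hyt) (by
          intro r hr
          exact Subtype.ext (hyP r (h.RP hr))) with e | e | e | e
        · exact Or.inl (congrArg Subtype.val e)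
        · exact Or.inr (Or.inr (Or.inl (congrArg Subtype.val e)))
        · exact Or.inr (Or.inl (congrArg Subtype.val e))
        · exact Or.inr (Or.inr (Or.inr (congrArg Subtype.val e))))
      ⟨t, ⟨_, htM, rfl⟩, fun x _ => rfl⟩ hnc
    exact hI G C _ z
      { hz := hz
        comp := hcomp
        zM := hzM
        cent := hcent
        norm := hnorm
        std := hstd
        ne_top := hnt
        z2 := Soft.CompOf.center_isPGroup (C.bal _ hz) hcomp
        rk2 := hrk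
        simple := hq.2
        quo_na := Soft.quo_na hq
        known := hkn }
  · -- `t ∉ M C(M)`: `M` is normal
    have hcj : ∀ g : ↥(centralizer ({(z : G)} : Set G)), cj g M = M := by
      intro g
      by_contra hne
      have hM2 : IsComponent (cj g M) := Cfsg.Agent.Cit.Comp.isComponent_cj hM g
      obtain ⟨hP2, -⟩ := main_compX C hSch hGW o sh m hM2
      apply h.Rna
      intro a ha b hb
      exact Cfsg.Agent.Cit.Comp.comm_of_ne hM hM2 (fun e => hne e.symm) (hP (h.RP ha)) (hP2 (h.RP hb))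
    have hn : ∀ g ∈ centralizer ({(z : G)} : Set G), ∀ x ∈ M.map (centralizer ({(z : G)} : Set G)).subtype,
        g * x * g⁻¹ ∈ M.map (centralizer ({(z : G)} : Set G)).subtype := by
      rintro g hg _ ⟨x, hx, rfl⟩
      refine ⟨⟨g, hg⟩ * x * ⟨g, hg⟩⁻¹, ?_, rfl⟩
      have := conj_mem_cj (g := (⟨g, hg⟩ : ↥(centralizer ({(z : G)} : Set G)))) hx
      rwa [hcj] at this
    have hperf : ⁅M.map (centralizer ({(z : G)} : Set G)).subtype,
        M.map (centralizer ({(z : G)} : Set G)).subtype⁆ = M.map (centralizer ({(z : G)} : Set G)).subtype := by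
      rw [← map_commutator, isPerfect_iff.1 hM.2.1]
    obtain ⟨lam, hlam, -, -⟩ := Table.exists_lam_sub hcomp.1 hn hperf (MulEquiv.refl _)
      (hS G C _ z hz hcomp hzM hrk hq.2 (Soft.quo_na hq) hkn hLie) htH (by
        intro x _
        rw [o.emb.st.tt, one_mul, mul_one]) (by
        rintro _ ⟨x, hx, rfl⟩ c hc hcx e
        apply htM
        have e1 : (⟨t, htH⟩ : ↥(centralizer ({(z : G)} : Set G))) = x * ⟨c, hc⟩ := Subtype.ext e
        rw [e1]
        refine mul_mem (mem_sup_left hx) (mem_sup_right ?_)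
        rw [mem_centralizer_iff]
        intro y hy
        exact Subtype.ext (hcx y ⟨y, hy, rfl⟩).symm)
    have h1 : commutator (centralizer ({(z : G)} : Set G)) ≤ lam.ker := Abelianization.commutator_subset_ker lam
    have h2 : lam ⟨t, htH⟩ = 1 := h1 o.com
    rw [h2] at hlam
    exact absurd hlam (by decide)

end

/-- **case (M)** for the sheets without the `y`-trick, final form -/
theorem noCompX_of (hSch : Cfsg.Agent.Schreier.Cases.SchFor.{u} @IsKnownSimple')
    (hGW : SylowSp4.Hyps.GW.{u}) (hI : Iface.Intr.{u}) (hLO : LOAll.{u}) (hM : Mult.{u}) (R : SignRows.{u}) :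
    NoCompX.{u} (fun _ _ _ P R => SheetM P R) :=
  noCompX hSch hGW (intr_of hI) hLO (intrSign' hM R)

/-- from `SheetX` to `SheetE` -/
theorem NoCompX.noComp {Y : (K : Type u) → [Group K] → K → Subgroup K → Subgroup K → Prop} (h : NoCompX.{u} Y) :
    D8.MainE.NoComp.{u} Y :=
  fun G _ C K t q z P R o sh hY M => h G C K t q z P R o (of_sheetE sh) hY M

end Cfsg.Agent.OddHalf.CaseM

end
end

-- part: OddHalf/D8/ON/Kill
section
/-!
# ODD half, D8, `K = ON`: the component of `C_G(z)` containing `C_K(z)^∞`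

`Out K t q z P` (front end), `SheetON z v P E`; `M` a component of `C_G(z)` containing `P`.

* `exists_w`: some `w ∈ C_G(E)` maps `t` to `t z`;
* `normal`: `M` is normal in `C_G(z)`;
* `not_comm`: `t` does not centralise `M`;
* `no_tv`: `t v` does not centralise `M`;
* `concl`: `t ∈ M` and `C_G(M) ≤ ⟨v⟩`, or `t ∉ M C_G(M)`.
-/

set_option autoImplicit false

namespace Cfsg.Agent.OddHalf.D8.ON.Kill

open Subgroup Cfsg Cfsg.Agent.OddHalf.Front.FE Cfsg.Agent.OddHalf.D8.Sheet Cfsg.Agent.OddHalf.D8.GlueE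
  Cfsg.Agent.OddHalf.D8.Front Cfsg.Agent.OddHalf.D8.ON.Sheet Cfsg.Agent.OddHalf.D3

universe u

/-! ### Facts in `K` -/

section K

variable {K : Type*} [Group K] {z v : K} {P E : Subgroup K}

theorem z_v (sh : SheetON z v P E) : z * v = v * z := by rw [← sh.vv]; group

theorem zv_cases (sh : SheetON z v P E) {u : K} (hu : u ∈ zpowers v) : u = 1 ∨ u = z ∨ u = v ∨ u = z * v := by
  obtain ⟨n, rfl⟩ := mem_zpowers_iff.1 hu
  have h4 : v ^ (4 : ℤ) = 1 := by
    have e : v ^ (4 : ℤ) = (v * v) * (v * v) := by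
      rw [zpow_ofNat, pow_succ, pow_succ, pow_two]; simp only [mul_assoc]
    rw [e, sh.vv, sh.basic.zz]
  have h : v ^ n = v ^ (n % 4) := by
    conv_lhs => rw [← Int.emod_add_mul_ediv n 4, zpow_add, zpow_mul, h4, one_zpow, mul_one]
  rw [h]
  have h1 := Int.emod_nonneg n (show (4 : ℤ) ≠ 0 by norm_num)
  have h2 := Int.emod_lt_of_pos n (show (0 : ℤ) < 4 by norm_num)
  obtain ⟨m, hm⟩ : ∃ m, m = n % 4 := ⟨_, rfl⟩
  rw [← hm] at h1 h2 ⊢
  interval_cases m
  · left; simp
  · right; right; left; simp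
  · right; left
    rw [← sh.vv]; exact zpow_two v
  · right; right; right
    rw [← sh.vv, zpow_ofNat, pow_succ, pow_two]

theorem zv_inv (sh : SheetON z v P E) {u : K} (hu : u ∈ zpowers v) (huu : u * u = 1) : u = 1 ∨ u = z := by
  have hzv := z_v sh
  rcases zv_cases sh hu with h | h | h | h
  · exact Or.inl h
  · exact Or.inr h
  · exfalso
    rw [h, sh.vv] at huu
    exact sh.basic.z1 huu
  · exfalso
    rw [h] at huu
    apply sh.basic.z1
    calc z = (z * z) * (v * v) := by rw [sh.basic.zz, one_mul, sh.vv]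
      _ = z * (z * v) * v := by group
      _ = z * (v * z) * v := by rw [hzv]
      _ = z * v * (z * v) := by group
      _ = 1 := huu

theorem E_comm_v (sh : SheetON z v P E) {e : K} (he : e ∈ E) : e * v = v * e := (sh.Pv e).1 (sh.EP he)

theorem norm_inv [Finite K] {k : K} (h : ∀ y ∈ E, k * y * k⁻¹ ∈ E) {y : K} (hy : y ∈ E) : k⁻¹ * y * k ∈ E := by
  have h1 : E.map (MulAut.conj k).toMonoidHom ≤ E := by
    rintro _ ⟨e, he, rfl⟩
    exact h e he
  have h2 : E.map (MulAut.conj k).toMonoidHom = E := by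
    apply Subgroup.eq_of_le_of_card_ge h1
    exact (Subgroup.card_map_of_injective (MulAut.conj k).injective).ge
  rw [← h2] at hy
  obtain ⟨e, he, h3⟩ := hy
  have h3 : k * e * k⁻¹ = y := h3
  have h4 : k⁻¹ * y * k = e := by rw [← h3]; group
  rw [h4]; exact he

end K

/-! ### Facts in `G` -/

variable {G : Type u} [Group G] {K : Subgroup G} {t q : G} {z v : K} {P E : Subgroup K}

theorem tK_comm (o : Out K t q z P) (k : K) : (k : G) * t = t * k := o.emb.st.Kt k k.2

/-- the centraliser of `P` in `C(t)` -/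
theorem cent_P (o : Out K t q z P) (sh : SheetON z v P E) {c : G} (hct : c * t = t * c)
    (hc : ∀ p ∈ P, c * (p : G) = p * c) : ∃ u ∈ zpowers v, c = (u : G) ∨ c = t * (u : G) := by
  have h := o.emb
  obtain ⟨u, hu, hux⟩ := sh.autP (K.normalizerMonoidHom ⟨c, h.nor hct⟩) (by
    intro p hp
    apply Subtype.ext
    rw [nmh_apply, hc p hp, mul_inv_cancel_right])
  have h3 := exists_of_conj (h.nor hct) hux
  have h4 : (u : G)⁻¹ * c ∈ zpowers q := by
    apply h.st.cK
    · have h5 := h.st.Kt (u : G)⁻¹ (K.inv_mem u.2)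
      calc (u : G)⁻¹ * c * t = (u : G)⁻¹ * (c * t) := by group
        _ = ((u : G)⁻¹ * t) * c := by rw [hct]; group
        _ = t * ((u : G)⁻¹ * c) := by rw [h5]; group
    · exact h3
  refine ⟨u, hu, ?_⟩
  rcases o.Q2 _ h4 with e | e
  · left
    exact (inv_mul_eq_one.1 e).symm
  · right
    rw [← tK_comm o u, ← e]; group

/-- some element of `C_G(E)` maps `t` to `t z` -/
theorem exists_w (o : Out K t q z P) (sh : SheetON z v P E) :
    ∃ w : G, w * t * w⁻¹ = t * z ∧ ∀ e ∈ E, w * (e : G) = e * w := by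
  have hE := o.emb
  obtain ⟨x, -, hxt, hxz⟩ := o.swap
  have hmemP : ∀ y : K, (y : G) ∈ P.map K.subtype ↔ y ∈ P := by
    intro y
    rw [Emb.mem_map]
    exact ⟨fun ⟨_, h⟩ => h, fun h => ⟨y.2, h⟩⟩
  have fwd : ∀ y : P, x * (y : K) * x⁻¹ ∈ P.map K.subtype := fun y =>
    (hE.conj_P_swap hxt hxz).1 ((hmemP _).2 y.2)
  have bwd : ∀ y : P, x⁻¹ * (y : K) * x ∈ P.map K.subtype := fun y =>
    (hE.iso x (Or.inr (Or.inr hxt)) (Or.inr (Or.inl hxz))).2 _ ((hmemP _).2 y.2)
  let β : MulAut P :=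
    { toFun := fun y => ⟨⟨x * (y : K) * x⁻¹, (Emb.mem_map.1 (fwd y)).1⟩, (Emb.mem_map.1 (fwd y)).2⟩
      invFun := fun y => ⟨⟨x⁻¹ * (y : K) * x, (Emb.mem_map.1 (bwd y)).1⟩, (Emb.mem_map.1 (bwd y)).2⟩
      left_inv := by
        intro y
        apply Subtype.ext
        apply Subtype.ext
        show x⁻¹ * (x * (y : K) * x⁻¹) * x = (y : K)
        group
      right_inv := by
        intro y
        apply Subtype.ext
        apply Subtype.ext
        show x * (x⁻¹ * (y : K) * x) * x⁻¹ = (y : K)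
        group
      map_mul' := by
        intro y w
        apply Subtype.ext
        apply Subtype.ext
        show x * ((y : K) * (w : K) : G) * x⁻¹ = (x * (y : K) * x⁻¹) * (x * (w : K) * x⁻¹)
        group }
  obtain ⟨n, hnz, hn⟩ := sh.estar β
  have hn' : ∀ e ∈ E, x * (e : G) * x⁻¹ = (n : G) * e * (n : G)⁻¹ := fun e he => congrArg Subtype.val (hn e he)
  have hnt := tK_comm o n
  have hnz' : (n : G) * z = z * n := congrArg Subtype.val hnz
  refine ⟨(n : G)⁻¹ * x, ?_, ?_⟩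
  · have h1 : (n : G)⁻¹ * t * n = t := by rw [mul_assoc, ← hnt]; group
    have h2 : (n : G)⁻¹ * z * n = z := by rw [mul_assoc, ← hnz']; group
    calc (n : G)⁻¹ * x * t * ((n : G)⁻¹ * x)⁻¹ = (n : G)⁻¹ * (x * t * x⁻¹) * n := by group
      _ = ((n : G)⁻¹ * t * n) * ((n : G)⁻¹ * z * n) := by rw [hxt]; group
      _ = t * z := by rw [h1, h2]
  · intro e he
    calc (n : G)⁻¹ * x * (e : G) = (n : G)⁻¹ * (x * (e : G) * x⁻¹) * x := by group
      _ = (n : G)⁻¹ * ((n : G) * e * (n : G)⁻¹) * x := by rw [hn' e he]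
      _ = (e : G) * ((n : G)⁻¹ * x) := by group

/-- for `e ∈ E`, some element of `C_G(E)` maps `t` to `t e` -/
theorem exists_we [Finite G] (o : Out K t q z P) (sh : SheetON z v P E) {e : K} (he : e ∈ E) (he1 : e ≠ 1) :
    ∃ w : G, w * t * w⁻¹ = t * e ∧ ∀ y ∈ E, w * (y : G) = y * w := by
  obtain ⟨w, hw, hwE⟩ := exists_w o sh
  obtain ⟨k, hk, hkE⟩ := sh.kk e he he1
  have hkt := tK_comm o k
  have h1 : (k : G)⁻¹ * t * k = t := by rw [mul_assoc, ← hkt]; group
  have hk' : (k : G) * z * (k : G)⁻¹ = e := congrArg Subtype.val hk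
  refine ⟨(k : G) * w * (k : G)⁻¹, ?_, ?_⟩
  · calc (k : G) * w * (k : G)⁻¹ * t * ((k : G) * w * (k : G)⁻¹)⁻¹
        = (k : G) * (w * ((k : G)⁻¹ * t * k) * w⁻¹) * (k : G)⁻¹ := by group
      _ = (k : G) * (t * z) * (k : G)⁻¹ := by rw [h1, hw]
      _ = ((k : G) * t) * z * (k : G)⁻¹ := by group
      _ = t * ((k : G) * z * (k : G)⁻¹) := by rw [hkt]; group
      _ = t * e := by rw [hk']
  · intro y hy
    have h2 := hwE _ (norm_inv hkE hy)
    have h3 : (((k⁻¹ * y * k : K)) : G) = (k : G)⁻¹ * y * k := rfl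
    rw [h3] at h2
    calc (k : G) * w * (k : G)⁻¹ * (y : G) = (k : G) * (w * ((k : G)⁻¹ * y * k)) * (k : G)⁻¹ := by group
      _ = (k : G) * (((k : G)⁻¹ * y * k) * w) * (k : G)⁻¹ := by rw [h2]
      _ = (y : G) * ((k : G) * w * (k : G)⁻¹) := by group

/-- `z` does not centralise `k P k⁻¹` if `k z k⁻¹ ≠ z`, `k ∈ N_K(E)` -/
theorem z_not_comm [Finite G] (sh : SheetON z v P E) {k : K}
    (hk : k * z * k⁻¹ ≠ z) : ¬ ∀ p ∈ P, (z : G) * ((k * p * k⁻¹ : K) : G) = ((k * p * k⁻¹ : K) : G) * z := by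
  intro h
  have h1 : k⁻¹ * z * k ∈ zpowers v := by
    apply sh.cenP
    intro p hp
    have h2 : z * (k * p * k⁻¹) = (k * p * k⁻¹) * z := Subtype.ext (h p hp)
    calc k⁻¹ * z * k * p = k⁻¹ * (z * (k * p * k⁻¹)) * k := by group
      _ = k⁻¹ * ((k * p * k⁻¹) * z) * k := by rw [h2]
      _ = p * (k⁻¹ * z * k) := by group
  have h2 : k⁻¹ * z * k * (k⁻¹ * z * k) = 1 := by
    calc k⁻¹ * z * k * (k⁻¹ * z * k) = k⁻¹ * (z * z) * k := by group
      _ = 1 := by rw [sh.basic.zz]; group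
  rcases zv_inv sh h1 h2 with h3 | h3
  · apply sh.basic.z1
    calc z = k * (k⁻¹ * z * k) * k⁻¹ := by group
      _ = 1 := by rw [h3]; group
  · apply hk
    calc k * z * k⁻¹ = k * (k⁻¹ * z * k) * k⁻¹ := by rw [h3]
      _ = z := by group

theorem P_le_M {M : Subgroup G} (hPM : P.map K.subtype ≤ M) {p : K} (hp : p ∈ P) : (p : G) ∈ M :=
  hPM ⟨p, hp, rfl⟩

/-- **`M` is normal in `C_G(z)`** -/
theorem normal [Finite G] (o : Out K t q z P) (sh : SheetON z v P E)
    (hbal : ∀ y : G, orderOf y = 2 → centralizerPPrimeCore 2 y = ⊥)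
    (hev : ∀ (y : G) (L : Subgroup G), orderOf y = 2 → Comp y L → 2 ∣ Nat.card L)
    {M : Subgroup G} (hM : Comp (z : G) M) (hPM : P.map K.subtype ≤ M) {g : G} (hg : g * z = z * g) :
    cj g M = M := by
  by_contra hne
  have hz2 : orderOf (z : G) = 2 := orderOf_eq_prime (by rw [pow_two]; exact o.emb.zz) o.emb.z1
  have hN : Comp (z : G) (cj g M) := hM.conj_of_comm hg
  have hMN : cj g M ≤ centralizer (M : Set G) := hN.comm hM hne
  have hzM : (z : G) ∈ M := P_le_M hPM sh.basic.zP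
  have hzN : (z : G) ∈ cj g M := by
    rw [mem_cj]
    have : g⁻¹ * z * g = z := by rw [mul_assoc, ← hg]; group
    rw [this]; exact hzM
  obtain ⟨-, -, e, -, -, he, he1, hez, -⟩ := sh.rel
  obtain ⟨k, hk, hkE⟩ := sh.kk e he he1
  have hk' : (k : G) * z * (k : G)⁻¹ = e := congrArg Subtype.val hk
  have hkz : k * z * k⁻¹ ≠ z := by rw [hk]; exact hez
  have he2 : orderOf (e : G) = 2 := by
    rw [← hk', orderOf_conj]; exact hz2
  have hecomm : (e : G) * z = z * e := congrArg Subtype.val (sh.ec e he z sh.zE)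
  have hMe : Comp (e : G) (cj (k : G) M) := by
    have := hM.conj (k : G)
    rwa [hk'] at this
  have hPe : ∀ p ∈ P, ((k * p * k⁻¹ : K) : G) ∈ cj (k : G) M := fun p hp =>
    conj_mem_cj (g := (k : G)) (P_le_M hPM hp)
  have hzMe : (z : G) ∈ cj (k : G) M := by
    have h1 : k⁻¹ * z * k ∈ E := norm_inv hkE sh.zE
    rw [mem_cj]
    exact P_le_M hPM (sh.EP h1)
  -- `N ≤ C(e) ∩ C(z)`
  have hNe : cj g M ≤ centralizer ({(e : G)} : Set G) := by
    intro x hx
    rw [mem_cs]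
    exact (mem_centralizer_iff.1 (hMN hx) e (P_le_M hPM (sh.EP he))).symm
  have hsub : ((cj g M).subgroupOf (centralizer ({(e : G)} : Set G) ⊓ centralizer ({(z : G)} : Set G))).IsSubnormal := by
    let ι : ↥(centralizer ({(e : G)} : Set G) ⊓ centralizer ({(z : G)} : Set G)) →*
      ↥(centralizer ({(z : G)} : Set G)) := inclusion inf_le_right
    have h2 : (cj g M).subgroupOf (centralizer ({(e : G)} : Set G) ⊓ centralizer ({(z : G)} : Set G)) =
        ((cj g M).subgroupOf (centralizer ({(z : G)} : Set G))).comap ι := rfl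
    rw [h2]
    exact hN.comp.1.comap ι
  obtain ⟨D, hD, hcase⟩ := PumpX.pump (a := (e : G)) (t := (z : G)) (hbal _ he2) o.emb.zz hecomm hNe hN.le hN.quasi
    (hev _ _ hz2 hN) hsub
  -- `z` normalises the components of `C(e)`
  have hzD : cj (z : G) D = D := by
    by_cases h : D = cj (k : G) M
    · rw [h]; exact cj_eq_of_mem hzMe
    · exact cj_eq_of_mem_centralizer (comm_symm (hD.comm hMe h) hzMe)
  have hle : cj g M ≤ D := by
    rcases hcase with h | h | h
    · exact h.le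
    · exact h.1.le
    · exact absurd hzD h.1
  apply z_not_comm sh hkz
  intro p hp
  by_cases h : D = cj (k : G) M
  · -- `N = k M k⁻¹`
    have h1 : cj g M = D := by
      apply Subgroup.eq_of_le_of_card_ge hle
      rw [h, card_cj, card_cj]
    have h2 : ((k * p * k⁻¹ : K) : G) ∈ cj g M := by rw [h1, h]; exact hPe p hp
    exact (mem_cs.1 (hN.le h2)).symm
  · exact comm_elt (hD.comm hMe h) (hle hzN) (hPe p hp)

section Main

variable {M : Subgroup G}

/-- the facts on `M` -/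
structure Nc (z : G) (J M : Subgroup G) : Prop where
  comp : Comp z M
  JM : J ≤ M
  n : ∀ g : G, g * z = z * g → cj g M = M

theorem zM (sh : SheetON z v P E) (h : Nc (z : G) (P.map K.subtype) M) : (z : G) ∈ M :=
  P_le_M h.JM sh.basic.zP

/-- **`t` does not centralise `M`** -/
theorem not_comm [Finite G] (o : Out K t q z P) (sh : SheetON z v P E) (h : Nc (z : G) (P.map K.subtype) M) :
    ¬ ∀ x ∈ M, t * x = x * t := by
  intro ht
  obtain ⟨-, -, e, -, -, he, he1, hez, -⟩ := sh.rel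
  obtain ⟨w, hwt, hwE⟩ := exists_we o sh he he1
  have hwz := hwE z sh.zE
  have hte : ∀ y ∈ M, t * e * y = y * (t * e) := by
    intro y hy
    have h1 : w⁻¹ * y * w ∈ M := by
      rw [← mem_cj, h.n w hwz]; exact hy
    have h2 := ht _ h1
    calc t * e * y = w * (t * (w⁻¹ * y * w)) * w⁻¹ := by rw [← hwt]; group
      _ = w * ((w⁻¹ * y * w) * t) * w⁻¹ := by rw [h2]
      _ = y * (t * e) := by rw [← hwt]; group
  have he' : e ∈ zpowers v := by
    apply sh.cenP
    intro p hp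
    apply Subtype.ext
    show (e : G) * p = p * e
    have h1 := ht p (P_le_M h.JM hp)
    have h2 := hte p (P_le_M h.JM hp)
    calc (e : G) * p = t⁻¹ * (t * e * p) := by group
      _ = t⁻¹ * (p * (t * e)) := by rw [h2]
      _ = t⁻¹ * (p * t) * e := by group
      _ = t⁻¹ * (t * p) * e := by rw [h1]
      _ = p * e := by group
  rcases zv_inv sh he' (sh.ee e he) with h1 | h1
  · exact he1 h1
  · exact hez h1

/-- elements of `C(M) ∩ C(t)`, first step -/
theorem cent_M (o : Out K t q z P) (sh : SheetON z v P E) (h : Nc (z : G) (P.map K.subtype) M) {c : G}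
    (hcM : ∀ x ∈ M, c * x = x * c) (hct : c * t = t * c) : ∃ u ∈ zpowers v, c = (u : G) ∨ c = t * (u : G) :=
  cent_P o sh hct fun p hp => hcM p (P_le_M h.JM hp)

/-- **`t v` does not centralise `M`** -/
theorem no_tv [Finite G] (o : Out K t q z P) (sh : SheetON z v P E) (h : Nc (z : G) (P.map K.subtype) M) :
    ¬ ∀ x ∈ M, t * v * x = x * (t * v) := by
  intro htv
  have htt := o.emb.st.tt
  have hzz := o.emb.zz
  have hnc := not_comm o sh h
  have hvt := tK_comm o v
  have hzMc : ∀ x ∈ M, (z : G) * x = x * z := fun x hx => (mem_cs.1 (h.comp.le hx)).symm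
  have hvM : (v : G) ∈ M := P_le_M h.JM ((sh.Pv v).2 rfl)
  -- the elements of `M ∩ C(M) ∩ C(t)` are `1`, `z`, `t v`, `t v z`
  have key0 : ∀ y ∈ M, (∀ x ∈ M, y * x = x * y) → y * t = t * y →
      y = 1 ∨ y = z ∨ y = t * v ∨ y = t * v * z := by
    intro y hy hyM hyt
    obtain ⟨u, hu, huy⟩ := cent_M o sh h hyM hyt
    rcases huy with huy | huy
    · rcases zv_cases sh hu with h1 | h1 | h1 | h1
      · left; rw [huy, h1]; rfl
      · right; left; rw [huy, h1]
      · exfalso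
        apply hnc
        intro x hx
        have h2 := htv x hx
        have h3 := hyM x hx
        rw [huy, h1] at h3
        calc t * x = (t * v * x) * (x⁻¹ * (v : G)⁻¹ * x) := by group
          _ = (x * (t * v)) * (x⁻¹ * (v : G)⁻¹ * x) := by rw [h2]
          _ = x * t * v * (x⁻¹ * ((v : G)⁻¹ * x)) := by group
          _ = x * t * v * (x⁻¹ * (x * (v : G)⁻¹)) := by
            have : (v : G)⁻¹ * x = x * (v : G)⁻¹ := by
              rw [inv_mul_eq_iff_eq_mul, ← mul_assoc, h3]; group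
            rw [this]
          _ = x * t := by group
      · exfalso
        apply hnc
        intro x hx
        have h2 := htv x hx
        have h3 := hyM x hx
        have h4 : (u : G) = z * v := by rw [h1]; rfl
        have hzv : (z : G) * v = v * z := congrArg Subtype.val (z_v sh)
        rw [huy, h4] at h3
        have h5 : (v : G) * x = x * v := by
          have h6 := hzMc x hx
          calc (v : G) * x = (z : G)⁻¹ * (z * v * x) := by group
            _ = (z : G)⁻¹ * (x * (z * v)) := by rw [h3]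
            _ = (z : G)⁻¹ * (x * z) * v := by group
            _ = (z : G)⁻¹ * (z * x) * v := by rw [h6]
            _ = x * v := by group
        have h7 : (v : G)⁻¹ * x = x * (v : G)⁻¹ := by
          rw [inv_mul_eq_iff_eq_mul, ← mul_assoc, h5]; group
        calc t * x = (t * v * x) * (x⁻¹ * ((v : G)⁻¹ * x)) := by group
          _ = (x * (t * v)) * (x⁻¹ * (x * (v : G)⁻¹)) := by rw [h2, h7]
          _ = x * t := by group
    · rcases zv_cases sh hu with h1 | h1 | h1 | h1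
      · exfalso
        apply hnc
        intro x hx
        have h3 := hyM x hx
        rw [huy, h1] at h3
        simpa only [_root_.OneMemClass.coe_one, _root_.mul_one] using h3
      · exfalso
        apply hnc
        intro x hx
        have h3 := hyM x hx
        rw [huy, h1] at h3
        have h6 := hzMc x hx
        calc t * x = t * (x * z) * (z : G)⁻¹ := by group
          _ = (t * z * x) * (z : G)⁻¹ := by rw [← h6]; group
          _ = x * t := by rw [h3]; group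
      · right; right; left
        rw [huy, h1]
      · right; right; right
        have h4 : (u : G) = z * v := by rw [h1]; rfl
        have hzv : (z : G) * v = v * z := congrArg Subtype.val (z_v sh)
        rw [huy, h4, hzv]; group
  obtain ⟨k1, k2, e, hk1, hk2, he, he1, hez, he3, he4, hk12, hrel⟩ := sh.rel
  obtain ⟨w, hwt, hwE⟩ := exists_we o sh he he1
  -- the action of `w` on `k v k⁻¹`
  have key : ∀ k : K, (∀ y ∈ E, k * y * k⁻¹ ∈ E) → ∃ y : K, (y = 1 ∨ y = k * z * k⁻¹) ∧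
      w * ((k * v * k⁻¹ : K) : G) * w⁻¹ = ((k * v * k⁻¹ : K) : G) * e * y := by
    intro k hkE
    have hkt := tK_comm o k
    have hkt' : (k : G)⁻¹ * t = t * (k : G)⁻¹ := by
      rw [inv_mul_eq_iff_eq_mul, ← mul_assoc, hkt, mul_assoc, mul_inv_cancel, mul_one]
    have hMe : Comp ((k : G) * z * (k : G)⁻¹) (cj (k : G) M) := h.comp.conj (k : G)
    have hfE : k * z * k⁻¹ ∈ E := hkE z sh.zE
    -- `w` normalises `k M k⁻¹`
    have hwf := hwE _ hfE
    have hwn : cj w (cj (k : G) M) = cj (k : G) M := by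
      have h1 : ((k : G)⁻¹ * w * k) * z = z * ((k : G)⁻¹ * w * k) := by
        have h2 : ((k * z * k⁻¹ : K) : G) = (k : G) * z * (k : G)⁻¹ := rfl
        rw [h2] at hwf
        calc ((k : G)⁻¹ * w * k) * z = (k : G)⁻¹ * (w * ((k : G) * z * (k : G)⁻¹)) * k := by group
          _ = (k : G)⁻¹ * (((k : G) * z * (k : G)⁻¹) * w) * k := by rw [hwf]
          _ = z * ((k : G)⁻¹ * w * k) := by group
      have h2 := h.n _ h1
      have h3 := congrArg (cj (k : G)) h2
      rw [cj_cj] at h3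
      rw [cj_cj]
      have h4 : (k : G) * ((k : G)⁻¹ * w * k) = w * k := by group
      rwa [h4] at h3
    obtain ⟨V, hV⟩ : ∃ V : G, V = ((k * v * k⁻¹ : K) : G) := ⟨_, rfl⟩
    have hVe : V = (k : G) * v * (k : G)⁻¹ := hV
    rw [← hV]
    have hVM : V ∈ cj (k : G) M := by rw [hVe]; exact conj_mem_cj hvM
    have htV : t * V = V * t := by
      rw [hVe]
      calc t * ((k : G) * v * (k : G)⁻¹) = (t * k) * v * (k : G)⁻¹ := by group
        _ = k * (t * v) * (k : G)⁻¹ := by rw [← hkt]; group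
        _ = k * v * (t * (k : G)⁻¹) := by rw [← hvt]; group
        _ = (k : G) * v * (k : G)⁻¹ * t := by rw [← hkt']; group
    have heV : (e : G) * V = V * e := by
      have h1 : k⁻¹ * e * k ∈ E := norm_inv hkE he
      have h2 := E_comm_v sh h1
      rw [hV]
      have h3 : e * (k * v * k⁻¹) = (k * v * k⁻¹) * e := by
        calc e * (k * v * k⁻¹) = k * ((k⁻¹ * e * k) * v) * k⁻¹ := by group
          _ = k * (v * (k⁻¹ * e * k)) * k⁻¹ := by rw [h2]
          _ = (k * v * k⁻¹) * e := by group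
      exact congrArg Subtype.val h3
    have heMk : (e : G) ∈ cj (k : G) M := by
      rw [mem_cj]
      exact P_le_M h.JM (sh.EP (norm_inv hkE he))
    -- `c = t V` centralises `k M k⁻¹`
    have hc : ∀ x ∈ cj (k : G) M, t * V * x = x * (t * V) := by
      intro x hx
      rw [mem_cj] at hx
      have h1 := htv _ hx
      have h2 : t * V = k * (t * v) * (k : G)⁻¹ := by
        rw [hVe]
        calc t * ((k : G) * v * (k : G)⁻¹) = (t * k) * v * (k : G)⁻¹ := by group
          _ = k * (t * v) * (k : G)⁻¹ := by rw [← hkt]; group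
      rw [h2]
      calc k * (t * v) * (k : G)⁻¹ * x = k * (t * v * ((k : G)⁻¹ * x * k)) * (k : G)⁻¹ := by group
        _ = k * (((k : G)⁻¹ * x * k) * (t * v)) * (k : G)⁻¹ := by rw [h1]
        _ = x * (k * (t * v) * (k : G)⁻¹) := by group
    have hVw : w * V * w⁻¹ ∈ cj (k : G) M := by
      have := conj_mem_cj (g := w) hVM
      rwa [hwn] at this
    -- `c' = w c w⁻¹`
    have hc' : ∀ x ∈ cj (k : G) M, (t * e * (w * V * w⁻¹)) * x = x * (t * e * (w * V * w⁻¹)) := by
      intro x hx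
      have h1 : w⁻¹ * x * w ∈ cj (k : G) M := by
        rw [← mem_cj, hwn]; exact hx
      have h2 := hc _ h1
      have h3 : t * e * (w * V * w⁻¹) = w * (t * V) * w⁻¹ := by
        rw [← hwt]; group
      rw [h3]
      calc w * (t * V) * w⁻¹ * x = w * (t * V * (w⁻¹ * x * w)) * w⁻¹ := by group
        _ = w * ((w⁻¹ * x * w) * (t * V)) * w⁻¹ := by rw [h2]
        _ = x * (w * (t * V) * w⁻¹) := by group
    -- `y = c⁻¹ c'`
    obtain ⟨y, hy⟩ : ∃ y : G, y = V⁻¹ * e * (w * V * w⁻¹) := ⟨_, rfl⟩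
    have hyM : y ∈ cj (k : G) M := by
      rw [hy]
      exact mul_mem (mul_mem (inv_mem hVM) heMk) hVw
    have hyc : y = (t * V)⁻¹ * (t * e * (w * V * w⁻¹)) := by rw [hy]; group
    have hyR : ∀ x ∈ cj (k : G) M, y * x = x * y := by
      intro x hx
      have h1 := hc' x hx
      have h2 := hc x hx
      have h3 : (t * V)⁻¹ * x = x * (t * V)⁻¹ := by
        rw [inv_mul_eq_iff_eq_mul, ← mul_assoc, h2]; group
      rw [hyc, mul_assoc, h1, ← mul_assoc, h3, mul_assoc]
    have hyt : y * t = t * y := by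
      -- `t = (t V) V⁻¹`
      have h1 := hc y hyM
      have h2 : y * V = V * y := hyR V hVM
      have h3 : y * V⁻¹ = V⁻¹ * y := by
        rw [eq_inv_mul_iff_mul_eq, ← mul_assoc, ← h2]; group
      calc y * t = (y * (t * V)) * V⁻¹ := by group
        _ = t * V * (y * V⁻¹) := by rw [← h1]; group
        _ = t * y := by rw [h3]; group
    -- transport to `M`
    obtain ⟨y0, hy0⟩ : ∃ y0 : G, y0 = (k : G)⁻¹ * y * k := ⟨_, rfl⟩
    have hy0M : y0 ∈ M := by rw [hy0, ← mem_cj]; exact hyM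
    have hyy0 : y = k * y0 * (k : G)⁻¹ := by rw [hy0]; group
    have hy0R : ∀ x ∈ M, y0 * x = x * y0 := by
      intro x hx
      have h1 := hyR _ (conj_mem_cj (g := (k : G)) hx)
      rw [hyy0] at h1
      calc y0 * x = (k : G)⁻¹ * (k * y0 * (k : G)⁻¹ * (k * x * (k : G)⁻¹)) * k := by group
        _ = (k : G)⁻¹ * (k * x * (k : G)⁻¹ * (k * y0 * (k : G)⁻¹)) * k := by rw [h1]
        _ = x * y0 := by group
    have hy0t : y0 * t = t * y0 := by
      rw [hy0]
      calc (k : G)⁻¹ * y * k * t = (k : G)⁻¹ * y * (k * t) := by group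
        _ = (k : G)⁻¹ * (y * t) * k := by rw [hkt]; group
        _ = ((k : G)⁻¹ * t) * y * k := by rw [hyt]; group
        _ = t * ((k : G)⁻¹ * y * k) := by rw [hkt']; group
    have hVV : V * V = (k : G) * z * (k : G)⁻¹ := by
      have h1 : (k * v * k⁻¹) * (k * v * k⁻¹) = k * z * k⁻¹ := by
        rw [← sh.vv]; group
      rw [hV]
      exact congrArg Subtype.val h1
    have hfin : y0 = 1 ∨ y0 = z := by
      rcases key0 y0 hy0M hy0R hy0t with h1 | h1 | h1 | h1
      · exact Or.inl h1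
      · exact Or.inr h1
      · -- `c' = c²`, an involution
        exfalso
        have h2 : y = t * V := by
          rw [hyy0, h1, hVe]
          calc k * (t * v) * (k : G)⁻¹ = (k * t) * v * (k : G)⁻¹ := by group
            _ = t * (k * v * (k : G)⁻¹) := by rw [hkt]; group
        have h3 : w * (t * V) * w⁻¹ = t * V * (t * V) := by
          have h4 : w * (t * V) * w⁻¹ = t * e * (w * V * w⁻¹) := by rw [← hwt]; group
          have h5 : t * e * (w * V * w⁻¹) = t * V * y := by rw [hyc]; group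
          rw [h4, h5, h2]
        have h4 : (t * V) * (t * V) = (k : G) * z * (k : G)⁻¹ := by
          calc (t * V) * (t * V) = t * (V * t) * V := by group
            _ = (t * t) * (V * V) := by rw [← htV]; group
            _ = (k : G) * z * (k : G)⁻¹ := by rw [htt, one_mul, hVV]
        have h5 : w * ((t * V) * (t * V)) * w⁻¹ = 1 := by
          calc w * ((t * V) * (t * V)) * w⁻¹ = (w * (t * V) * w⁻¹) * (w * (t * V) * w⁻¹) := by group
            _ = (k * z * (k : G)⁻¹) * (k * z * (k : G)⁻¹) := by rw [h3, h4]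
            _ = k * (z * z) * (k : G)⁻¹ := by group
            _ = 1 := by rw [hzz]; group
        rw [h4] at h5
        apply o.emb.z1
        calc (z : G) = ((k : G)⁻¹ * w⁻¹) * (w * ((k : G) * z * (k : G)⁻¹) * w⁻¹) * (w * k) := by group
          _ = 1 := by rw [h5]; group
      · -- `c' = 1`
        exfalso
        have h2 : y = t * V * (k * z * (k : G)⁻¹) := by
          rw [hyy0, h1, hVe]
          calc k * (t * v * z) * (k : G)⁻¹ = (k * t) * v * z * (k : G)⁻¹ := by group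
            _ = t * (k * v * (k : G)⁻¹) * (k * z * (k : G)⁻¹) := by rw [hkt]; group
        have h4 : (t * V) * (t * V) = (k : G) * z * (k : G)⁻¹ := by
          calc (t * V) * (t * V) = t * (V * t) * V := by group
            _ = (t * t) * (V * V) := by rw [← htV]; group
            _ = (k : G) * z * (k : G)⁻¹ := by rw [htt, one_mul, hVV]
        have h3 : w * (t * V) * w⁻¹ = 1 := by
          have h5 : w * (t * V) * w⁻¹ = t * e * (w * V * w⁻¹) := by rw [← hwt]; group
          have h6 : w * (t * V) * w⁻¹ = (t * V) * y := by rw [h5, hyc]; group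
          rw [h6, h2, ← mul_assoc, h4]
          calc (k : G) * z * (k : G)⁻¹ * (k * z * (k : G)⁻¹) = k * (z * z) * (k : G)⁻¹ := by group
            _ = 1 := by rw [hzz]; group
        have h5 : t * V = 1 := by
          calc t * V = w⁻¹ * (w * (t * V) * w⁻¹) * w := by group
            _ = 1 := by rw [h3]; group
        rw [h5, one_mul] at h4
        apply o.emb.z1
        calc (z : G) = (k : G)⁻¹ * (k * z * (k : G)⁻¹) * k := by group
          _ = 1 := by rw [← h4]; group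
    have hwV : w * V * w⁻¹ = V * e * y := by
      have h1 : w * V * w⁻¹ = (e : G)⁻¹ * V * y := by rw [hy]; group
      have h2 : (e : G)⁻¹ = e := inv_eq_of_mul_eq_one_right (congrArg Subtype.val (sh.ee e he))
      rw [h1, h2, heV]
    rcases hfin with h1 | h1
    · refine ⟨1, Or.inl rfl, ?_⟩
      rw [hwV, hyy0, h1]
      simp
    · refine ⟨k * z * k⁻¹, Or.inr rfl, ?_⟩
      rw [hwV, hyy0, h1]
      rfl
  -- the relation
  obtain ⟨y0, hy0, hw0⟩ := key 1 (fun y hy => by rw [one_mul, inv_one, mul_one]; exact hy)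
  obtain ⟨y1, hy1, hw1⟩ := key k1 hk1
  obtain ⟨y2, hy2, hw2⟩ := key k2 hk2
  have h1k : (1 : K) * v * 1⁻¹ = v := by group
  have h1z : (1 : K) * z * 1⁻¹ = z := by group
  rw [h1k] at hw0
  rw [h1z] at hy0
  obtain ⟨a1, ha1⟩ : ∃ a1, a1 = k1 * v * k1⁻¹ := ⟨_, rfl⟩
  obtain ⟨a2, ha2⟩ : ∃ a2, a2 = k2 * v * k2⁻¹ := ⟨_, rfl⟩
  obtain ⟨b1, hb1⟩ : ∃ b1, b1 = k1 * z * k1⁻¹ := ⟨_, rfl⟩
  obtain ⟨b2, hb2⟩ : ∃ b2, b2 = k2 * z * k2⁻¹ := ⟨_, rfl⟩
  rw [← ha1] at hw1
  rw [← ha2] at hw2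
  rw [← hb1] at hy1 he3 he4 hk12
  rw [← hb2] at hy2 hk12
  rw [← ha1, ← ha2] at hrel
  have hb1E : b1 ∈ E := by rw [hb1]; exact hk1 z sh.zE
  have hb2E : b2 ∈ E := by rw [hb2]; exact hk2 z sh.zE
  have hy0E : y0 ∈ E := by rcases hy0 with h | h <;> rw [h]; exacts [E.one_mem, sh.zE]
  have hy1E : y1 ∈ E := by rcases hy1 with h | h <;> rw [h]; exacts [E.one_mem, hb1E]
  have hy2E : y2 ∈ E := by rcases hy2 with h | h <;> rw [h]; exacts [E.one_mem, hb2E]
  -- elements of `E` commute with `v, a1, a2`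
  have cv : ∀ x ∈ E, Commute x v := fun x hx => E_comm_v sh hx
  have ck : ∀ k : K, (∀ y ∈ E, k * y * k⁻¹ ∈ E) → ∀ x ∈ E, Commute x (k * v * k⁻¹) := by
    intro k hkE x hx
    have h2 := E_comm_v sh (norm_inv hkE hx)
    show x * (k * v * k⁻¹) = (k * v * k⁻¹) * x
    calc x * (k * v * k⁻¹) = k * ((k⁻¹ * x * k) * v) * k⁻¹ := by group
      _ = k * (v * (k⁻¹ * x * k)) * k⁻¹ := by rw [h2]
      _ = (k * v * k⁻¹) * x := by group
  have c1 : ∀ x ∈ E, Commute x a1 := fun x hx => by rw [ha1]; exact ck k1 hk1 x hx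
  have c2 : ∀ x ∈ E, Commute x a2 := fun x hx => by rw [ha2]; exact ck k2 hk2 x hx
  have hw0' : w * ((v : K) : G) * w⁻¹ = ((v * e * y0 : K) : G) := hw0
  have hw1' : w * ((a1 : K) : G) * w⁻¹ = ((a1 * e * y1 : K) : G) := hw1
  have hw2' : w * ((a2 : K) : G) * w⁻¹ = ((a2 * e * y2 : K) : G) := hw2
  have hg : w * (((v * a1 * a2⁻¹ : K)) : G) * w⁻¹ = ((v * a1 * a2⁻¹ : K) : G) := by
    rw [hwE _ hrel]; group
  have hg2 : w * (((v * a1 * a2⁻¹ : K)) : G) * w⁻¹ =
      (((v * e * y0) * (a1 * e * y1) * (a2 * e * y2)⁻¹ : K) : G) := by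
    calc w * (((v * a1 * a2⁻¹ : K)) : G) * w⁻¹
        = (w * ((v : K) : G) * w⁻¹) * (w * ((a1 : K) : G) * w⁻¹) * (w * ((a2 : K) : G) * w⁻¹)⁻¹ := by
          show w * ((v : G) * (a1 : G) * (a2 : G)⁻¹) * w⁻¹ = _
          group
      _ = _ := by rw [hw0', hw1', hw2']; rfl
  have h3 : (v * e * y0) * (a1 * e * y1) * (a2 * e * y2)⁻¹ = v * a1 * a2⁻¹ := by
    apply Subtype.ext
    rw [← hg2, hg]
  have hee := sh.ee
  have hec := sh.ec
  have h4 : (v * e * y0) * (a1 * e * y1) * (a2 * e * y2)⁻¹ = v * a1 * a2⁻¹ * (e * y0 * y1 * y2) := by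
    have i1 : e⁻¹ = e := inv_eq_of_mul_eq_one_right (hee e he)
    have i2 : y2⁻¹ = y2 := inv_eq_of_mul_eq_one_right (hee y2 hy2E)
    have m1 : Commute (e * y0) a1 := (c1 _ (E.mul_mem he hy0E))
    have m2 : Commute (y2 * e) a2⁻¹ := (c2 _ (E.mul_mem hy2E he)).inv_right
    have m3 : Commute ((e * y0) * (e * y1)) a2⁻¹ :=
      (c2 _ (E.mul_mem (E.mul_mem he hy0E) (E.mul_mem he hy1E))).inv_right
    have m4 : Commute y0 e := hec _ hy0E _ he
    have m5 : Commute y1 y2 := hec _ hy1E _ hy2E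
    have m6 : Commute y1 e := hec _ hy1E _ he
    have m7 : Commute y2 e := hec _ hy2E _ he
    calc (v * e * y0) * (a1 * e * y1) * (a2 * e * y2)⁻¹
        = v * ((e * y0) * a1) * (e * y1) * (y2⁻¹ * e⁻¹ * a2⁻¹) := by group
      _ = v * (a1 * (e * y0)) * (e * y1) * ((y2 * e) * a2⁻¹) := by rw [m1.eq, i1, i2]
      _ = v * a1 * ((e * y0) * (e * y1)) * (a2⁻¹ * (y2 * e)) := by rw [m2.eq]; group
      _ = v * a1 * (((e * y0) * (e * y1)) * a2⁻¹) * (y2 * e) := by group
      _ = v * a1 * (a2⁻¹ * ((e * y0) * (e * y1))) * (y2 * e) := by rw [m3.eq]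
      _ = v * a1 * a2⁻¹ * (e * (y0 * e) * y1 * (y2 * e)) := by group
      _ = v * a1 * a2⁻¹ * (e * (e * y0) * y1 * (e * y2)) := by rw [m4.eq, m7.eq]
      _ = v * a1 * a2⁻¹ * ((e * e) * y0 * (y1 * e) * y2) := by group
      _ = v * a1 * a2⁻¹ * (y0 * (e * y1) * y2) := by rw [hee e he, one_mul, m6.eq]
      _ = v * a1 * a2⁻¹ * ((y0 * e) * y1 * y2) := by group
      _ = v * a1 * a2⁻¹ * (e * y0 * y1 * y2) := by rw [m4.eq]
  rw [h3] at h4
  have h5 : e * y0 * y1 * y2 = 1 := by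
    have := mul_left_cancel (h4.symm.trans (mul_one _).symm)
    exact this
  -- `e = y0 y1 y2`
  have h6 : e = y0 * y1 * y2 := by
    have i : (y0 * y1 * y2)⁻¹ = y0 * y1 * y2 :=
      inv_eq_of_mul_eq_one_right (hee _ (E.mul_mem (E.mul_mem hy0E hy1E) hy2E))
    rw [← i, eq_inv_iff_mul_eq_one, ← h5]; group
  have hzz' := sh.basic.zz
  have hbb : b1 * b1 = 1 := hee _ hb1E
  have hbz : b1 * z = z * b1 := hec _ hb1E _ sh.zE
  rcases hy0 with h0 | h0 <;> rcases hy1 with h1 | h1 <;> rcases hy2 with h2 | h2 <;>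
    rw [h0, h1, h2] at h6
  · exact he1 (by rw [h6]; group)
  · exact he4 (by rw [h6, hk12]; group)
  · exact he3 (by rw [h6]; group)
  · apply hez
    rw [h6, hk12]
    calc 1 * b1 * (z * b1) = (b1 * z) * b1 := by group
      _ = z * (b1 * b1) := by rw [hbz]; group
      _ = z := by rw [hbb, mul_one]
  · exact hez (by rw [h6]; group)
  · apply he3
    rw [h6, hk12]
    calc z * 1 * (z * b1) = (z * z) * b1 := by group
      _ = b1 := by rw [hzz', one_mul]
  · exact he4 (by rw [h6]; group)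
  · apply he1
    rw [h6, hk12]
    calc z * b1 * (z * b1) = z * (b1 * z) * b1 := by group
      _ = (z * z) * (b1 * b1) := by rw [hbz]; group
      _ = 1 := by rw [hzz', hbb, one_mul]

/-- the centraliser of `M` and `t` -/
theorem cent_Mt [Finite G] (o : Out K t q z P) (sh : SheetON z v P E) (h : Nc (z : G) (P.map K.subtype) M)
    {c : G} (hcM : ∀ x ∈ M, c * x = x * c) (hct : c * t = t * c) : ∃ u ∈ zpowers v, c = (u : G) := by
  obtain ⟨u, hu, hc | hc⟩ := cent_M o sh h hcM hct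
  · exact ⟨u, hu, hc⟩
  exfalso
  have hzMc : ∀ x ∈ M, (z : G) * x = x * z := fun x hx => (mem_cs.1 (h.comp.le hx)).symm
  rcases zv_cases sh hu with h1 | h1 | h1 | h1
  · apply not_comm o sh h
    intro x hx
    have h3 := hcM x hx
    rw [hc, h1] at h3
    simpa only [_root_.OneMemClass.coe_one, _root_.mul_one] using h3
  · apply not_comm o sh h
    intro x hx
    have h3 := hcM x hx
    rw [hc, h1] at h3
    have h6 := hzMc x hx
    calc t * x = t * (x * z) * (z : G)⁻¹ := by group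
      _ = (t * z * x) * (z : G)⁻¹ := by rw [← h6]; group
      _ = x * t := by rw [h3]; group
  · apply no_tv o sh h
    intro x hx
    have h3 := hcM x hx
    rwa [hc, h1] at h3
  · apply no_tv o sh h
    intro x hx
    have h3 := hcM x hx
    have h4 : (u : G) = v * z := by
      rw [h1, z_v sh]; rfl
    rw [hc, h4] at h3
    have h6 := hzMc x hx
    calc t * v * x = t * v * (x * z) * (z : G)⁻¹ := by group
      _ = (t * (v * z) * x) * (z : G)⁻¹ := by rw [← h6]; group
      _ = x * (t * v) := by rw [h3]; group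

/-- **conclusion** -/
theorem concl [Finite G] (o : Out K t q z P) (sh : SheetON z v P E) (h : Nc (z : G) (P.map K.subtype) M) :
    (t ∈ M ∧ centralizer (M : Set G) ≤ zpowers (v : G)) ∨
      ∀ m ∈ M, ∀ c : G, (∀ x ∈ M, c * x = x * c) → t ≠ m * c := by
  by_cases hcase : ∃ m ∈ M, ∃ c : G, (∀ x ∈ M, c * x = x * c) ∧ t = m * c
  · left
    obtain ⟨m, hm, c, hc, htmc⟩ := hcase
    have hct : c * t = t * c := by
      rw [htmc, ← mul_assoc, hc m hm]
    obtain ⟨u, hu, hcu⟩ := cent_Mt o sh h hc hct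
    have huM : (u : G) ∈ M := by
      obtain ⟨n, rfl⟩ := mem_zpowers_iff.1 hu
      exact P_le_M h.JM (zpow_mem ((sh.Pv v).2 rfl) n)
    have htM : t ∈ M := by
      rw [htmc, hcu]; exact mul_mem hm huM
    refine ⟨htM, ?_⟩
    intro y hy
    have hyM : ∀ x ∈ M, y * x = x * y := fun x hx => (mem_centralizer_iff.1 hy x hx).symm
    obtain ⟨u', hu', hyu⟩ := cent_Mt o sh h hyM (hyM t htM)
    rw [hyu]
    obtain ⟨n, rfl⟩ := mem_zpowers_iff.1 hu'
    exact ⟨n, rfl⟩
  · right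
    push Not at hcase
    intro m hm c hc
    exact hcase m hm c hc

end Main

end Cfsg.Agent.OddHalf.D8.ON.Kill
end

-- part: OddHalf/D8/Fi22/OrdOdd
section
/-!
# ODD half, D8, `K = Fi₂₂`: orders of the groups of Lie type in odd characteristic (helper957)
-/

set_option autoImplicit false

namespace Cfsg.Agent.OddHalf.D8.Fi22.Ord

open Subgroup Cfsg

/-! ### Arithmetic -/

theorem pw (q a b : ℕ) : q ^ (a + b) - q ^ a = q ^ a * (q ^ b - 1) := by
  rw [pow_add, Nat.mul_sub, mul_one]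

theorem cancel {g c x m : ℕ} (hx : 0 < x) (h : g * (x * c) = x * m) : g * c = m := by
  apply Nat.eq_of_mul_eq_mul_left hx
  rw [← h]; ring

theorem big {c x m : ℕ} (h : Bad c) (hx : 0 < x) (he : x * m ≤ x * c) (hm : N0 < m) : False :=
  absurd ((Nat.le_of_mul_le_mul_left he hx).trans h.2.1) (not_le.2 hm)

section Families

variable {F : Type} [Field F] [Fintype F] {q : ℕ}

theorem psl (hF : Fintype.card F = q) (hq : Odd q) (h3 : 3 ≤ q) (n : ℕ) (hn : 2 ≤ n)
    (h : Bad (Nat.card (Matrix.ProjectiveSpecialLinearGroup (Fin n) F))) : False := by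
  have he := S0243.result hF n hn
  set c := Nat.card (Matrix.ProjectiveSpecialLinearGroup (Fin n) F) with hc
  have hgn : Nat.gcd n (q - 1) ≤ n := Nat.gcd_le_left _ (by omega)
  have hgq : Nat.gcd n (q - 1) ≤ q - 1 := Nat.gcd_le_right _ (by omega)
  have hq1 : 0 < q - 1 := by omega
  have p1 : q - 1 = q ^ 1 - 1 := by rw [pow_one]
  obtain rfl | rfl | rfl | rfl | h6 : n = 2 ∨ n = 3 ∨ n = 4 ∨ n = 5 ∨ 6 ≤ n := by omega
  · apply l2 hq h3 h hgn (cancel hq1 ?_)
    rw [he, Fin.prod_univ_two]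
    show (q ^ 2 - q ^ 0) * (q ^ 2 - q ^ 1) = _
    have e1 := pw q 1 1
    norm_num only [_root_.pow_one, _root_.pow_zero] at e1 ⊢
    rw [e1]; ring
  · apply l3 hq h3 h hgn (cancel hq1 ?_)
    rw [he, Fin.prod_univ_three]
    show (q ^ 3 - q ^ 0) * (q ^ 3 - q ^ 1) * (q ^ 3 - q ^ 2) = _
    have e1 := pw q 1 2
    have e2 := pw q 2 1
    norm_num only [_root_.pow_one, _root_.pow_zero] at e1 e2 ⊢
    rw [e1, e2]; ring
  · apply l4 hq h3 h hgn (cancel hq1 ?_)
    rw [he, Fin.prod_univ_four]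
    show (q ^ 4 - q ^ 0) * (q ^ 4 - q ^ 1) * (q ^ 4 - q ^ 2) * (q ^ 4 - q ^ 3) = _
    have e1 := pw q 1 3
    have e2 := pw q 2 2
    have e3 := pw q 3 1
    norm_num only [_root_.pow_one, _root_.pow_zero] at e1 e2 e3 ⊢
    rw [e1, e2, e3]; ring
  · apply l5 hq h3 h hgn (cancel hq1 ?_)
    rw [he, Fin.prod_univ_five]
    show (q ^ 5 - q ^ 0) * (q ^ 5 - q ^ 1) * (q ^ 5 - q ^ 2) * (q ^ 5 - q ^ 3) * (q ^ 5 - q ^ 4) = _
    have e1 := pw q 1 4
    have e2 := pw q 2 3
    have e3 := pw q 3 2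
    have e4 := pw q 4 1
    norm_num only [_root_.pow_one, _root_.pow_zero] at e1 e2 e3 e4 ⊢
    rw [e1, e2, e3, e4]; ring
  · -- `(q-1)² c ≥ (q^(n-1) (q-1))^n`
    have h7 : (q ^ (n - 1) * (q - 1)) ^ n ≤ ∏ i : Fin n, (q ^ n - q ^ (i : ℕ)) := by
      calc (q ^ (n - 1) * (q - 1)) ^ n = ∏ _i : Fin n, (q ^ (n - 1) * (q - 1)) := by
            rw [Finset.prod_const, Finset.card_univ, Fintype.card_fin]
        _ ≤ ∏ i : Fin n, (q ^ n - q ^ (i : ℕ)) := by
            apply Finset.prod_le_prod'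
            intro i _
            have e1 := pw q (n - 1) 1
            rw [pow_one, show n - 1 + 1 = n by omega] at e1
            rw [← e1]
            apply Nat.sub_le_sub_left
            exact Nat.pow_le_pow_right (by omega) (by have := i.2; omega)
    rw [← he] at h7
    have h8 : (q - 1) ^ 2 * (q ^ (n - 1)) ^ n ≤ (q - 1) ^ 2 * c := by
      calc (q - 1) ^ 2 * (q ^ (n - 1)) ^ n ≤ (q - 1) ^ n * (q ^ (n - 1)) ^ n := by
            gcongr
        _ = (q ^ (n - 1) * (q - 1)) ^ n := by rw [mul_pow]; ring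
        _ ≤ Nat.gcd n (q - 1) * ((q - 1) * c) := h7
        _ ≤ (q - 1) * ((q - 1) * c) := by gcongr
        _ = (q - 1) ^ 2 * c := by ring
    refine big h (by positivity) h8 ?_
    calc N0 < 3 ^ 30 := by norm_num
      _ ≤ q ^ 30 := by gcongr
      _ ≤ q ^ ((n - 1) * n) := by
          apply Nat.pow_le_pow_right (by omega)
          have : 5 * 6 ≤ (n - 1) * n := Nat.mul_le_mul (by omega) h6
          omega
      _ = (q ^ (n - 1)) ^ n := by rw [pow_mul]

theorem psu (hF : Fintype.card F = q ^ 2) (hq : Odd q) (h3 : 3 ≤ q) (n : ℕ) (hn : 3 ≤ n)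
    (h : Bad (Nat.card (PSU n F q))) : False := by
  have he := S0280.result hF n (by omega)
  set c := Nat.card (PSU n F q) with hc
  have hgn : Nat.gcd n (q + 1) ≤ n := Nat.gcd_le_left _ (by omega)
  have hgq : Nat.gcd n (q + 1) ≤ q + 1 := Nat.gcd_le_right _ (by omega)
  have hq1 : 0 < q + 1 := by omega
  obtain rfl | rfl | rfl | h6 : n = 3 ∨ n = 4 ∨ n = 5 ∨ 6 ≤ n := by omega
  · apply u3 hq h3 h hgn (cancel hq1 ?_)
    rw [he]
    simp only [Finset.prod_range_succ, Finset.prod_range_zero]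
    norm_num only [show ¬ Even 1 by decide, show Even 2 by decide, _root_.pow_one, _root_.ite_true, _root_.one_mul, _root_.ite_false]
    ring
  · apply u4 hq h3 h hgn (cancel hq1 ?_)
    rw [he]
    simp only [Finset.prod_range_succ, Finset.prod_range_zero]
    norm_num only [show ¬ Even 1 by decide, show Even 2 by decide, show ¬ Even 3 by decide, _root_.pow_one, _root_.ite_true, _root_.one_mul, _root_.ite_false]
    ring
  · apply u5 hq h3 h hgn (cancel hq1 ?_)
    rw [he]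
    simp only [Finset.prod_range_succ, Finset.prod_range_zero]
    norm_num only [show ¬ Even 1 by decide, show Even 2 by decide, show ¬ Even 3 by decide,
      show Even 4 by decide, _root_.pow_one, _root_.ite_true, _root_.one_mul, _root_.ite_false]
    ring
  · have h7 : ∏ i ∈ Finset.range 6, (if Even i then q ^ (i + 1) + 1 else q ^ (i + 1) - 1) ≤
        ∏ i ∈ Finset.range n, (if Even i then q ^ (i + 1) + 1 else q ^ (i + 1) - 1) := by
      apply Finset.prod_le_prod_of_subset_of_one_le' (Finset.range_subset_range.2 h6)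
      intro i _ _
      have h8 : 3 ≤ q ^ (i + 1) := h3.trans (Nat.le_self_pow (by omega) q)
      split_ifs <;> omega
    have h8 : ∏ i ∈ Finset.range 6, (if Even i then q ^ (i + 1) + 1 else q ^ (i + 1) - 1) =
        (q + 1) * (q ^ 2 - 1) * (q ^ 3 + 1) * (q ^ 4 - 1) * (q ^ 5 + 1) * (q ^ 6 - 1) := by
      simp only [Finset.prod_range_succ, Finset.prod_range_zero]
      norm_num only [show ¬ Even 1 by decide, show Even 2 by decide, show ¬ Even 3 by decide,
        show Even 4 by decide, show ¬ Even 5 by decide, _root_.pow_one, _root_.ite_true, _root_.one_mul, _root_.ite_false]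
    rw [h8] at h7
    have h9 : q ^ 15 ≤ q ^ (n * (n - 1) / 2) := by
      apply Nat.pow_le_pow_right (by omega)
      rw [Nat.le_div_iff_mul_le (by norm_num)]
      have : 6 * 5 ≤ n * (n - 1) := Nat.mul_le_mul h6 (by omega)
      omega
    have h10 : q ^ 2 - 1 = (q + 1) * (q - 1) := by
      have := Nat.sq_sub_sq q 1
      rwa [one_pow] at this
    have h11 : (q + 1) ^ 2 * (q ^ 15 * (q - 1) * (q ^ 3 + 1) * (q ^ 4 - 1) * (q ^ 5 + 1) * (q ^ 6 - 1)) ≤
        (q + 1) ^ 2 * c := by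
      calc (q + 1) ^ 2 * (q ^ 15 * (q - 1) * (q ^ 3 + 1) * (q ^ 4 - 1) * (q ^ 5 + 1) * (q ^ 6 - 1))
          = q ^ 15 * ((q + 1) * (q ^ 2 - 1) * (q ^ 3 + 1) * (q ^ 4 - 1) * (q ^ 5 + 1) * (q ^ 6 - 1)) := by
            rw [h10]; ring
        _ ≤ Nat.gcd n (q + 1) * ((q + 1) * c) := by rw [he]; exact Nat.mul_le_mul h9 h7
        _ ≤ (q + 1) * ((q + 1) * c) := by gcongr
        _ = (q + 1) ^ 2 * c := by ring
    refine big h (by positivity) h11 ?_
    calc N0 < 3 ^ 15 * (3 - 1) * (3 ^ 3 + 1) * (3 ^ 4 - 1) * (3 ^ 5 + 1) * (3 ^ 6 - 1) := by norm_num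
      _ ≤ _ := by gcongr

/-- `∏_{i<k} (q^(2(i+1)) - 1)` is monotone in `k` -/
theorem prod_mono (h3 : 3 ≤ q) {k m : ℕ} (hkm : k ≤ m) :
    ∏ i ∈ Finset.range k, (q ^ (2 * (i + 1)) - 1) ≤ ∏ i ∈ Finset.range m, (q ^ (2 * (i + 1)) - 1) := by
  apply Finset.prod_le_prod_of_subset_of_one_le' (Finset.range_subset_range.2 hkm)
  intro i _ _
  have h8 : 3 ≤ q ^ (2 * (i + 1)) := h3.trans (Nat.le_self_pow (by omega) q)
  omega

theorem prod_two : ∏ i ∈ Finset.range 2, (q ^ (2 * (i + 1)) - 1) = (q ^ 2 - 1) * (q ^ 4 - 1) := by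
  simp only [Finset.prod_range_succ, Finset.prod_range_zero]
  norm_num only [_root_.one_mul]

theorem prod_three : ∏ i ∈ Finset.range 3, (q ^ (2 * (i + 1)) - 1) =
    (q ^ 2 - 1) * (q ^ 4 - 1) * (q ^ 6 - 1) := by
  simp only [Finset.prod_range_succ, Finset.prod_range_zero]
  norm_num only [_root_.one_mul]

theorem prod_four : ∏ i ∈ Finset.range 4, (q ^ (2 * (i + 1)) - 1) =
    (q ^ 2 - 1) * (q ^ 4 - 1) * (q ^ 6 - 1) * (q ^ 8 - 1) := by
  simp only [Finset.prod_range_succ, Finset.prod_range_zero]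
  norm_num only [_root_.one_mul]

/-- the formula for `PSp_{2m}(q)` and `PΩ_{2m+1}(q)` -/
theorem sp_num (hq : Odd q) (h3 : 3 ≤ q) (m : ℕ) (hm : 2 ≤ m) {c g : ℕ} (hg : g ≤ 2)
    (he : g * c = q ^ (m ^ 2) * ∏ i ∈ Finset.range m, (q ^ (2 * (i + 1)) - 1)) (h : Bad c) : False := by
  obtain rfl | rfl | h4 : m = 2 ∨ m = 3 ∨ 4 ≤ m := by omega
  · rw [prod_two] at he
    exact s4 hq h3 h hg (by rw [he]; ring)
  · rw [prod_three] at he
    exact s6 hq h3 h hg (by rw [he]; ring)
  · have h5 := prod_mono h3 h4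
    rw [prod_four] at h5
    have h6 : q ^ 16 ≤ q ^ (m ^ 2) := Nat.pow_le_pow_right (by omega) (by nlinarith only [h4])
    have h7 := Nat.mul_le_mul h6 h5
    rw [← he] at h7
    have h8 : g * c ≤ 2 * N0 := Nat.mul_le_mul hg h.2.1
    have h9 : 3 ^ 16 * ((3 ^ 2 - 1) * (3 ^ 4 - 1) * (3 ^ 6 - 1) * (3 ^ 8 - 1)) ≤
        q ^ 16 * ((q ^ 2 - 1) * (q ^ 4 - 1) * (q ^ 6 - 1) * (q ^ 8 - 1)) := by gcongr
    have h10 := (h9.trans h7).trans h8
    norm_num at h10

theorem psp (hF : Fintype.card F = q) (hq : Odd q) (h3 : 3 ≤ q) (m : ℕ) (hm : 2 ≤ m)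
    (h : Bad (Nat.card (PSp m F))) : False := by
  have he := S0245.result hF m
  rw [Cfsg.Agent.ClassicalGeometry.AutPSpCount.card_sp (by omega), hF] at he
  exact sp_num hq h3 m hm (Nat.gcd_le_left _ (by norm_num)) he h

theorem poOdd (hF : Fintype.card F = q) (hq : Odd q) (h3 : 3 ≤ q) (m : ℕ) (hm : 3 ≤ m)
    (h : Bad (Nat.card (POmega F (quadFormOdd m F)))) : False :=
  sp_num hq h3 m (by omega) le_rfl (S0292.result hF hq m hm) h

/-- `g c = q^(m(m-1)) r ∏_{i<m-1} (q^(2(i+1)) - 1)`, `m ≥ 5`: too large -/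
theorem o_big (h3 : 3 ≤ q) (m : ℕ) (hm : 5 ≤ m) {c g r : ℕ} (hg : g ≤ 4) (hr : 1 ≤ r)
    (he : g * c = q ^ (m * (m - 1)) * r * ∏ i ∈ Finset.range (m - 1), (q ^ (2 * (i + 1)) - 1))
    (h : Bad c) : False := by
  have h5 := prod_mono h3 (show 4 ≤ m - 1 by omega)
  rw [prod_four] at h5
  have h6 : q ^ 20 ≤ q ^ (m * (m - 1)) := by
    apply Nat.pow_le_pow_right (by omega)
    have : 5 * 4 ≤ m * (m - 1) := Nat.mul_le_mul hm (by omega)
    omega
  have h7 := Nat.mul_le_mul (Nat.mul_le_mul h6 hr) h5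
  rw [← he] at h7
  have h8 : g * c ≤ 4 * N0 := Nat.mul_le_mul hg h.2.1
  have h9 : 3 ^ 20 * 1 * ((3 ^ 2 - 1) * (3 ^ 4 - 1) * (3 ^ 6 - 1) * (3 ^ 8 - 1)) ≤
      q ^ 20 * 1 * ((q ^ 2 - 1) * (q ^ 4 - 1) * (q ^ 6 - 1) * (q ^ 8 - 1)) := by gcongr
  have h10 := (h9.trans h7).trans h8
  norm_num at h10

theorem poPlus (hF : Fintype.card F = q) (hq : Odd q) (h3 : 3 ≤ q) (m : ℕ) (hm : 4 ≤ m)
    (h : Bad (Nat.card (POmega F (quadFormPlus m F)))) : False := by
  have he := S0293.result hF m hm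
  have hg : Nat.gcd 4 (q ^ m - 1) ≤ 4 := Nat.gcd_le_left _ (by norm_num)
  obtain rfl | h5 : m = 4 ∨ 5 ≤ m := by omega
  · rw [show 4 - 1 = 3 by norm_num, prod_three] at he
    exact o8p hq h3 h hg (by rw [he])
  · have h6 : 3 ≤ q ^ m := h3.trans (Nat.le_self_pow (by omega) q)
    exact o_big h3 m h5 hg (by omega) he h

theorem poMinus (hF : Fintype.card F = q) (hq : Odd q) (h3 : 3 ≤ q) (m : ℕ) (hm : 4 ≤ m) (a b : F)
    (hab : ∀ z₁ z₂ : F, z₁ ^ 2 + a * z₁ * z₂ + b * z₂ ^ 2 = 0 → z₁ = 0 ∧ z₂ = 0)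
    (h : Bad (Nat.card (POmega F (quadFormMinus (m - 1) F a b)))) : False := by
  have he := S0294.result hF m hm a b hab
  have hg : Nat.gcd 4 (q ^ m + 1) ≤ 4 := Nat.gcd_le_left _ (by norm_num)
  obtain rfl | h5 : m = 4 ∨ 5 ≤ m := by omega
  · rw [show 4 - 1 = 3 by norm_num, prod_three] at he
    exact o8m hq h3 h hg (by rw [he])
  · exact o_big h3 m h5 hg (by omega) he h

theorem cG2 (hF : Fintype.card F = q) (hq : Odd q) (h3 : 3 ≤ q)
    (h : Bad (Nat.card ↥(Lie.chevG2.group F))) : False :=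
  g2 hq h3 h (S1059.result hF)

theorem cF4 (hF : Fintype.card F = q) (h3 : 3 ≤ q) (h : Bad (Nat.card ↥(Lie.chevF4.group F))) : False := by
  have he := S1062.result hF
  have h1 := h.2.1
  rw [he] at h1
  have h9 : 3 ^ 24 * (3 ^ 2 - 1) * (3 ^ 6 - 1) * (3 ^ 8 - 1) * (3 ^ 12 - 1) ≤
    q ^ 24 * (q ^ 2 - 1) * (q ^ 6 - 1) * (q ^ 8 - 1) * (q ^ 12 - 1) := by gcongr
  have h10 := h9.trans h1
  norm_num at h10

theorem cE6 (hF : Fintype.card F = q) (h3 : 3 ≤ q) (h : Bad (Nat.card ↥(Lie.chevE6.group F))) : False := by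
  have he := S1063.result hF
  have h1 : Nat.gcd 3 (q - 1) * Nat.card ↥(Lie.chevE6.group F) ≤ 3 * N0 :=
    Nat.mul_le_mul (Nat.gcd_le_left _ (by norm_num)) h.2.1
  rw [he] at h1
  have h9 : 3 ^ 36 * (3 ^ 2 - 1) * (3 ^ 5 - 1) * (3 ^ 6 - 1) * (3 ^ 8 - 1) * (3 ^ 9 - 1) * (3 ^ 12 - 1) ≤
    q ^ 36 * (q ^ 2 - 1) * (q ^ 5 - 1) * (q ^ 6 - 1) * (q ^ 8 - 1) * (q ^ 9 - 1) * (q ^ 12 - 1) := by gcongr
  have h10 := h9.trans h1
  norm_num at h10

theorem cE7 (hF : Fintype.card F = q) (h3 : 3 ≤ q) (h : Bad (Nat.card ↥(Lie.chevE7.group F))) : False := by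
  have he := S1064.result hF
  have h1 : Nat.gcd 2 (q - 1) * Nat.card ↥(Lie.chevE7.group F) ≤ 2 * N0 :=
    Nat.mul_le_mul (Nat.gcd_le_left _ (by norm_num)) h.2.1
  rw [he] at h1
  have h9 : 3 ^ 63 * (3 ^ 2 - 1) * (3 ^ 6 - 1) * (3 ^ 8 - 1) * (3 ^ 10 - 1) * (3 ^ 12 - 1) * (3 ^ 14 - 1) *
      (3 ^ 18 - 1) ≤
    q ^ 63 * (q ^ 2 - 1) * (q ^ 6 - 1) * (q ^ 8 - 1) * (q ^ 10 - 1) * (q ^ 12 - 1) * (q ^ 14 - 1) *
      (q ^ 18 - 1) := by gcongr
  have h10 := h9.trans h1
  norm_num at h10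

theorem cE8 (hF : Fintype.card F = q) (h3 : 3 ≤ q) (h : Bad (Nat.card ↥(Lie.chevE8.group F))) : False := by
  have he := S1065.result hF
  have h1 := h.2.1
  rw [he] at h1
  have h9 : 3 ^ 120 * (3 ^ 2 - 1) * (3 ^ 8 - 1) * (3 ^ 12 - 1) * (3 ^ 14 - 1) * (3 ^ 18 - 1) * (3 ^ 20 - 1) *
      (3 ^ 24 - 1) * (3 ^ 30 - 1) ≤
    q ^ 120 * (q ^ 2 - 1) * (q ^ 8 - 1) * (q ^ 12 - 1) * (q ^ 14 - 1) * (q ^ 18 - 1) * (q ^ 20 - 1) *
      (q ^ 24 - 1) * (q ^ 30 - 1) := by gcongr
  have h10 := h9.trans h1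
  norm_num at h10

theorem tE6 (hF : Fintype.card F = q ^ 2) (hpp : IsPrimePow q) (h3 : 3 ≤ q)
    (h : Bad (Nat.card ↥(Lie.twistedE6 F q))) : False := by
  have he := S1066.result hpp hF
  have h1 : Nat.gcd 3 (q + 1) * Nat.card ↥(Lie.twistedE6 F q) ≤ 3 * N0 :=
    Nat.mul_le_mul (Nat.gcd_le_left _ (by norm_num)) h.2.1
  rw [he] at h1
  have h9 : 3 ^ 36 * (3 ^ 2 - 1) * (3 ^ 5 + 1) * (3 ^ 6 - 1) * (3 ^ 8 - 1) * (3 ^ 9 + 1) * (3 ^ 12 - 1) ≤
    q ^ 36 * (q ^ 2 - 1) * (q ^ 5 + 1) * (q ^ 6 - 1) * (q ^ 8 - 1) * (q ^ 9 + 1) * (q ^ 12 - 1) := by gcongr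
  have h10 := h9.trans h1
  norm_num at h10

theorem tD4 (hF : Fintype.card F = q ^ 3) (hpp : IsPrimePow q) (hq : Odd q) (h3 : 3 ≤ q)
    (h : Bad (Nat.card ↥(Lie.twistedD4 F q))) : False :=
  d4t hq h3 h (S1067.result hpp hF)

theorem ree {m : ℕ} (hF : Fintype.card F = 3 ^ (2 * m + 1))
    (h : Bad (Nat.card ↥(Lie.twistedG2 F (3 ^ m)))) : False := by
  have he := S1069.result hF
  have h1 : 16 ∣ Nat.card ↥(Lie.twistedG2 F (3 ^ m)) := (by norm_num : (16 : ℕ) ∣ n0).trans h.1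
  rw [he] at h1
  -- `q ≡ 3, 11 mod 16`
  have h2 : 3 ^ (2 * m + 1) % 16 = 3 ∨ 3 ^ (2 * m + 1) % 16 = 11 := by
    clear he h1 h hF
    induction m with
    | zero => left; norm_num
    | succ m ih =>
      have e : 3 ^ (2 * (m + 1) + 1) = 3 ^ (2 * m + 1) * 9 := by ring
      rw [e]
      generalize 3 ^ (2 * m + 1) = r at ih ⊢
      omega
  set r := 3 ^ (2 * m + 1) with hr
  obtain ⟨k, hk⟩ : ∃ k, r = 16 * k + 3 ∨ r = 16 * k + 11 := ⟨r / 16, by omega⟩
  have hmod : r ^ 3 * (r - 1) * (r ^ 3 + 1) % 16 = 8 := by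
    rcases hk with hk | hk
    · rw [hk, show 16 * k + 3 - 1 = 16 * k + 2 by (clear * -; omega)]
      simp [Nat.mul_mod, Nat.pow_mod, Nat.add_mod]
    · rw [hk, show 16 * k + 11 - 1 = 16 * k + 10 by (clear * -; omega)]
      simp [Nat.mul_mod, Nat.pow_mod, Nat.add_mod]
  have := Nat.mod_eq_zero_of_dvd h1
  omega

end Families

/-- the cardinality of a finite field of odd characteristic is odd and at least 3 -/
theorem card_odd {F : Type} [Field F] [Fintype F] {p : ℕ} (hp : p.Prime) (h2 : p ≠ 2) [CharP F p] :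
    Odd (Fintype.card F) ∧ 3 ≤ Fintype.card F := by
  have := Fact.mk hp
  obtain ⟨n, -, hn⟩ := FiniteField.card F p
  have hodd : Odd (Fintype.card F) := by
    rw [hn]
    exact (hp.odd_of_ne_two h2).pow
  refine ⟨hodd, ?_⟩
  have h1 : 1 < Fintype.card F := Fintype.one_lt_card
  obtain ⟨k, hk⟩ := hodd
  omega

/-- **No simple group of Lie type in odd characteristic has a bad order.** -/
theorem lieOdd {X : Type*} [Group X] (hX : ∃ p : ℕ, p.Prime ∧ p ≠ 2 ∧ IsLieTypeChar p X)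
    (h : Bad (Nat.card X)) : False := by
  obtain ⟨p, hp, hp2, hX⟩ := hX
  have hc : ∀ {Y : Type} [Group Y], Nonempty (X ≃* Y) → Bad (Nat.card Y) := by
    rintro Y _ ⟨e⟩
    rw [← Nat.card_congr e.toEquiv]
    exact h
  rcases hX with hX | hX | hX | hX | hX | hX | hX | hX | hX | hX | hX
  · obtain ⟨F, _, _, _, n, h1, -, f⟩ := hX
    obtain ⟨ho, h3⟩ := card_odd (F := F) hp hp2
    exact psl rfl ho h3 n h1 (hc f)
  · obtain ⟨F, _, _, _, m, h1, -, f⟩ := hX
    obtain ⟨ho, h3⟩ := card_odd (F := F) hp hp2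
    exact psp rfl ho h3 m h1 (hc f)
  · obtain ⟨F, _, _, _, n, q, h1, h2, -, f⟩ := hX
    obtain ⟨ho, h3⟩ := card_odd (F := F) hp hp2
    rw [h1] at ho h3
    have hq : Odd q := (Nat.odd_pow_iff (by norm_num)).1 ho
    have h4 : 3 ≤ q := by
      by_contra hcon
      interval_cases q
      · norm_num at h3
      · norm_num at h3
      · exact absurd hq (by decide)
    exact psu h1 hq h4 n h2 (hc f)
  · obtain ⟨F, _, _, _, m, h1, h2, f⟩ := hX
    obtain ⟨ho, h3⟩ := card_odd (F := F) hp hp2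
    exact poOdd rfl ho h3 m h1 (hc f)
  · obtain ⟨F, _, _, _, m, h1, f⟩ := hX
    obtain ⟨ho, h3⟩ := card_odd (F := F) hp hp2
    exact poPlus rfl ho h3 m h1 (hc f)
  · obtain ⟨F, _, _, _, m, a, b, h1, h2, f⟩ := hX
    obtain ⟨ho, h3⟩ := card_odd (F := F) hp hp2
    exact poMinus rfl ho h3 m h1 a b h2 (hc f)
  · obtain ⟨F, _, _, _, hX⟩ := hX
    obtain ⟨ho, h3⟩ := card_odd (F := F) hp hp2
    rcases hX with ⟨-, f⟩ | f | f | f | f
    · exact cG2 rfl ho h3 (hc f)
    · exact cF4 rfl h3 (hc f)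
    · exact cE6 rfl h3 (hc f)
    · exact cE7 rfl h3 (hc f)
    · exact cE8 rfl h3 (hc f)
  · obtain ⟨F, _, _, _, q, hpp, hX⟩ := hX
    obtain ⟨ho, h3⟩ := card_odd (F := F) hp hp2
    rcases hX with ⟨h1, f⟩ | ⟨h1, f⟩
    · rw [h1] at ho h3
      have hq : Odd q := (Nat.odd_pow_iff (by norm_num)).1 ho
      have h4 : 3 ≤ q := by
        have := hpp.two_le
        obtain ⟨k, hk⟩ := hq
        omega
      exact tE6 h1 hpp h4 (hc f)
    · rw [h1] at ho h3
      have hq : Odd q := (Nat.odd_pow_iff (by norm_num)).1 ho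
      have h4 : 3 ≤ q := by
        have := hpp.two_le
        obtain ⟨k, hk⟩ := hq
        omega
      exact tD4 h1 hpp hq h4 (hc f)
  · exact hp2 hX.1
  · exact hp2 hX.1
  · obtain ⟨-, F, _, _, m, -, h1, f⟩ := hX
    exact ree h1 (hc f)

end Cfsg.Agent.OddHalf.D8.Fi22.Ord
end

-- part: OddHalf/D8/JTwo/SheetM
section
-- merged: Cfsg.Agent.OddHalf.D8.JTwo.CaseM
section

/-!
# Case (M) of D8 without the `y`-trick (helper206; the proofs are helper271's, `OddHalf/CaseM/`)

`noCompX`: `C_G(z)` has no component if `K` has the sheets `SheetX z P R` and `SheetM P R`.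
-/

set_option autoImplicit false

namespace Cfsg.Agent.OddHalf.D8.JTwo.CaseM

open Subgroup Cfsg
open Cfsg.Agent.OddHalf.Iface
open Cfsg.Agent.OddHalf.Front.FE Cfsg.Agent.OddHalf.D8.Sheet Cfsg.Agent.OddHalf.D8.GlueE
open Cfsg.Agent.OddHalf.D8.Front Cfsg.Agent.OddHalf.D8.JTwo.Sheet
open Cfsg.Agent.OddHalf.CaseM
open Cfsg.Agent.Cit (cj mem_cj conj_mem_cj conj_mem_cj_iff)
open Cfsg.Agent.SignalizersComponents.Components
open Cfsg.Agent.Schreier.Basic

open scoped commutatorElement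

universe u

section KLevel

variable {K : Type*} [Group K] {z : K} {P R : Subgroup K}

/-- `⁅R, R⁆ ≤ ⟨z⟩` -/
theorem comm_R [Finite K] (h : SheetX z P R) : ∀ x ∈ ⁅R, R⁆, x = 1 ∨ x = z := by
  have : Fact (Nat.Prime 2) := ⟨Nat.prime_two⟩
  have hle : ⁅R, R⁆ ≤ R := commutator_le_self R
  have hn : ∀ x ∈ P, ∀ b ∈ ⁅R, R⁆, x * b * x⁻¹ ∈ ⁅R, R⁆ := by
    intro x hx b hb
    have h1 : R.map (MulAut.conj x).toMonoidHom = R := by
      apply le_antisymm
      · rintro _ ⟨r, hr, rfl⟩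
        exact h.Rn x hx r hr
      · intro r hr
        refine ⟨x⁻¹ * r * x⁻¹⁻¹, h.Rn _ (P.inv_mem hx) r hr, ?_⟩
        change x * (x⁻¹ * r * x⁻¹⁻¹) * x⁻¹ = r
        group
    have h2 : (⁅R, R⁆ : Subgroup K).map (MulAut.conj x).toMonoidHom = ⁅R, R⁆ := by
      rw [map_commutator, h1]
    rw [← h2]
    exact ⟨b, hb, rfl⟩
  rcases h.Rmin _ hle hn with h1 | h1
  · exact h1
  · exfalso
    -- a perfect 2-group
    have hnil : Group.IsNilpotent R := h.R2.isNilpotent
    have hsol : Group.IsSolvable R := inferInstance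
    have h3 : commutator R = ⊤ := by
      rw [_root_.commutator_def]
      apply map_injective R.subtype_injective
      rw [map_commutator, ← MonoidHom.range_eq_map, range_subtype, h1]
    have h4 : ∀ n : ℕ, derivedSeries R n = ⊤ := by
      intro n
      induction n with
      | zero => rfl
      | succ n ih => rw [derivedSeries_succ, ih, ← _root_.commutator_def, h3]
    obtain ⟨n, hn⟩ := hsol.solvable
    rw [h4 n] at hn
    have h5 : (⟨z, h.zR⟩ : R) ∈ (⊥ : Subgroup R) := by rw [← hn]; exact mem_top _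
    exact h.z1 (congrArg Subtype.val (mem_bot.1 h5))

/-- the core facts -/
theorem core [Finite K] (h : SheetX z P R) (m : SheetM P R) :
    Core (⟨z, h.zP⟩ : P) (R.subgroupOf P) := by
  have hmapR : (R.subgroupOf P).map P.subtype = R := by
    rw [subgroupOf_map_subtype, inf_of_le_left h.RP]
  have hinj : Function.Injective (Subgroup.map P.subtype) := map_injective P.subtype_injective
  constructor
  · intro S hS hp hne
    have h1 := m.big (S.map P.subtype) (map_subtype_le _) (by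
      have : (S.map P.subtype).subgroupOf P = S := comap_map_eq_self_of_injective P.subtype_injective S
      rw [this]; exact hS) (by rw [← map_commutator, hp]) (by
      intro h0
      apply hne
      apply hinj
      rw [h0, Subgroup.map_bot])
    apply hinj
    rw [map_commutator, hmapR, h1]
  · obtain ⟨w, hw, hidx⟩ := m.idx
    have hcardR : Nat.card (R.subgroupOf P) ≤ 2 ^ (2 * w + 1) := by
      rw [Nat.card_congr (subgroupOfEquivOfLe h.RP).toEquiv]; exact hw
    obtain ⟨a, ha, b, hb, hab⟩ := h.Rna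
    refine prim_of (w := w) (fun q => Subtype.ext (h.cen q q.2)) (Subtype.ext h.zz)
      (fun h0 => h.z1 (congrArg Subtype.val h0)) h.zR ⟨fun r hr g => h.Rn g g.2 r hr⟩ ?_ ?_
      ⟨⟨a, h.RP ha⟩, ha, ⟨b, h.RP hb⟩, hb, fun h0 => hab (congrArg Subtype.val h0)⟩ hcardR ?_
    · intro x hx y hy
      have h1 : ⁅(x : K), (y : K)⁆ ∈ ⁅R, R⁆ := commutator_mem_commutator hx hy
      rcases comm_R h _ h1 with h2 | h2
      · exact Or.inl (Subtype.ext h2)
      · exact Or.inr (Subtype.ext h2)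
    · intro B hB hBn
      rcases h.Rmin (B.map P.subtype) (by
          rintro _ ⟨x, hx, rfl⟩
          exact hB hx) (by
          rintro x hx _ ⟨b, hb, rfl⟩
          exact ⟨(⟨x, hx⟩ * b * ⟨x, hx⟩⁻¹ :), hBn.conj_mem b hb ⟨x, hx⟩, rfl⟩) with h1 | h1
      · left
        intro b hb
        rcases h1 b ⟨b, hb, rfl⟩ with h2 | h2
        · exact Or.inl (Subtype.ext h2)
        · exact Or.inr (Subtype.ext h2)
      · right
        apply hinj
        rw [h1, hmapR]
    · intro H hH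
      have h1 := hidx (H.map P.subtype) (map_subtype_le _) (by
        have : (H.map P.subtype).relIndex P = H.index := by
          rw [relIndex, show (H.map P.subtype).subgroupOf P = H from
            comap_map_eq_self_of_injective P.subtype_injective H]
        rw [this]; exact hH)
      apply hinj
      rw [h1, ← MonoidHom.range_eq_map, range_subtype]

/-- `(big)` for `P/R` quasisimple -/
theorem big_of_quasisimple [Finite K] (h : SheetX z P R)
    (hq : ∀ N : Subgroup K, N ≤ P → R ≤ N → (∀ p ∈ P, ∀ n ∈ N, p * n * p⁻¹ ∈ N) → ⁅N, P⁆ ≤ R ∨ N = P) :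
    ∀ S : Subgroup K, S ≤ P → (S.subgroupOf P).IsSubnormal → ⁅S, S⁆ = S → S ≠ ⊥ → ⁅R, S⁆ = R := by
  intro S hSP hS hp hne
  have hmapR : (R.subgroupOf P).map P.subtype = R := by
    rw [subgroupOf_map_subtype, inf_of_le_left h.RP]
  have hmapS : (S.subgroupOf P).map P.subtype = S := by
    rw [subgroupOf_map_subtype, inf_of_le_left hSP]
  have hinj : Function.Injective (Subgroup.map P.subtype) := map_injective P.subtype_injective
  -- `S` is not contained in `R`
  have hSR : ¬ S ≤ R := fun hSR => hne (eq_bot_of_perfect_two hp (h.R2.to_le hSR))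
  -- `S R = P`
  have htop : S.subgroupOf P ⊔ R.subgroupOf P = ⊤ := by
    have hRn : (R.subgroupOf P).Normal := ⟨fun r hr g => h.Rn g g.2 r hr⟩
    apply sup_eq_top hRn
    · intro N hRN hN
      rcases hq (N.map P.subtype) (map_subtype_le _) (by
          rw [← hmapR]; exact map_mono hRN) (by
          rintro x hx _ ⟨b, hb, rfl⟩
          exact ⟨(⟨x, hx⟩ * b * ⟨x, hx⟩⁻¹ :), hN.conj_mem b hb ⟨x, hx⟩, rfl⟩) with h1 | h1
      · left
        rw [← map_le_map_iff_of_injective P.subtype_injective, map_commutator, hmapR,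
          ← MonoidHom.range_eq_map, range_subtype]
        exact h1
      · right
        apply hinj
        rw [h1, ← MonoidHom.range_eq_map, range_subtype]
    · apply hinj
      rw [map_commutator, hmapS, hp]
    · intro hle
      apply hSR
      have := map_mono (f := P.subtype) hle
      rwa [hmapS, hmapR] at this
    · exact hS
  have htop' : S ⊔ R = P := by
    have := congrArg (Subgroup.map P.subtype) htop
    rwa [Subgroup.map_sup, hmapS, hmapR, ← MonoidHom.range_eq_map, range_subtype] at this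
  have hnorm : ∀ p ∈ P, ∀ n ∈ ⁅R, S⁆, p * n * p⁻¹ ∈ ⁅R, S⁆ := by
    have h1 : P ≤ normalizer (((⁅R, S⁆ : Subgroup K)) : Set K) := by
      calc P = S ⊔ R := htop'.symm
        _ ≤ _ := sup_le (Cfsg.Agent.Lib.CoprimeCommutator.right_le_normalizer_commutator R S)
            (Cfsg.Agent.Lib.CoprimeCommutator.left_le_normalizer_commutator R S)
    intro p hp n hn
    exact (mem_normalizer_iff.1 (h1 hp) n).1 hn
  have hle : ⁅R, S⁆ ≤ R := by
    rw [commutator_le]
    intro r hr x hx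
    have e : ⁅r, x⁆ = r * (x * r⁻¹ * x⁻¹) := by rw [commutatorElement_def]; group
    rw [e]
    exact R.mul_mem hr (h.Rn x (hSP hx) _ (R.inv_mem hr))
  rcases h.Rmin _ hle hnorm with h1 | h1
  swap
  · exact h1
  exfalso
  apply hSR
  have h2 : ⁅⁅R, S⁆, S⁆ = ⊥ := by
    rw [commutator_eq_bot_iff_le_centralizer]
    intro u hu
    rw [mem_centralizer_iff]
    intro p hp
    rcases h1 u hu with h3 | h3
    · rw [h3, mul_one, one_mul]
    · rw [h3]; exact h.cen p (hSP hp)
  have h3 : ⁅⁅S, S⁆, R⁆ = ⊥ := commutator_commutator_eq_bot_of_rotate (by rw [commutator_comm S R]; exact h2) h2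
  rw [hp] at h3
  intro x hx
  apply h.cR x (hSP hx)
  intro r hr
  have h5 := (commutator_eq_bot_iff_le_centralizer.1 h3) hx
  rw [mem_centralizer_iff] at h5
  exact (h5 r hr).symm

/-- `(odd)`: the indices `|Aut K : Inn K|` and `|C_K(z) : P|` are powers of 2 -/
theorem odd_of_index [Finite K] (h : SheetX z P R)
    (hout : ∃ n, (MulAut.conj : K →* MulAut K).range.index = 2 ^ n)
    (hP : ∃ n, P.relIndex (centralizer ({z} : Set K)) = 2 ^ n) :
    ∀ α : MulAut K, Odd (orderOf α) → (∀ x ∈ P, α x = x) → α = 1 := by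
  intro α hodd hα
  obtain ⟨n, hn⟩ := hout
  obtain ⟨m, hm⟩ := hP
  have hnorm : ((MulAut.conj : K →* MulAut K).range).Normal := by
    constructor
    rintro _ ⟨k, rfl⟩ φ
    refine ⟨φ k, ?_⟩
    apply MulEquiv.ext
    intro x
    rw [MulAut.mul_apply, MulAut.mul_apply, MulAut.conj_apply, MulAut.conj_apply, map_mul, map_mul, map_inv,
      MulAut.apply_inv_self]
  -- `α` is inner
  have h1 : α ^ (2 ^ n) ∈ (MulAut.conj : K →* MulAut K).range := by
    rw [← hn]; exact pow_index_mem _ _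
  have hcop : ∀ k : ℕ, (orderOf α).Coprime (2 ^ k) := fun k =>
    Nat.Coprime.pow_right k ((Nat.coprime_two_right).2 hodd)
  obtain ⟨j, hj⟩ := exists_pow_eq_self_of_coprime (hcop n).symm
  have h2 : α ∈ (MulAut.conj : K →* MulAut K).range := by
    rw [← hj]; exact pow_mem h1 j
  obtain ⟨k, rfl⟩ := h2
  have hkP : ∀ x ∈ P, k * x = x * k := by
    intro x hx
    have := hα x hx
    rw [MulAut.conj_apply, mul_inv_eq_iff_eq_mul] at this
    exact this
  have hkz : k ∈ centralizer ({z} : Set K) := mem_centralizer_singleton_iff.2 (hkP z h.zP)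
  have hPn : (P.subgroupOf (centralizer ({z} : Set K))).Normal := by
    constructor
    intro x hx g
    have hg := mem_centralizer_singleton_iff.1 g.2
    have := map_P h.perf h.cen h.der (MulAut.conj (g : K)) (by
      rw [MulAut.conj_apply, hg]; group) (mem_subgroupOf.1 hx)
    exact mem_subgroupOf.2 this
  have h3 : k ^ (2 ^ m) ∈ P := by
    have := pow_index_mem (P.subgroupOf (centralizer ({z} : Set K))) ⟨k, hkz⟩
    rw [← relIndex, hm] at this
    exact this
  have h4 : k ^ (2 ^ m) ∈ R := by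
    apply h.cR _ h3
    intro r hr
    have hc : Commute k r := hkP r (h.RP hr)
    exact (hc.pow_left _).eq
  obtain ⟨l, hl⟩ := h.R2 ⟨_, h4⟩
  have h5 : k ^ (2 ^ (m + l)) = 1 := by
    rw [pow_add, pow_mul]
    exact congrArg Subtype.val hl
  have h6 : (MulAut.conj k) ^ (2 ^ (m + l)) = 1 := by rw [← map_pow, h5, map_one]
  have h7 := orderOf_dvd_of_pow_eq_one h6
  have h8 : orderOf (MulAut.conj k) = 1 := Nat.eq_one_of_dvd_coprimes (hcop (m + l)) dvd_rfl h7
  exact orderOf_eq_one_iff.1 h8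

end KLevel

variable {G : Type u} [Group G]

section

variable {K : Subgroup G} {t q : G} {z : K} {P R : Subgroup K}

end

end Cfsg.Agent.OddHalf.D8.JTwo.CaseM

end

-- merged: Cfsg.Agent.OddHalf.D8.JTwo.SheetM
section

/-!
# The sheet of case (M) of `J₂` (helper206)
-/

set_option autoImplicit false

namespace Cfsg.Agent.OddHalf.D8.JTwo.SheetM

open Subgroup Cfsg.Agent.J2Type.Model Cfsg.Agent.J2Type.CStruct
open Cfsg.Agent.J3Type.OneClass Cfsg.Agent.KFacts Cfsg.Agent.KFacts.J2.Basic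
open Cfsg.Agent.OddHalf Cfsg.Agent.OddHalf.D8.JTwo.Sheet

open scoped commutatorElement

/-- the sheet of case (M) for a centraliser `2^{1+4}_- : A₅` -/
theorem sheetM_of {K : Type*} [Group K] [Finite K] {z : K} {Q : Subgroup (centralizer ({z} : Set K))}
    {v : Fin 5 → centralizer ({z} : Set K)} {ρ : centralizer ({z} : Set K) →* SP}
    (hc : Nat.card (centralizer ({z} : Set K)) = 1920)
    (M : IsModel Q (zc z) v ρ) (hout : ∃ n, (MulAut.conj : K →* MulAut K).range.index = 2 ^ n)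
    (h : SheetX z (centralizer ({z} : Set K)) (Q.map (centralizer ({z} : Set K)).subtype)) :
    CaseM.SheetM (centralizer ({z} : Set K)) (Q.map (centralizer ({z} : Set K)).subtype) where
  big := by
    apply D8.JTwo.CaseM.big_of_quasisimple h
    intro N hN hQ hn
    rcases QMinus.normal_cases' M N hN hn with h1 | h1
    · left
      rw [commutator_le]
      intro x hx y hy
      have h4 : x * (y * x⁻¹ * y⁻¹) ∈ N := N.mul_mem hx (hn y hy _ (N.inv_mem hx))
      apply h1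
      rw [commutatorElement_def]
      simpa only [mul_assoc] using h4
    · right
      rwa [sup_eq_left.2 hQ] at h1
  idx := by
    refine ⟨2, ?_, ?_⟩
    · have h1 : Nat.card Q = 32 := by
        have := QMinus.card_mul M
        omega
      rw [Nat.card_congr (Q.equivMapOfInjective _ (centralizer ({z} : Set K)).subtype_injective).toEquiv.symm, h1]
      norm_num
    · intro H hH hle
      have h0 : H.relIndex (centralizer ({z} : Set K)) ≠ 0 := by
        rw [relIndex]; exact FiniteIndex.index_ne_zero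
      have h1 := QMinus.index_le_two M (H.subgroupOf (centralizer ({z} : Set K))) (by
        change H.relIndex (centralizer ({z} : Set K)) = 1 ∨ H.relIndex (centralizer ({z} : Set K)) = 2
        omega)
      apply le_antisymm hH
      intro x hx
      have h2 : (⟨x, hx⟩ : centralizer ({z} : Set K)) ∈ H.subgroupOf (centralizer ({z} : Set K)) := by
        rw [h1]; exact mem_top _
      exact h2
  odd := D8.JTwo.CaseM.odd_of_index h hout ⟨0, by rw [pow_zero, relIndex_self]⟩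

/-- the sheet of case (M) of `J₂` -/
theorem sheetM {X : Type*} [Group X] [Finite X] {t u : X} {Q : Subgroup (centralizer ({t} : Set X))}
    {v : Fin 5 → centralizer ({t} : Set X)} {ρ : centralizer ({t} : Set X) →* SP} (D : Dat t u Q v ρ) :
    CaseM.SheetM (centralizer ({t} : Set X)) (Q.map (centralizer ({t} : Set X)).subtype) := by
  refine sheetM_of D.cardC D.M ?_ (J2.SheetX.sheetX D)
  rcases J2.SheetX.index_le D with hi | hi
  · exact ⟨0, by rw [hi, pow_zero]⟩
  · exact ⟨1, by rw [hi, pow_one]⟩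

end Cfsg.Agent.OddHalf.D8.JTwo.SheetM

end
end

-- part: OddHalf/MM/Row
section
/-!
# ODD half, D8: the row `M23` (helper259)

`row_clean`: no counterexample to S1765 has a standard component `K` with a sheet `MM.Sheet` and without outer
automorphisms. `row_m23`: the row `M23` from the sheet.
-/

set_option autoImplicit false

open scoped commutatorElement

namespace Cfsg.Agent.OddHalf.MM.Row

open Subgroup Cfsg Cfsg.Agent.OddHalf.Iface Cfsg.Agent.OddHalf.Front.FE Cfsg.Agent.OddHalf.Front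
open Cfsg.Agent.OddHalf.Front.CycT (mem_sup_comm)

universe u

theorem center_eq_bot {K : Type*} [Group K] [Finite K] {SK V W : Subgroup K} {z c : K}
    (h : Sheet SK V W z c) : center K = ⊥ := by
  rw [eq_bot_iff]
  intro x hx
  rw [mem_center_iff] at hx
  have h1 : x ∈ V := h.CV x fun v _ => (hx v).symm
  rcases h.cen x (h.VS h1) (fun s _ => hx s) with h2 | h2
  · rw [mem_bot]; exact h2
  · exfalso
    obtain ⟨d, -, -, hd⟩ := h.del
    apply hd
    rw [← h2, hx d]
    group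

section

variable {G : Type u} [Group G]

/-- `C(t) = Q × K` if `K` has no outer automorphisms -/
theorem mem_QK {K : Subgroup G} {t q : G} (st : Start K t q) (hout : ∀ φ : MulAut K, ∃ k : K, φ = MulAut.conj k)
    {y : G} (hy : y * t = t * y) : ∃ i ∈ zpowers q, ∃ k ∈ K, y = i * k := by
  obtain ⟨k, hk⟩ := hout (K.normalizerMonoidHom ⟨y, st.nK y hy⟩)
  have h1 := D8.GlueE.exists_of_conj (st.nK y hy) hk
  have hkt := st.Kt k k.2
  have hkt' := st.Kt _ (K.inv_mem k.2)
  refine ⟨(k : G)⁻¹ * y, st.cK _ ?_ h1, k, k.2, ?_⟩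
  · calc (k : G)⁻¹ * y * t = (k : G)⁻¹ * (y * t) := by group
      _ = ((k : G)⁻¹ * t) * y := by rw [hy]; group
      _ = t * ((k : G)⁻¹ * y) := by rw [hkt']; group
  · have h2 := h1 k k.2
    calc y = (k : G) * ((k : G)⁻¹ * y) := by group
      _ = _ := h2

variable {K : Subgroup G} {t q : G} {SK V W : Subgroup K} {z c : K}

/-- the Sylow subgroup `Q S_K` of `C(t)` -/
def TT (q : G) (SK : Subgroup K) : Subgroup G := zpowers q ⊔ SK.map K.subtype

theorem mem_TT (st : Start K t q) {y : G} :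
    y ∈ TT q SK ↔ ∃ i ∈ zpowers q, ∃ s : K, s ∈ SK ∧ y = i * s := by
  unfold TT
  rw [mem_sup_comm (fun a ha k hk => by
    obtain ⟨s, -, rfl⟩ := hk
    exact st.QK a ha s s.2)]
  constructor
  · rintro ⟨i, hi, _, ⟨s, hs, rfl⟩, rfl⟩
    exact ⟨i, hi, s, hs, rfl⟩
  · rintro ⟨i, hi, s, hs, rfl⟩
    exact ⟨i, hi, s, ⟨s, hs, rfl⟩, rfl⟩

theorem KQ (st : Start K t q) {x : G} (hx : x ∈ K) (hq : x ∈ zpowers q) : x = 1 :=
  st.cen x hx fun y hy => st.QK x hq y hy

theorem mem_TT_K (st : Start K t q) {x : K} (hx : (x : G) ∈ TT q SK) : x ∈ SK := by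
  obtain ⟨i, hi, s, hs, e⟩ := (mem_TT st).1 hx
  have h1 : i ∈ K := by
    have : i = x * (s : G)⁻¹ := by rw [e]; group
    rw [this]
    exact K.mul_mem x.2 (K.inv_mem s.2)
  have h2 := KQ st h1 hi
  rw [h2, one_mul] at e
  rw [Subtype.ext e]
  exact hs

theorem commutator_le_K (st : Start K t q) (hout : ∀ φ : MulAut K, ∃ k : K, φ = MulAut.conj k) {a b : G}
    (ha : a * t = t * a) (hb : b * t = t * b) : ⁅a, b⁆ ∈ K := by
  obtain ⟨i, hi, k, hk, rfl⟩ := mem_QK st hout ha
  obtain ⟨j, hj, l, hl, rfl⟩ := mem_QK st hout hb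
  have e : ⁅i * k, j * l⁆ = ⁅k, l⁆ := by
    have h1 := st.QK i hi
    have h2 := st.QK j hj
    have h3 : i * j = j * i := by
      obtain ⟨m, rfl⟩ := mem_zpowers_iff.1 hi
      obtain ⟨n, rfl⟩ := mem_zpowers_iff.1 hj
      rw [← zpow_add, ← zpow_add, add_comm]
    have h1' : ∀ x ∈ K, x * i⁻¹ = i⁻¹ * x := fun x hx => by
      rw [eq_inv_mul_iff_mul_eq, ← mul_assoc, ← h1 x hx, mul_inv_cancel_right]
    have h2' : ∀ x ∈ K, x * j⁻¹ = j⁻¹ * x := fun x hx => by
      rw [eq_inv_mul_iff_mul_eq, ← mul_assoc, ← h2 x hx, mul_inv_cancel_right]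
    rw [commutatorElement_def, commutatorElement_def, mul_inv_rev, mul_inv_rev]
    calc i * k * (j * l) * (k⁻¹ * i⁻¹) * (l⁻¹ * j⁻¹)
        = i * (k * j) * l * (k⁻¹ * i⁻¹) * (l⁻¹ * j⁻¹) := by group
      _ = i * (j * k) * l * (i⁻¹ * k⁻¹) * (j⁻¹ * l⁻¹) := by
          rw [h2 k hk, h1' _ (K.inv_mem hk), h2' _ (K.inv_mem hl)]
      _ = i * j * (k * l * i⁻¹) * k⁻¹ * j⁻¹ * l⁻¹ := by group
      _ = i * j * (i⁻¹ * (k * l)) * k⁻¹ * j⁻¹ * l⁻¹ := by rw [h1' _ (K.mul_mem hk hl)]
      _ = i * j * i⁻¹ * (k * l * k⁻¹ * j⁻¹) * l⁻¹ := by group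
      _ = i * j * i⁻¹ * (j⁻¹ * (k * l * k⁻¹)) * l⁻¹ := by
          rw [h2' _ (K.mul_mem (K.mul_mem hk hl) (K.inv_mem hk))]
      _ = (i * j) * i⁻¹ * j⁻¹ * (k * l * k⁻¹ * l⁻¹) := by group
      _ = k * l * k⁻¹ * l⁻¹ := by rw [h3]; group
  rw [e, commutatorElement_def]
  exact K.mul_mem (K.mul_mem (K.mul_mem hk hl) (K.inv_mem hk)) (K.inv_mem hl)

/-- **`CycT.Facts`** -/
theorem facts [Finite G] (st : Start K t q) (hout : ∀ φ : MulAut K, ∃ k : K, φ = MulAut.conj k)
    (h : Sheet SK V W z c) : CycT.Facts K t q (z : G) (TT q SK) := by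
  have hzc := Frame.z_cen h
  have hzS : z ∈ SK := h.VS h.zV
  have hSK : ∀ s : K, s ∈ SK → (s : G) ∈ TT q SK := fun s hs => (mem_TT st).2 ⟨1, one_mem _, s, hs, by group⟩
  have hQT : ∀ i ∈ zpowers q, i ∈ TT q SK := fun i hi => (le_sup_left : zpowers q ≤ TT q SK) hi
  have htK : t ∉ K := fun h1 => st.t1 (st.cen t h1 fun y hy => st.Kt y hy)
  have hzz : (z : G) * z = 1 := congrArg Subtype.val (h.elV z h.zV)
  have hzt := st.Kt z z.2
  refine
    { toStart := st
      pT := ?_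
      tc := ?_
      max := ?_
      z1 := fun e => h.z1 (Subtype.ext e)
      zT := hSK z hzS
      zK := z.2
      zS := ?_
      P1 := ?_
      T1s := ?_
      idx := ?_
      iso := ?_ }
  · rintro ⟨x, hx⟩
    obtain ⟨i, hi, s, hs, rfl⟩ := (mem_TT st).1 hx
    obtain ⟨m, hm⟩ := st.pQ ⟨i, hi⟩
    obtain ⟨n, hn⟩ := h.two ⟨s, hs⟩
    have hm' : i ^ 2 ^ m = 1 := congrArg Subtype.val hm
    have hn' : (s : G) ^ 2 ^ n = 1 := by
      have h1 : s ^ 2 ^ n = 1 := congrArg Subtype.val hn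
      exact congrArg Subtype.val h1
    refine ⟨m + n, Subtype.ext ?_⟩
    show (i * (s : G)) ^ 2 ^ (m + n) = 1
    have hc : Commute i (s : G) := (st.QK i hi s s.2).symm
    rw [hc.mul_pow, pow_add, pow_mul, hm', one_pow, one_mul, mul_comm, pow_mul, hn', one_pow]
  · intro x hx
    obtain ⟨i, hi, s, hs, rfl⟩ := (mem_TT st).1 hx
    calc i * (s : G) * t = i * (s * t) := by group
      _ = i * t * s := by rw [st.Kt s s.2]; group
      _ = t * i * s := by rw [st.Qt i hi]
      _ = _ := by group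
  · intro P hP hle hPt x hx
    obtain ⟨i, hi, k, hk, e⟩ := mem_QK st hout (hPt x hx)
    have hkP : k ∈ P := by
      have : k = i⁻¹ * x := by rw [e]; group
      rw [this]
      exact P.mul_mem (P.inv_mem (hle (hQT i hi))) hx
    have h1 : IsPGroup 2 ↥(P.subgroupOf K) := hP.comap_of_injective K.subtype K.subtype_injective
    have h2 := h.max (P.subgroupOf K) h1 (fun s hs => mem_subgroupOf.2 (hle (hSK s hs)))
    have h3 : (⟨k, hk⟩ : K) ∈ P.subgroupOf K := mem_subgroupOf.2 hkP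
    rw [h2] at h3
    exact (mem_TT st).2 ⟨i, hi, ⟨k, hk⟩, h3, e⟩
  · intro x hx hxK
    exact congrArg Subtype.val (hzc ⟨x, hxK⟩ (mem_TT_K st hx))
  · intro y hy hyK hyc
    rcases h.cen ⟨y, hyK⟩ (mem_TT_K st hy) (fun s hs => Subtype.ext (hyc s (hSK s hs) s.2)) with e | e
    · exact Or.inl (congrArg Subtype.val e)
    · exact Or.inr (congrArg Subtype.val e)
  · intro y hy _ _
    obtain ⟨i, hi, k, hk, rfl⟩ := mem_QK st hout hy
    exact mul_mem ((le_sup_left : zpowers q ≤ _) hi) ((le_sup_right : K ≤ _) hk)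
  · intro a ha b hb haM _
    exfalso
    apply haM
    obtain ⟨i, hi, s, hs, rfl⟩ := (mem_TT st).1 ha
    exact mul_mem ((le_sup_left : zpowers q ≤ _) hi) ((le_sup_right : K ≤ _) s.2)
  · intro g h1 h2
    by_contra hno
    -- `g` normalises `E = C(t) ∩ C(z)`
    set E : Subgroup G := centralizer ({t} : Set G) ⊓ centralizer ({(z : G)} : Set G) with hE
    have mE : ∀ {y : G}, y ∈ E ↔ y * t = t * y ∧ y * z = z * y := by
      intro y
      rw [hE, mem_inf, mem_centralizer_singleton_iff, mem_centralizer_singleton_iff]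
    have hne : g * t * g⁻¹ ≠ g * z * g⁻¹ := by
      intro e
      apply htK
      have : t = z := mul_left_cancel (mul_right_cancel e)
      rw [this]
      exact z.2
    have hz1 : (z : G) ≠ 1 := fun e => h.z1 (Subtype.ext e)
    have hEg : ∀ y ∈ E, g * y * g⁻¹ ∈ E := by
      intro y hy
      obtain ⟨hyt, hyz⟩ := mE.1 hy
      have e1 : (g * y * g⁻¹) * (g * t * g⁻¹) = (g * t * g⁻¹) * (g * y * g⁻¹) := by
        calc (g * y * g⁻¹) * (g * t * g⁻¹) = g * (y * t) * g⁻¹ := by group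
          _ = g * (t * y) * g⁻¹ := by rw [hyt]
          _ = _ := by group
      have e2 : (g * y * g⁻¹) * (g * z * g⁻¹) = (g * z * g⁻¹) * (g * y * g⁻¹) := by
        calc (g * y * g⁻¹) * (g * z * g⁻¹) = g * (y * z) * g⁻¹ := by group
          _ = g * (z * y) * g⁻¹ := by rw [hyz]
          _ = _ := by group
      generalize g * y * g⁻¹ = w at e1 e2 ⊢
      generalize g * t * g⁻¹ = a at e1 h1 hne
      generalize g * z * g⁻¹ = b at e2 h2 hne hno
      have c1 : Commute w a := e1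
      have c2 : Commute w b := e2
      have c3 : Commute w (a * b) := c1.mul_right c2
      have tt := st.tt
      have htz : t * (z : G) = z * t := hzt.symm
      have r1 : t * (t * (z : G)) = z := by rw [← mul_assoc, tt, one_mul]
      have r2 : (z : G) * (t * z) = t := by rw [htz, ← mul_assoc, hzz, one_mul]
      have r3 : t * (z : G) * t = z := by rw [htz, mul_assoc, tt, mul_one]
      have r4 : t * (z : G) * z = t := by rw [mul_assoc, hzz, mul_one]
      rw [mE]
      rcases h1 with rfl | rfl | rfl <;> rcases h2 with rfl | rfl | rfl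
      · exact absurd rfl hne
      · exact absurd rfl hno
      · rw [r1] at c3
        exact ⟨c1, c3⟩
      · exact ⟨c2, c1⟩
      · exact absurd rfl hne
      · rw [r2] at c3
        exact ⟨c3, c1⟩
      · rw [r3] at c3
        exact ⟨c2, c3⟩
      · exact absurd rfl hno
      · exact absurd rfl hne
    have hzE : (z : G) ∈ ⁅E, E⁆ := by
      have h3 : (⁅centralizer ({z} : Set K), centralizer ({z} : Set K)⁆).map K.subtype ≤ ⁅E, E⁆ := by
        rw [map_commutator]
        have h4 : (centralizer ({z} : Set K)).map K.subtype ≤ E := by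
          rintro _ ⟨k, hk, rfl⟩
          exact mE.2 ⟨st.Kt k k.2, congrArg Subtype.val (mem_centralizer_singleton_iff.1 hk)⟩
        exact commutator_mono h4 h4
      exact h3 ⟨z, h.zD, rfl⟩
    have hEE : ⁅E, E⁆ ≤ K := by
      rw [commutator_le]
      intro a ha b hb
      exact commutator_le_K st hout (mE.1 ha).1 (mE.1 hb).1
    have h5 : g * z * g⁻¹ ∈ K := by
      apply hEE
      have h6 : ⁅E, E⁆.map (MulAut.conj g).toMonoidHom ≤ ⁅E, E⁆ := by
        rw [map_commutator]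
        have h7 : E.map (MulAut.conj g).toMonoidHom ≤ E := by
          rintro _ ⟨y, hy, rfl⟩
          exact hEg y hy
        exact commutator_mono h7 h7
      exact h6 ⟨z, hzE, rfl⟩
    rcases h2 with e | e | e
    · rw [e] at h5
      exact htK h5
    · exact hno e
    · rw [e] at h5
      apply htK
      exact (K.mul_mem_cancel_right z.2).1 h5

/-- **The row of a group with a sheet and without outer automorphisms.** -/
theorem row_clean (C : Ctx G) (S : Std G K) (hcyc : Cyc K)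
    (hout : ∀ φ : MulAut K, ∃ k : K, φ = MulAut.conj k) (h : Sheet SK V W z c) : False := by
  have := C.fin
  obtain ⟨t, q, st⟩ := exists_start C S hcyc (center_eq_bot h)
  obtain ⟨-, hQ, -⟩ := CycT.main (facts st hout h) (commutator_eq_top C) (index_ne_two C)
  have htK : t ∉ K := fun h1 => st.t1 (st.cen t h1 fun y hy => st.Kt y hy)
  apply kill (φ := K.subtype) (t := t) (index_ne_two C) h
  exact
    { tt := st.tt
      t1 := st.t1
      inj := K.subtype_injective
      comm := fun k => st.Kt k k.2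
      tK := fun k e => htK (by rw [← e]; exact k.2)
      cent := by
        intro g hg
        obtain ⟨i, hi, k, hk, e⟩ := mem_QK st hout hg
        rcases hQ i hi with rfl | rfl
        · exact ⟨⟨k, hk⟩, Or.inl (by rw [e, one_mul]; rfl)⟩
        · exact ⟨⟨k, hk⟩, Or.inr e⟩ }

end

/-- **row `m23` of `D8.Rows.All`**, from the sheet of `M23` -/
theorem row_m23 (hs : ∀ (K : Type u) [Group K], Spor.IsoM23 K →
    ∃ (SK V W : Subgroup K) (z c : K), Sheet SK V W z c) : D8.Rows.Row.{u} (fun K _ => Spor.IsoM23 K) := by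
  intro G _ C K S hcyc hK
  obtain ⟨SK, V, W, z, c, h⟩ := hs ↥K hK
  refine row_clean C S hcyc (fun φ => ?_) h
  obtain ⟨k, hk⟩ := KFacts.M23.OutOne.exists_conj' hK φ
  exact ⟨k, MulEquiv.ext hk⟩

end Cfsg.Agent.OddHalf.MM.Row
end

-- part: OddHalf/MM/Transport
section
/-!
# Transport of the sheet along an isomorphism (helper259)
-/

set_option autoImplicit false

namespace Cfsg.Agent.OddHalf.MM

variable {K L : Type*} [Group K] [Group L] (f : L ≃* K)

theorem mem_comapE {V : Subgroup K} {x : L} : x ∈ V.comap f.toMonoidHom ↔ f x ∈ V := Iff.rfl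

theorem nrm_comapE {V : Subgroup K} {k : L} : Nrm k (V.comap f.toMonoidHom) ↔ Nrm (f k) V := by
  constructor
  · intro h x
    have h1 := h (f.symm x)
    rw [mem_comapE, mem_comapE, map_mul, map_mul, map_inv, f.apply_symm_apply] at h1
    exact h1
  · intro h x
    rw [mem_comapE, mem_comapE, map_mul, map_mul, map_inv]
    exact h (f x)

theorem cen_comapE {V : Subgroup K} {k : L} : Cen k (V.comap f.toMonoidHom) ↔ Cen (f k) V := by
  constructor
  · intro h x hx
    have h1 := h (f.symm x) (by rw [mem_comapE, f.apply_symm_apply]; exact hx)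
    have h2 := congrArg f h1
    rwa [map_mul, map_mul, f.apply_symm_apply] at h2
  · intro h x hx
    apply f.injective
    rw [map_mul, map_mul]
    exact h (f x) hx

theorem el_comapE {V : Subgroup K} : El (V.comap f.toMonoidHom) ↔ El V := by
  constructor
  · intro h x hx
    have h1 := h (f.symm x) (by rw [mem_comapE, f.apply_symm_apply]; exact hx)
    have h2 := congrArg f h1
    rwa [map_mul, f.apply_symm_apply, map_one] at h2
  · intro h x hx
    apply f.injective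
    rw [map_mul, map_one]
    exact h (f x) hx

theorem card_comapE {V : Subgroup K} : Nat.card (V.comap f.toMonoidHom) = Nat.card V := by
  refine Nat.card_congr ⟨fun x => ⟨f x, x.2⟩, fun y => ⟨f.symm y, ?_⟩, fun x => ?_, fun y => ?_⟩
  · rw [mem_comapE, f.apply_symm_apply]; exact y.2
  · exact Subtype.ext (f.symm_apply_apply _)
  · exact Subtype.ext (f.apply_symm_apply _)

theorem two_comapE {V : Subgroup K} : IsPGroup 2 (V.comap f.toMonoidHom) ↔ IsPGroup 2 V := by
  constructor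
  · intro h
    rintro ⟨x, hx⟩
    obtain ⟨n, hn⟩ := h ⟨f.symm x, by rw [mem_comapE, f.apply_symm_apply]; exact hx⟩
    refine ⟨n, Subtype.ext ?_⟩
    have h1 : f.symm x ^ 2 ^ n = 1 := congrArg Subtype.val hn
    have h2 := congrArg f h1
    rwa [map_pow, f.apply_symm_apply, map_one] at h2
  · intro h
    rintro ⟨x, hx⟩
    obtain ⟨n, hn⟩ := h ⟨f x, hx⟩
    refine ⟨n, Subtype.ext ?_⟩
    have h1 : f x ^ 2 ^ n = 1 := congrArg Subtype.val hn
    show x ^ 2 ^ n = 1
    apply f.injective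
    rw [map_pow, h1, map_one]

theorem comap_symm {V : Subgroup L} : (V.comap f.symm.toMonoidHom).comap f.toMonoidHom = V := by
  ext x
  show f.symm (f x) ∈ V ↔ _
  rw [f.symm_apply_apply]

/-- **Transport.** -/
theorem Sheet.transport {SK V W : Subgroup K} {z c : K} (h : Sheet SK V W z c) :
    Sheet (SK.comap f.toMonoidHom) (V.comap f.toMonoidHom) (W.comap f.toMonoidHom) (f.symm z)
      (f.symm c) where
  two := (two_comapE f).2 h.two
  max := by
    intro P hP hle
    have h1 : P.comap f.symm.toMonoidHom = SK := by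
      apply h.max
      · rw [← two_comapE f, comap_symm]; exact hP
      · intro x hx
        apply hle
        show f (f.symm x) ∈ SK
        rw [f.apply_symm_apply]; exact hx
    rw [← h1, comap_symm]
  VS := fun x hx => h.VS hx
  WS := fun x hx => h.WS hx
  cardV := by rw [card_comapE]; exact h.cardV
  cardW := by rw [card_comapE]; exact h.cardW
  cardVW := by
    have : V.comap f.toMonoidHom ⊓ W.comap f.toMonoidHom = (V ⊓ W).comap f.toMonoidHom := rfl
    rw [this, card_comapE]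
    exact h.cardVW
  elV := (el_comapE f).2 h.elV
  elW := (el_comapE f).2 h.elW
  nV := fun s hs => (nrm_comapE f).2 (h.nV _ hs)
  nW := fun s hs => (nrm_comapE f).2 (h.nW _ hs)
  zV := by rw [mem_comapE, f.apply_symm_apply]; exact h.zV
  zW := by rw [mem_comapE, f.apply_symm_apply]; exact h.zW
  z1 := by
    intro e
    apply h.z1
    rw [← f.apply_symm_apply z, e, map_one]
  cS := by rw [mem_comapE, f.apply_symm_apply]; exact h.cS
  cc := by rw [← map_mul, h.cc, map_one]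
  cN := by
    intro v hv w hw e
    apply h.cN _ hv _ hw
    rw [← f.apply_symm_apply c, e, map_mul]
    rfl
  gen := by
    intro s hs
    obtain ⟨v, hv, w, hw, e⟩ := h.gen _ hs
    refine ⟨f.symm v, by rw [mem_comapE, f.apply_symm_apply]; exact hv, f.symm w,
      by rw [mem_comapE, f.apply_symm_apply]; exact hw, ?_⟩
    rcases e with e | e
    · left
      rw [← map_mul, ← e]
      exact (f.symm_apply_apply s).symm
    · right
      rw [← map_mul, ← map_mul, ← e]
      exact (f.symm_apply_apply s).symm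
  cVW := by
    intro v hv hvW w hw e
    exact h.cVW _ hv hvW _ hw (by
      have := congrArg f e
      rwa [map_mul, map_mul] at this)
  cWV := by
    intro v hv hvW w hw e
    exact h.cWV _ hv hvW _ hw (by
      have := congrArg f e
      rwa [map_mul, map_mul] at this)
  cen := by
    intro y hy hyc
    rcases h.cen (f y) hy (fun s hs => by
      have h1 := hyc (f.symm s) (by rw [mem_comapE, f.apply_symm_apply]; exact hs)
      have h2 := congrArg f h1
      rwa [map_mul, map_mul, f.apply_symm_apply] at h2) with e | e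
    · left
      apply f.injective
      rw [e, map_one]
    · right
      rw [← e, f.symm_apply_apply]
  inv := by
    intro k hk hk1
    obtain ⟨g, hg⟩ := h.inv (f k) (by rw [← map_mul, hk, map_one]) (by
      intro e
      apply hk1
      apply f.injective
      rw [e, map_one])
    refine ⟨f.symm g, ?_⟩
    apply f.injective
    rw [hg, map_mul, map_mul, map_inv, f.apply_symm_apply, f.apply_symm_apply]
  trV := by
    intro v hv hv1
    obtain ⟨k, hk, e⟩ := h.trV (f v) hv (by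
      intro e
      apply hv1
      apply f.injective
      rw [e, map_one])
    refine ⟨f.symm k, (nrm_comapE f).2 (by rw [f.apply_symm_apply]; exact hk), ?_⟩
    rw [← map_inv, ← map_mul, ← map_mul, e, f.symm_apply_apply]
  trW := by
    intro v hv hv1
    obtain ⟨k, hk, e⟩ := h.trW (f v) hv (by
      intro e
      apply hv1
      apply f.injective
      rw [e, map_one])
    refine ⟨f.symm k, (nrm_comapE f).2 (by rw [f.apply_symm_apply]; exact hk), ?_⟩
    rw [← map_inv, ← map_mul, ← map_mul, e, f.symm_apply_apply]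
  CV := fun k hk => h.CV _ ((cen_comapE f).1 hk)
  CW := fun k hk => h.CW _ ((cen_comapE f).1 hk)
  el16 := by
    intro E hE hel hc
    have h1 : E.comap f.symm.toMonoidHom = V ∨ E.comap f.symm.toMonoidHom = W := by
      apply h.el16
      · intro x hx
        have h2 := hE hx
        rw [mem_comapE] at h2
        have h3 : f (f.symm x) ∈ SK := h2
        rwa [f.apply_symm_apply] at h3
      · rw [← el_comapE f, comap_symm]; exact hel
      · rw [← card_comapE f, comap_symm]; exact hc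
    rcases h1 with h1 | h1
    · left; rw [← h1, comap_symm]
    · right; rw [← h1, comap_symm]
  sq := by
    intro r hr hc
    rcases h.sq (f r) hr (fun k hk hkz => by
      have h1 := hc (f.symm k) ((nrm_comapE f).2 (by rw [f.apply_symm_apply]; exact hk))
        (by rw [← map_mul, hkz, map_mul])
      rcases h1 with h1 | h1
      · left
        have h2 := congrArg f h1
        rwa [map_mul, map_mul, map_inv, f.apply_symm_apply] at h2
      · right
        have h2 := congrArg f h1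
        rwa [map_mul, map_mul, map_inv, f.apply_symm_apply, map_mul, f.apply_symm_apply] at h2) with e | e
    · left
      apply f.injective
      rw [e, map_one]
    · right
      rw [← e, f.symm_apply_apply]
  nS := by
    intro k hk hc
    obtain ⟨v, hv, w, hw, e⟩ := h.nS (f k) ((nrm_comapE f).1 hk) (fun x hx hx' => by
      have h1 := hc (f.symm x) (by rw [mem_comapE, f.apply_symm_apply]; exact hx)
        (by rw [mem_comapE, f.apply_symm_apply]; exact hx')
      have h2 := congrArg f h1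
      rwa [map_mul, map_mul, f.apply_symm_apply] at h2)
    refine ⟨f.symm v, by rw [mem_comapE, f.apply_symm_apply]; exact hv, f.symm w,
      by rw [mem_comapE, f.apply_symm_apply]; exact hw, ?_⟩
    rw [← map_mul, ← e, f.symm_apply_apply]
  del := by
    obtain ⟨d, h1, h2, h3⟩ := h.del
    refine ⟨f.symm d, (nrm_comapE f).2 (by rw [f.apply_symm_apply]; exact h1),
      (nrm_comapE f).2 (by rw [f.apply_symm_apply]; exact h2), ?_⟩
    intro e
    apply h3
    have h4 := congrArg f e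
    rwa [map_mul, map_mul, map_inv, f.apply_symm_apply, f.apply_symm_apply] at h4
  zD := by
    have h1 : (⁅Subgroup.centralizer ({z} : Set K), Subgroup.centralizer ({z} : Set K)⁆).map
        f.symm.toMonoidHom ≤ ⁅Subgroup.centralizer ({f.symm z} : Set L),
          Subgroup.centralizer ({f.symm z} : Set L)⁆ := by
      rw [Subgroup.map_commutator]
      have h2 : (Subgroup.centralizer ({z} : Set K)).map f.symm.toMonoidHom ≤
          Subgroup.centralizer ({f.symm z} : Set L) := by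
        rintro _ ⟨k, hk, rfl⟩
        rw [Subgroup.mem_centralizer_singleton_iff]
        have h3 := congrArg f.symm (Subgroup.mem_centralizer_singleton_iff.1 hk)
        rw [map_mul, map_mul] at h3
        exact h3
      exact Subgroup.commutator_mono h2 h2
    exact h1 ⟨z, h.zD, rfl⟩
  c0 := by
    obtain ⟨x, hx, hx', hc⟩ := h.c0
    refine ⟨f.symm x, by rw [mem_comapE, f.apply_symm_apply]; exact hx,
      by rw [mem_comapE, f.apply_symm_apply]; exact hx', fun e => hc ?_⟩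
    rw [← map_mul, ← map_mul] at e
    exact f.symm.injective e
  cV := by
    obtain ⟨x, hx, hc⟩ := h.cV
    refine ⟨f.symm x, by rw [mem_comapE, f.apply_symm_apply]; exact hx, fun e => hc ?_⟩
    rw [mem_comapE, map_mul, map_mul, map_mul, map_inv, map_inv, f.apply_symm_apply,
      f.apply_symm_apply] at e
    exact e
  cW := by
    obtain ⟨x, hx, hc⟩ := h.cW
    refine ⟨f.symm x, by rw [mem_comapE, f.apply_symm_apply]; exact hx, fun e => hc ?_⟩
    rw [mem_comapE, map_mul, map_mul, map_mul, map_inv, map_inv, f.apply_symm_apply,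
      f.apply_symm_apply] at e
    exact e

end Cfsg.Agent.OddHalf.MM
end

-- part: OddHalf/D8/Final
section
/-!
# ODD half: the node D8 (helper915, integrator)

`Given`: the statements of other nodes which are used. `Missing`: the list of the statements on sporadic groups from
which the node `Iface.D8` follows (`d8`). Fields disappear from the list when they are proved.
-/

set_option autoImplicit false

namespace Cfsg.Agent.OddHalf.D8.Final

open Subgroup Cfsg Cfsg.Agent.OddHalf.D8.Sheet Cfsg.Agent.OddHalf.D8.Rows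

universe u

/-- the statements of other nodes -/
structure Given : Prop where
  /-- the Schreier property of the known simple groups -/
  sch : Cfsg.Agent.Schreier.Cases.SchFor.{u} @IsKnownSimple'
  /-- Gorenstein-Walter (S0483) -/
  gw : SylowSp4.Hyps.GW.{u}
  /-- no intrinsic component of Lie type in odd characteristic (node NI) -/
  ni : CaseM.NI.{u}
  /-- the 2-parts of the multipliers (D9 / D10) -/
  mult : D9.Cut.Mult.{u}
  /-- `OutSign` for the groups with even multiplier (table of helper53) -/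
  sign : CaseM.SignRows.{u}

/-- `C_G(z)` has no component -/
def NoCompM : Prop := MainE.NoComp.{u} (fun _ _ _ P R => CaseM.SheetM P R)

/-- case (M) (helper271) -/
theorem noCompM (g : Given.{u}) (I : Iface.Intr2.{u}) : NoCompM.{u} :=
  CaseM.noComp_of g.sch g.gw (fun G _ C M z hz hM hzM hCM => I G C M hM
    (by
      intro R
      have h1 : IsCyclic ↥(centralizer (M : Set G)) := by
        rw [hCM]
        infer_instance
      infer_instance)
    ⟨z, hz, hzM, by rw [hCM]; exact mem_zpowers z⟩) g.ni g.mult g.sign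

/-- the facts on a group of type (E) -/
def FactsE (X : (K : Type u) → [Group K] → Prop) : Prop :=
  ∀ (K : Type u) [Group K], Finite K → X K →
    ∃ (z : K) (P R : Subgroup K), SheetE z P R ∧ CaseM.SheetM P R

/-- the row of a group of type (E) -/
theorem rowE (hM : NoCompM.{u}) {X : (K : Type u) → [Group K] → Prop} (hX : FactsE.{u} X) : Row.{u} X :=
  MainE.row_of hM hX

/-- the facts on a group of type (C) -/
def FactsC (X : (K : Type u) → [Group K] → Prop) : Prop :=
  ∀ (K : Type u) [Group K], Finite K → X K → center K = ⊥ ∧ ∃ (z : K) (P : Subgroup K), CaseC.SheetC z P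

/-- the row of a group of type (C) (helper971) -/
theorem rowC (g : Given.{u}) (I : Iface.Intr2.{u}) {X : (K : Type u) → [Group K] → Prop} (hX : FactsC.{u} X) :
    Row.{u} X :=
  CaseC.row_of g.sch g.gw (fun G _ C M z h => I G C M h.std
    (by
      intro R
      have h1 : IsCyclic ↥(centralizer (M : Set G)) := by
        rw [h.cent]
        infer_instance
      infer_instance)
    ⟨z, h.hz, h.zM, by rw [h.cent]; exact mem_zpowers z⟩) (CaseM.intrSign g.ni g.mult g.sign) hX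

/-- the missing statements -/
structure Missing : Prop where
  -- facts on groups of type (E)
  suz : FactsE.{u} (fun K _ => Spor.IsoSuz K)
  j3 : FactsE.{u} (fun K _ => Spor.IsoJ3 K)
  th : FactsE.{u} (fun K _ => Spor.IsoTh K)
  co1 : FactsE.{u} (fun K _ => Spor.IsoCo1 K)
  co2 : FactsE.{u} (fun K _ => Spor.IsoCo2 K)
  b : FactsE.{u} (fun K _ => Spor.IsoB K)
  m : FactsE.{u} (fun K _ => Spor.IsoM K)
  j4 : FactsE.{u} (fun K _ => Spor.IsoJ4 K)
  hn : FactsE.{u} (fun K _ => Spor.IsoHN K)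
  fi24 : FactsE.{u} (fun K _ => Spor.IsoFi24' K)
  -- facts on a group of type (C)
  co3 : FactsC.{u} (fun K _ => Spor.IsoCo3 K)
  -- rows
  m22 : Row.{u} (fun K _ => Spor.IsoM22 K)
  m23 : Row.{u} (fun K _ => Spor.IsoM23 K)
  m24 : Row.{u} (fun K _ => Spor.IsoM24 K)
  j2 : Row.{u} (fun K _ => Spor.IsoJ2 K)
  hs : Row.{u} (fun K _ => Spor.IsoHS K)
  he : Row.{u} (fun K _ => Spor.IsoHe K)
  ru : Row.{u} (fun K _ => Spor.IsoRu K)
  on : Row.{u} (fun K _ => Spor.IsoON K)
  fi22 : Row.{u} (fun K _ => Spor.IsoFi22 K)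
  fi23 : Row.{u} (fun K _ => Spor.IsoFi23 K)

/-- all rows from the missing statements -/
theorem all (g : Given.{u}) (I : Iface.Intr2.{u}) (h : Missing.{u}) : All.{u} :=
  have hM := noCompM g I
  { m11 := RowM11.row
    m22 := h.m22
    m23 := h.m23
    m24 := h.m24
    j1 := EightTorus.Rows.j1
    j2 := h.j2
    j3 := rowE hM h.j3
    j4 := rowE hM h.j4
    co1 := rowE hM h.co1
    co2 := rowE hM h.co2
    co3 := rowC g I h.co3
    hs := h.hs
    suz := rowE hM h.suz
    he := h.he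
    ru := h.ru
    on := h.on
    fi22 := h.fi22
    fi23 := h.fi23
    fi24 := rowE hM h.fi24
    hn := rowE hM h.hn
    th := rowE hM h.th
    b := rowE hM h.b
    m := rowE hM h.m }

/-- **the node D8** (as in `Main.Nodes.d8`) -/
theorem d8 (g : Given.{u}) (h : Iface.Intr2.{u} → Missing.{u}) : Iface.Intr2.{u} → Iface.D8.{u} :=
  fun hI => d8_of_rows (all g hI (h hI))

end Cfsg.Agent.OddHalf.D8.Final
end

-- part: OddHalf/UT5/RowHe
section
/-!
# ODD half, D8: the row of the Held group, from `UT5.Row.End` (helper355)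
-/

set_option autoImplicit false

namespace Cfsg.Agent.OddHalf.UT5.RowHe

open Cfsg Cfsg.Agent.SporadicRecognition.HeldModel

universe u

theorem hyp_of_equiv {K L : Type*} [Group K] [Group L] (e : L ≃* K) {z : K} {ι : CC →* K} (h : Hyp z ι) :
    Hyp (e.symm z) (e.symm.toMonoidHom.comp ι) where
  inj := e.symm.injective.comp h.inj
  range := by
    rw [MonoidHom.range_comp, h.range]
    ext x
    rw [Subgroup.mem_centralizer_singleton_iff]
    constructor
    · rintro ⟨y, hy, rfl⟩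
      have h1 := Subgroup.mem_centralizer_singleton_iff.1 hy
      have h2 := congrArg e.symm h1
      rw [map_mul, map_mul] at h2
      exact h2
    · intro hx
      refine ⟨e x, Subgroup.mem_centralizer_singleton_iff.2 ?_, e.symm_apply_apply x⟩
      have h2 := congrArg e hx
      rw [map_mul, map_mul, e.apply_symm_apply] at h2
      exact h2
  map_zz := by
    change e.symm (ι zC) = e.symm z
    rw [h.map_zz]

theorem simple_of_equiv {K L : Type*} [Group K] [Group L] (e : L ≃* K) (h : IsSimpleGroup K) : IsSimpleGroup L :=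
  e.isSimpleGroup

/-- **the row K = He of D8** -/
theorem row (hE : Row.End.{u}) : D8.Rows.Row.{u} (fun K _ => Spor.IsoHe K) := by
  refine Row.row hE fun K _ _ hK => ?_
  obtain ⟨e⟩ := hK
  obtain ⟨z, ι, h⟩ := Cfsg.Agent.KFacts.He.Hyp.hyp_he
  exact ⟨simple_of_equiv e Cfsg.Agent.S1695.result.1, _, _, hyp_of_equiv e h⟩

end Cfsg.Agent.OddHalf.UT5.RowHe
end

-- part: OddHalf/D8/Plug
section
-- merged: Cfsg.Agent.OddHalf.CaseM.LOAllOf
section

/-!
`CaseM.LOAll` is a theorem (THEOREM LO+ of `FixBN/LO*.lean`), and its form for a quasisimple group with an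
automorphism of order `2`.
-/

set_option autoImplicit false

universe u

open Subgroup

namespace Cfsg.Agent.OddHalf.CaseM

open Cfsg.Agent.OddHalf.Iface

/-- **(LO) for all the simple groups of Lie type of odd characteristic.** -/
theorem loAll : LOAll.{u} := by
  intro X _ _ hX hL
  obtain ⟨p, -, hp2, h⟩ := hL
  exact Cfsg.Agent.FixBN.loAut_of_isLieTypeChar hp2 h

end Cfsg.Agent.OddHalf.CaseM

end

-- merged: Cfsg.Agent.KFacts.HS.Comm
section

set_option autoImplicit false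

/-!
# Facts on `HS`: two commuting conjugates of `u` with different squares (in `4³`)
-/

namespace Cfsg.Agent.KFacts.HS

open Cfsg.Agent.HN Cfsg.Agent.HN.Pres Cfsg.Agent.HN.HS100 Cfsg.Agent.HN.P1408 Cfsg.Agent.HN.H0Basic
open Cfsg.Agent.SporadicA.PermTab Cfsg.Agent.HN.WMask
open Cfsg.Agent.OddHalf.D8.HS.SheetHS

universe u

namespace Comm

/-- equality modulo `τ` -/
def eqt (u v : List ℕ) : Bool := bif eqw u v then true else eqw u (v ++ [0, 0])

theorem eqt_spec {u v : List ℕ} (h : eqt u v = true) : hw u = hw v ∨ hw u = hw v * τ := by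
  unfold eqt at h
  cases h1 : eqw u v with
  | true => exact Or.inl (hw_eq h1)
  | false =>
    rw [h1] at h
    right
    rw [hw_eq h, hw_append, hw_τ]

/-- the word of the element `j` -/
def jw : List ℕ := [4, 3, 4, 2, 0]
def jwi : List ℕ := [1, 3, 4, 2, 4]

theorem jwi_eq : hw jwi = (hw jw)⁻¹ := by
  rw [eq_inv_iff_mul_eq_one, ← hw_append, ← hw_nil]
  exact hw_eq (by decide +kernel)

theorem j_mem : hw jw ∈ K := mem_K_of_par (by decide) (by decide)

theorem chk : eqt (jw ++ rmw 28 ++ jwi ++ rmw 28) (rmw 28 ++ (jw ++ rmw 28 ++ jwi)) = true := by decide +kernel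

theorem φ_ne : φ (hw jw * b) ≠ φ (b * hw jw) := by
  intro h
  have h1 := congrArg (fun p : Equiv.Perm (Fin 100) => ((p 0 : Fin 100) : ℕ)) h
  change ((φ (hw jw * hw bw) 0 : Fin 100) : ℕ) = ((φ (hw bw * hw jw) 0 : Fin 100) : ℕ) at h1
  rw [← hw_append, ← hw_append, Classes.φ_hw_apply, Classes.φ_hw_apply] at h1
  exact absurd h1 (by decide +kernel)

end Comm

open Comm

/-- **a conjugate of `u` which commutes with `u` and has another square** -/
theorem Mod.comm {L : Type*} [Group L] (D : Mod L) :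
    ∃ j : L, j * D.u * j⁻¹ * D.u = D.u * (j * D.u * j⁻¹) ∧ j * D.z * j⁻¹ ≠ D.z := by
  refine ⟨D.π ⟨hw jw, j_mem⟩, ?_, ?_⟩
  · unfold Mod.u
    rw [D.π_conj, D.π_mul, D.π_mul, D.π_eq]
    have h := eqt_spec chk
    rw [hw_append, hw_append, hw_append, hw_append, hw_append, hw_append, jwi_eq] at h
    exact h
  · unfold Mod.z
    rw [D.π_conj, Ne, D.π_eq, ← φ_eq_iff]
    intro h
    apply φ_ne
    rw [map_mul, map_mul, map_inv, mul_inv_eq_iff_eq_mul] at h
    rw [map_mul, map_mul]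
    exact h

/-- the fact sheet of `HS`, with `comm` -/
theorem exists_sheet' {L : Type u} [Group L] (h : Cfsg.Spor.IsoHS L) :
    ∃ (z v k : L) (P R : Subgroup L), SheetHS z v k P R ∧
      (∃ n : ℕ, (MulAut.conj : L →* MulAut L).range.index = 2 ^ n) ∧
      (∀ N : Subgroup L, R ≤ N → N ≤ P → (∀ p ∈ P, ∀ n ∈ N, p * n * p⁻¹ ∈ N) → N = R ∨ N = P) ∧
      (∃ c : L, c * (k⁻¹ * z * k * v) * c⁻¹ ∈ P) ∧
      (∀ x : L, x * x = 1 → x ≠ 1 → (∃ c, x = c * z * c⁻¹) ∨ ∃ c, x = c * (k⁻¹ * z * k * v) * c⁻¹) ∧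
      ∃ j : L, j * v * j⁻¹ * v = v * (j * v * j⁻¹) ∧ j * z * j⁻¹ ≠ z := by
  obtain ⟨D⟩ := exists_mod h
  exact ⟨D.z, D.u, D.k, D.P, D.R, D.sheet, D.two, D.max, D.k0, D.inv2, D.comm⟩

end Cfsg.Agent.KFacts.HS

end

-- merged: Cfsg.Agent.OddHalf.D8.RowHS
section

/-!
# ODD half, D8: the row of the Higman-Sims group

G-level: helper970, helper896, helper702 (`HS/EndM.row`); facts: helper473 (`KFacts.HS.exists_sheet`).
-/

set_option autoImplicit false

namespace Cfsg.Agent.OddHalf.D8.RowHS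

open Subgroup Cfsg Cfsg.Agent.OddHalf.D8.HS Cfsg.Agent.OddHalf.D8.HS.SheetHS Cfsg.Agent.OddHalf.D8.HS.GlueM

universe u

/-- the facts on `HS` -/
theorem facts (K : Type u) [Group K] (_ : Finite K) (h : Spor.IsoHS K) :
    ∃ (z v k : K) (P R : Subgroup K), SheetHS z v k P R ∧ SheetHSM z v k P R := by
  obtain ⟨z, v, k, P, R, sh, h1, h2, h3, h4, h5⟩ := Cfsg.Agent.KFacts.HS.exists_sheet' h
  exact ⟨z, v, k, P, R, sh, ⟨h1, h2, h3, h4, h5⟩⟩

/-- **the row K = HS of D8** (`hR` = `Small.RowsAll.rows`, `h58` = S1758) -/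
theorem row (hSch : Cfsg.Agent.Schreier.Cases.SchFor.{u} @IsKnownSimple')
    (hGW : SylowSp4.Hyps.GW.{u}) (hI : Iface.Intr2.{u}) (hS : CaseM.IntrSign.{u})
    (hR : Small.Excl.Rows) (h58 : Elim.P1758.{u}) : Rows.Row.{u} (fun K _ => Spor.IsoHS K) :=
  EndM.row hSch hGW hI hS hR h58 facts

end Cfsg.Agent.OddHalf.D8.RowHS

end

-- merged: Cfsg.Agent.OddHalf.D8.RowCo1
section

/-!
# ODD half, D8: the row of the first Conway group (helper899)

`facts`: the facts of type (E) and of case (M) (`Final.FactsE`); the datum of the `y`-trick is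
helper281's (`KFacts.Co1.YTrick`).
-/

set_option autoImplicit false

namespace Cfsg.Agent.OddHalf.D8.RowCo1

open Cfsg Cfsg.Agent.OddHalf.D8.Sheet

universe u

/-- the facts on `Co1` -/
theorem facts (K : Type u) [Group K] (_ : Finite K) (e : Spor.IsoCo1 K) :
    ∃ (z : K) (P R : Subgroup K), SheetE z P R ∧ CaseM.SheetM P R :=
  Cfsg.Agent.KFacts.Co1.CaseM.exists_sheets K e

/-- **the row K = Co1 of D8** (`hM` = `CaseM.noComp ..`) -/
theorem row (hM : MainE.NoComp.{u} (fun _ _ _ P R => CaseM.SheetM P R)) :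
    Rows.Row.{u} (fun K _ => Spor.IsoCo1 K) :=
  MainE.row_of hM fun K _ hf e => facts K hf e

end Cfsg.Agent.OddHalf.D8.RowCo1

end

-- merged: Cfsg.Agent.OddHalf.D8.RowHN
section

/-!
# ODD half, D8: the row of the Harada-Norton group
-/

set_option autoImplicit false

namespace Cfsg.Agent.OddHalf.D8.RowHN

open Cfsg Cfsg.Agent.OddHalf.D8.Sheet

universe u

/-- the field `hn` of `Final.Missing` (`FactsE`) -/
theorem facts (K : Type u) [Group K] (_ : Finite K) (e : Spor.IsoHN K) :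
    ∃ (z : K) (P R : Subgroup K), SheetE z P R ∧ CaseM.SheetM P R := by
  obtain ⟨e⟩ := e
  exact ⟨_, _, _, SheetMap.sheetE_map e.symm Cfsg.Agent.KFacts.HN.sheetE,
    SheetMMap.sheetM_map e.symm Cfsg.Agent.KFacts.HN.sheetM⟩

end Cfsg.Agent.OddHalf.D8.RowHN

end

-- merged: Cfsg.Agent.OddHalf.D8.RowJ4M
section

/-!
# ODD half, D8: the row of the fourth Janko group, with the facts of case (M) (helper869)
-/

set_option autoImplicit false

namespace Cfsg.Agent.OddHalf.D8.RowJ4M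

open Cfsg

universe u

/-- **the row K = J4 of D8** (`hM` = `CaseM.noComp ..`) -/
theorem row (hM : MainE.NoComp.{u} (fun _ _ _ P R => CaseM.SheetM P R)) :
    Rows.Row.{u} (fun K _ => Spor.IsoJ4 K) :=
  MainE.row_of hM fun _ _ _ h => KFacts.J4.SheetMJ4.exists_sheets h

end Cfsg.Agent.OddHalf.D8.RowJ4M

end

-- merged: Cfsg.Agent.OddHalf.D8.RowTh
section

/-!
# ODD half, D8: the row of the Thompson group (helper950)
-/

set_option autoImplicit false

namespace Cfsg.Agent.OddHalf.D8.RowTh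

open Cfsg Cfsg.Agent.OddHalf.D8.Sheet

universe u

theorem exists_sheet (K : Type u) [Group K] (e : Spor.IsoTh K) :
    ∃ (z : K) (P R : Subgroup K), SheetE z P R := by
  obtain ⟨e⟩ := e
  exact ⟨_, _, _, SheetMap.sheetE_map e.symm Cfsg.Agent.KFacts.Th.Main.sheet⟩

theorem row (hF : MainE.FrontOuter.{u}) (hM : MainE.NoComponent.{u}) :
    Rows.Row.{u} (fun K _ => Spor.IsoTh K) :=
  MainE.row hF hM fun K _ _ e => exists_sheet K e

end Cfsg.Agent.OddHalf.D8.RowTh

end

-- merged: Cfsg.Agent.OddHalf.D8.RowM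
section

/-!
# ODD half, D8: the row of the Monster

`facts`: the facts of type (E) and of case (M) (`Final.FactsE`).
-/

set_option autoImplicit false

namespace Cfsg.Agent.OddHalf.D8.RowM

open Cfsg Cfsg.Agent.OddHalf.D8.Sheet Cfsg.Agent.MonsterX

universe u

/-- the facts on the Monster -/
theorem facts (K : Type u) [Group K] (_ : Finite K) (e : Spor.IsoM K) :
    ∃ (z : K) (P R : Subgroup K), SheetE z P R ∧ CaseM.SheetM P R :=
  KFacts.MonsterM.facts_of Instance.mGroup Instance.mRep Instance.mLat InstanceFinal.mOrbit Instance.mTrans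
    (MonsterP.Equiv.equiv.map fun f => f.symm) e

/-- **the row K = M of D8** (`hM` = `CaseM.noComp ..`) -/
theorem row (hM : MainE.NoComp.{u} (fun _ _ _ P R => CaseM.SheetM P R)) :
    Rows.Row.{u} (fun K _ => Spor.IsoM K) :=
  MainE.row_of hM fun K _ hf e => facts K hf e

end Cfsg.Agent.OddHalf.D8.RowM

end

-- merged: Cfsg.Agent.OddHalf.D8.RowFi24
section

/-!
# ODD half, D8: the row of the Fischer group `Fi24'`
-/

set_option autoImplicit false

namespace Cfsg.Agent.OddHalf.D8.RowFi24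

open Cfsg Cfsg.Spor Subgroup Cfsg.Agent.OddHalf.D8.Sheet
open Cfsg.Agent.KFacts.FiTF Cfsg.Agent.KFacts.FiTF.Defs

universe u

/-- normal subgroups of `E` containing `R` -/
theorem dich (N : Subgroup Spor.Fi24) (hN : N ≤ E) (hR : R ≤ N) (hn : ∀ e ∈ E, ∀ n ∈ N, e * n * e⁻¹ ∈ N) :
    (∀ n ∈ N, QuasiA.Fixes n) ∨ N = E := by
  have : Finite Spor.Fi24 := Cfsg.Agent.R08.FiTwentyFour.finite_Fi24
  exact (QuasiBInst.hyp FixZ.tran FixZ.ncard_Dz Order.card (Cent.cent FixZ.tran) (PerfE.perf FixZ.tran)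
    (fun M h1 h2 h3 => QuasiA.dichW h2 h3 FixZ.tran SubOrb.quasi1 SubOrb.quasi2 h1)).dich_E hN hR hn

/-- the sheet of case (M) of `Fi24'` -/
theorem sheetM : CaseM.SheetM (E.subgroupOf (commutator Spor.Fi24)) (R.subgroupOf (commutator Spor.Fi24)) :=
  SheetMFi.sheetM_of FixZ.tran frame sheetE Order.card dich

/-- the field `fi24` of `Final.Missing` (`FactsE`) -/
theorem facts (K : Type u) [Group K] (_ : Finite K) (e : Spor.IsoFi24' K) :
    ∃ (z : K) (P R : Subgroup K), SheetE z P R ∧ CaseM.SheetM P R := by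
  obtain ⟨e⟩ := e
  exact ⟨_, _, _, SheetMap.sheetE_map e.symm sheetE, SheetMMap.sheetM_map e.symm sheetM⟩

end Cfsg.Agent.OddHalf.D8.RowFi24

end

-- merged: Cfsg.Agent.OddHalf.D8.ON.Row
section

/-!
# ODD half, D8: the row `K = ON` (helper60)

`K = ON`, `P = C_K(z)^∞ ≅ 4.L₃(4)`: some component `M` of `C_G(z)` contains `P` (`CaseC.Hyp.main`), it is normal
(`Kill.normal`), and `Kill.concl` leads to one of the two cases of `CaseC.EndComp.main`.
-/

set_option autoImplicit false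

namespace Cfsg.Agent.OddHalf.D8.ON.Row

open Subgroup Cfsg Cfsg.Agent.OddHalf.Front.FE Cfsg.Agent.OddHalf.D8.Sheet Cfsg.Agent.OddHalf.D8.GlueE
  Cfsg.Agent.OddHalf.D8.Front Cfsg.Agent.OddHalf.D8.ON.Sheet Cfsg.Agent.OddHalf.D3
open Cfsg.Agent.OddHalf.Iface
open Cfsg.Agent.OddHalf.CaseM (toX mem_toX map_toX compOf_map)
open Cfsg.Agent.SignalizersComponents.Components

universe u

/-- a group with a sheet has no central 2-elements -/
theorem center_eq_bot {K : Type*} [Group K] [Finite K] {z v : K} {P E : Subgroup K}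
    (sh : SheetON z v P E) (h2 : IsPGroup 2 ↥(center K)) : center K = ⊥ := by
  rw [eq_bot_iff]
  intro y hy
  rw [mem_bot]
  obtain ⟨S, -, -, hcS⟩ := sh.basic.syl
  have h3 : (center K : Subgroup K) ≤ S := by
    have h4 : IsPGroup 2 ((center K ⊔ S : Subgroup K)) := h2.to_sup_of_normal_left S.isPGroup'
    have h5 := S.is_maximal' h4 le_sup_right
    exact (le_sup_left : center K ≤ center K ⊔ S).trans h5.le
  rcases hcS y (h3 hy) (fun x _ => mem_center_iff.1 hy x) with e | e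
  · exact e
  · exfalso
    obtain ⟨-, -, x, -, -, hx, hx1, hxz, -⟩ := sh.rel
    obtain ⟨k, hk, -⟩ := sh.kk x hx hx1
    apply hxz
    rw [← hk, ← e, mem_center_iff.1 hy k]
    group

variable {G : Type u} [Group G] {K : Subgroup G} {t q : G} {z v : K} {P E : Subgroup K}

/-- **the contradiction** -/
theorem false_of_out (C : Ctx G) (hSch : Cfsg.Agent.Schreier.Cases.SchFor.{u} @IsKnownSimple')
    (hGW : SylowSp4.Hyps.GW.{u}) (I : Intr2.{u}) (hS : CaseM.IntrSign.{u})
    (o : Out K t q z P) (sh : SheetON z v P E) : False := by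
  have hfin := C.fin
  have hz := MainE.orderOf_z o.emb
  have h := CaseC.hyp o sh.qs (MainE.core_eq_bot C hz)
  have htH : t ∈ centralizer ({(z : G)} : Set G) := mem_centralizer_singleton_iff.2 o.emb.comm
  have hvz : (v : G) * z = z * v := congrArg Subtype.val (Kill.z_v sh).symm
  -- no sign
  have hTR : ∀ f : ↥(centralizer ({(z : G)} : Set G)) →* ℤˣ, f ⟨t, htH⟩ ≠ -1 := by
    intro f hf
    have h1 : _root_.commutator ↥(centralizer ({(z : G)} : Set G)) ≤ f.ker := Abelianization.commutator_subset_ker f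
    have h2 := h1 o.com
    rw [MonoidHom.mem_ker] at h2
    rw [h2] at hf
    exact absurd hf (by decide)
  rcases h.main (fun M hM hn => CaseC.sch_le C hSch hz h.Pperf M hM hn) with ⟨f, hf⟩ | ⟨-, M, hM, hPM⟩
  · exact hTR f hf
  have hcomp : Comp (z : G) (M.map (centralizer ({(z : G)} : Set G)).subtype) := _root_.Cfsg.Agent.OddHalf.D3.comp_map hM
  have hPM' : P.map K.subtype ≤ M.map (centralizer ({(z : G)} : Set G)).subtype := by
    rw [← map_toX (z := z) sh.basic.cen]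
    exact map_mono hPM
  have hev : ∀ (y : G) (L : Subgroup G), orderOf y = 2 → Comp y L → 2 ∣ Nat.card L := fun y L hy hL =>
    CaseM.even_card C hy ⟨hL.le, hL.comp⟩
  have hn : ∀ g : G, g * z = z * g →
      Cfsg.Agent.Cit.cj g (M.map (centralizer ({(z : G)} : Set G)).subtype) =
        M.map (centralizer ({(z : G)} : Set G)).subtype := fun g hg =>
    Kill.normal o sh C.bal hev hcomp hPM' hg
  have hMn : M.Normal := by
    refine ⟨fun m hm g => ?_⟩
    have hg : (g : G) * z = z * g := mem_centralizer_singleton_iff.1 g.2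
    have h1 : (g : G) * m * (g : G)⁻¹ ∈ M.map (centralizer ({(z : G)} : Set G)).subtype := by
      rw [← hn g hg]
      exact Cfsg.Agent.Cit.conj_mem_cj ⟨m, hm, rfl⟩
    obtain ⟨x, hx, hxe⟩ := h1
    have h2 : x = g * m * g⁻¹ := Subtype.ext hxe
    rwa [← h2]
  have hzM : (⟨z, mem_centralizer_singleton_iff.2 rfl⟩ : ↥(centralizer ({(z : G)} : Set G))) ∈ M :=
    hPM h.zP
  have nc : Kill.Nc (z : G) (P.map K.subtype) (M.map (centralizer ({(z : G)} : Set G)).subtype) :=
    ⟨hcomp, hPM', hn⟩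
  have hcent : ∀ c : ↥(centralizer ({(z : G)} : Set G)),
      c ∈ centralizer (M : Set ↥(centralizer ({(z : G)} : Set G))) ↔
        ∀ x ∈ M.map (centralizer ({(z : G)} : Set G)).subtype, (c : G) * x = x * c := by
    intro c
    rw [mem_centralizer_iff]
    constructor
    · rintro h1 _ ⟨x, hx, rfl⟩
      exact (congrArg Subtype.val (h1 x hx)).symm
    · intro h1 x hx
      exact Subtype.ext (h1 x ⟨x, hx, rfl⟩).symm
  refine CaseC.EndComp.main C hGW I hS hz hM hMn hzM (t := ⟨t, htH⟩)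
    (y := ⟨v, mem_centralizer_singleton_iff.2 hvz⟩) (Subtype.ext o.emb.st.tt) hTR ?_
  rcases Kill.concl o sh nc with ⟨-, h1⟩ | h1
  · left
    intro c hc
    have h2 : (c : G) ∈ zpowers (v : G) := h1 (mem_centralizer_iff.2 fun x hx => ((hcent c).1 hc x hx).symm)
    obtain ⟨n, hn⟩ := mem_zpowers_iff.1 h2
    exact mem_zpowers_iff.2 ⟨n, Subtype.ext hn⟩
  · right
    intro h2
    have hMc : ∀ x ∈ M, ∀ y ∈ centralizer (M : Set ↥(centralizer ({(z : G)} : Set G))), x * y = y * x :=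
      fun x hx y hy => mem_centralizer_iff.1 hy x hx
    obtain ⟨m, hm, c, hc, hmc⟩ := Cfsg.Agent.Cit.Comp.mem_sup_comm hMc h2
    exact h1 m ⟨m, hm, rfl⟩ c ((hcent c).1 hc) (congrArg Subtype.val hmc).symm

/-- **the row of `ON`** -/
theorem row (hSch : Cfsg.Agent.Schreier.Cases.SchFor.{u} @IsKnownSimple')
    (hGW : SylowSp4.Hyps.GW.{u}) (I : Intr2.{u}) (hS : CaseM.IntrSign.{u}) :
    Rows.Row.{u} (fun K _ => Spor.IsoON K) := by
  intro G _ C K S hcyc hK
  have hfin := C.fin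
  obtain ⟨z, v, P, E, sh⟩ := KFacts.ON.Sheet.exists_sheet hK
  obtain ⟨t, q, st⟩ := exists_start C S hcyc (center_eq_bot sh S.z2)
  exact false_of_out C hSch hGW I hS (Front.FrontOuter.out_of_emb C ⟨st, sh.basic⟩) sh

end Cfsg.Agent.OddHalf.D8.ON.Row

end

-- merged: Cfsg.Agent.OddHalf.D8.Fi22.PumpAbs
section

/-!
# ODD half, D8, `K = Fi₂₂`: the pump-up of `2.U₆(2)` by orders (helper957)

`a` an involution, `D` a component of `C(a)`, `J < D` perfect with centre `{1, a}` and `|J| = 2 |U₆(2)|`.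
As `a ∈ Z(D)` and `|D| ≤ |K|`, the order of `X = D/Z(D)` is divisible by `|U₆(2)|`, different from it and at
most `|Fi₂₂| / 2`; there is no such known simple group with even multiplier.
-/

set_option autoImplicit false

namespace Cfsg.Agent.OddHalf.D8.Fi22.PumpAbs

open scoped commutatorElement
open Subgroup Cfsg Cfsg.Agent.OddHalf.Iface Cfsg.Agent.OddHalf.D8.Fi22.Ord Cfsg.Agent.OddHalf.D9.Cut

universe u

/-- the orders of the groups with even multiplier and of the alternating groups -/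
structure OrdFacts : Prop where
  alt : ∀ (X : Type u) [Group X], IsAlternating X → Bad (Nat.card X) → False
  exc2 : ∀ (X : Type u) [Group X], Exc2 X → Bad (Nat.card X) → Nat.card X = n0
  exc4 : ∀ (X : Type u) [Group X], Exc4 X → Bad (Nat.card X) → False
  sz : ∀ (X : Type u) [Group X], XSz X → Bad (Nat.card X) → False

/-- the group theory: `|X|` is bad and different from `|U₆(2)|` -/
theorem bad_of {D : Type*} [Group D] [Finite D] (hp : commutator D = ⊤) {a : D} (ha : a ∈ center D)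
    (ha2 : orderOf a = 2) {J : Subgroup D} (hne : J ≠ ⊤) (haJ : a ∈ J) (hJp : ⁅J, J⁆ = J)
    (hJz : ∀ x ∈ J, (∀ y ∈ J, x * y = y * x) → x = 1 ∨ x = a) (hJc : Nat.card J = 18393661440)
    (hc : Nat.card D ≤ 64561751654400) :
    Bad (Nat.card (D ⧸ center D)) ∧ Nat.card (D ⧸ center D) ≠ n0 := by
  classical
  -- `|D| = |Z(D)| |X|`
  have h1 := Subgroup.card_eq_card_quotient_mul_card_subgroup (center D)
  have h2 : 2 ∣ Nat.card (center D) := by
    have h3 : orderOf (⟨a, ha⟩ : center D) = 2 := by rw [orderOf_mk, ha2]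
    rw [← h3]
    exact _root_.orderOf_dvd_natCard _
  have hZ0 : 0 < Nat.card (center D) := Nat.card_pos
  have hX0 : 0 < Nat.card (D ⧸ center D) := Nat.card_pos
  have hle : Nat.card (D ⧸ center D) ≤ N0 := by
    have h4 : 2 ≤ Nat.card (center D) := Nat.le_of_dvd hZ0 h2
    have h5 : Nat.card (D ⧸ center D) * 2 ≤ Nat.card D := by
      rw [h1]; exact Nat.mul_le_mul_left _ h4
    have h6 := h5.trans hc
    show _ ≤ 32280875827200
    omega
  -- the image of `J`
  set f : J →* D ⧸ center D := (QuotientGroup.mk' (center D)).comp J.subtype with hf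
  have hker : (f.ker : Set J) = {1, ⟨a, haJ⟩} := by
    ext x
    constructor
    · intro hx
      have hx' : (x : D) ∈ center D := by
        have : f x = 1 := hx
        rwa [hf, MonoidHom.comp_apply, QuotientGroup.mk'_apply, QuotientGroup.eq_one_iff] at this
      rcases hJz x x.2 (fun y _ => ((mem_center_iff.1 hx') y).symm) with h | h
      · left; exact Subtype.ext h
      · right; exact Subtype.ext h
    · rintro (rfl | rfl)
      · exact one_mem _
      · show f ⟨a, haJ⟩ = 1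
        rw [hf, MonoidHom.comp_apply, QuotientGroup.mk'_apply, QuotientGroup.eq_one_iff]
        exact ha
  have hkc : Nat.card f.ker = 2 := by
    have hne' : (1 : J) ≠ ⟨a, haJ⟩ := by
      intro h
      have : a = 1 := (congrArg Subtype.val h).symm
      rw [this, orderOf_one] at ha2
      omega
    have : Nat.card f.ker = Set.ncard (f.ker : Set J) := rfl
    rw [this, hker, Set.ncard_pair hne']
  have hrange : Nat.card f.range = n0 := by
    have h3 := Subgroup.card_eq_card_quotient_mul_card_subgroup f.ker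
    rw [hkc, hJc, Nat.card_congr (QuotientGroup.quotientKerEquivRange f).toEquiv] at h3
    show _ = 9196830720
    omega
  have hd : n0 ∣ Nat.card (D ⧸ center D) := by
    rw [← hrange]
    exact Subgroup.card_subgroup_dvd_card f.range
  refine ⟨⟨hd, hle, hX0⟩, fun heq => hne ?_⟩
  -- equality: `D = J Z(D)`
  have htop : f.range = ⊤ := by
    apply Subgroup.eq_top_of_card_eq
    rw [hrange, heq]
  have hsup : ∀ d : D, ∃ j ∈ J, ∃ z ∈ center D, d = j * z := by
    intro d
    have h3 : (QuotientGroup.mk d : D ⧸ center D) ∈ f.range := by rw [htop]; exact mem_top _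
    obtain ⟨j, hj⟩ := h3
    have h4 : (QuotientGroup.mk (j : D) : D ⧸ center D) = QuotientGroup.mk d := hj
    rw [QuotientGroup.eq] at h4
    exact ⟨j, j.2, _, h4, by group⟩
  have hcomm : commutator D ≤ J := by
    rw [commutator_def, commutator_le]
    intro x _ y _
    obtain ⟨j, hj, z, hz, rfl⟩ := hsup x
    obtain ⟨k, hk, w, hw, rfl⟩ := hsup y
    have hz' := mem_center_iff.1 hz
    have hw' := mem_center_iff.1 hw
    have h5 : ⁅j * z, k * w⁆ = ⁅j, k⁆ := by
      rw [commutatorElement_def, commutatorElement_def]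
      calc j * z * (k * w) * (j * z)⁻¹ * (k * w)⁻¹
          = j * (z * k) * w * (z⁻¹ * j⁻¹) * (w⁻¹ * k⁻¹) := by group
        _ = j * (k * z) * w * (z⁻¹ * j⁻¹) * (w⁻¹ * k⁻¹) := by rw [← hz' k]
        _ = j * k * (z * w) * z⁻¹ * j⁻¹ * w⁻¹ * k⁻¹ := by group
        _ = j * k * (w * z) * z⁻¹ * j⁻¹ * w⁻¹ * k⁻¹ := by rw [hw' z]
        _ = j * k * (w * j⁻¹) * w⁻¹ * k⁻¹ := by group
        _ = j * k * (j⁻¹ * w) * w⁻¹ * k⁻¹ := by rw [← hw' j⁻¹]
        _ = j * k * j⁻¹ * k⁻¹ := by group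
    rw [h5, ← hJp]
    exact commutator_mem_commutator hj hk
  rw [eq_top_iff, ← hp]
  exact hcomm

/-- a quasisimple group modulo its centre is not commutative -/
theorem quo_na {D : Type*} [Group D] (h : IsQuasisimple D) : ¬ IsMulCommutative (D ⧸ center D) := by
  intro hc
  have h1 : commutator D ≤ center D := by
    rw [commutator_def, commutator_le]
    intro x _ y _
    rw [← QuotientGroup.eq_one_iff]
    have h2 := hc.is_comm.comm (QuotientGroup.mk x : D ⧸ center D) (QuotientGroup.mk y)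
    show (QuotientGroup.mk (x * y * x⁻¹ * y⁻¹) : D ⧸ center D) = 1
    have h3 : (QuotientGroup.mk (x * y * x⁻¹ * y⁻¹) : D ⧸ center D) =
        QuotientGroup.mk x * QuotientGroup.mk y * (QuotientGroup.mk x)⁻¹ * (QuotientGroup.mk y)⁻¹ := rfl
    rw [h3, h2]
    group
  rw [h.1.commutator_eq_top] at h1
  have := h.2
  obtain ⟨x, hx⟩ := exists_ne (1 : D ⧸ center D)
  apply hx
  obtain ⟨d, rfl⟩ := QuotientGroup.mk_surjective x
  rw [QuotientGroup.eq_one_iff]
  exact h1 (mem_top d)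

/-- **The pump-up of `2.U₆(2)`**, from the multiplier facts and the orders. -/
theorem pump (M : Mult.{u}) (O : OrdFacts.{u}) : ∀ (G : Type u) [Group G], Ctx G → ∀ K : Subgroup G,
    Std G K → Nat.card K = 64561751654400 → ∀ (a : G) (D J : Subgroup G), orderOf a = 2 → CompOf a D →
    J ≤ D → J ≠ D → a ∈ J → ⁅J, J⁆ = J → (∀ x ∈ J, (∀ y ∈ J, x * y = y * x) → x = 1 ∨ x = a) →
    Nat.card J = 18393661440 → False := by
  intro G _ C K S hK a D J ha hD hJD hne haJ hJp hJz hJc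
  have := C.fin
  have haD : a ∈ D := hJD haJ
  have hDa : ∀ x ∈ D, x * a = a * x := fun x hx => mem_centralizer_singleton_iff.1 (hD.1 hx)
  have hq : IsQuasisimple D :=
    Cfsg.Agent.SignalizersComponents.PLayerAut.isQuasisimple_of_equiv (subgroupOfEquivOfLe hD.1) hD.2.2
  set a' : D := ⟨a, haD⟩ with ha'
  have haz : a' ∈ center D := by
    rw [mem_center_iff]
    intro x
    exact Subtype.ext (hDa x x.2)
  have ha2 : orderOf a' = 2 := by rw [ha', orderOf_mk, ha]
  set J' : Subgroup D := J.subgroupOf D with hJ'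
  have hmap : J'.map D.subtype = J := by
    rw [hJ', subgroupOf_map_subtype, inf_of_le_left hJD]
  have hJ'ne : J' ≠ ⊤ := by
    intro h
    apply hne
    apply le_antisymm hJD
    rw [hJ', subgroupOf_eq_top] at h
    exact h
  have hJ'p : ⁅J', J'⁆ = J' := by
    apply Subgroup.map_injective D.subtype_injective
    rw [Subgroup.map_commutator, hmap, hJp]
  have hJ'z : ∀ x ∈ J', (∀ y ∈ J', x * y = y * x) → x = 1 ∨ x = a' := by
    intro x hx hy
    rcases hJz x (mem_subgroupOf.1 hx) (fun y hy' => by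
      have := hy ⟨y, hJD hy'⟩ (mem_subgroupOf.2 hy')
      exact congrArg Subtype.val this) with h | h
    · exact Or.inl (Subtype.ext h)
    · exact Or.inr (Subtype.ext h)
  have hJ'c : Nat.card J' = 18393661440 := by
    rw [← hJc]
    exact Nat.card_congr (subgroupOfEquivOfLe hJD).toEquiv
  have hcard : Nat.card D ≤ 64561751654400 := by
    rw [← hK]
    refine S.max a D ha hD fun h => ?_
    -- `D` is not simple
    exfalso
    have hs : IsSimpleGroup D := D6.PumpDown.IsL2o.simple h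
    rcases (inferInstance : (center D).Normal).eq_bot_or_eq_top with h2 | h2
    · rw [h2, mem_bot] at haz
      rw [haz, orderOf_one] at ha2
      omega
    · apply quo_na hq
      refine ⟨⟨fun x y => ?_⟩⟩
      obtain ⟨x, rfl⟩ := QuotientGroup.mk_surjective x
      obtain ⟨y, rfl⟩ := QuotientGroup.mk_surjective y
      rw [← QuotientGroup.mk_mul, ← QuotientGroup.mk_mul]
      have hy : y ∈ center D := h2 ▸ mem_top y
      rw [mem_center_iff.1 hy x]
  obtain ⟨hbad, hn0⟩ := bad_of hq.1.commutator_eq_top haz ha2 hJ'ne (mem_subgroupOf.2 haJ) hJ'p hJ'z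
    hJ'c hcard
  have hna := quo_na hq
  have hDne : D ≠ ⊤ := by
    intro h
    -- `a` would be central in `G`
    have := C.simple
    have h1 : a ∈ center G := by
      rw [mem_center_iff]
      intro x
      exact hDa x (h ▸ mem_top x)
    rcases (inferInstance : (center G).Normal).eq_bot_or_eq_top with h2 | h2
    · rw [h2, mem_bot] at h1
      rw [h1, orderOf_one] at ha
      omega
    · apply C.na
      refine ⟨⟨fun x y => ?_⟩⟩
      have hx : y ∈ center G := h2 ▸ mem_top y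
      exact mem_center_iff.1 hx x
  have hknown : IsKnownSimple' (D ⧸ center D) :=
    Known.known_quotient C.kproper D hDne (center D) hq.2 hna
  -- the quotient with cyclic centre
  obtain ⟨B, _, -, -, hQ, hcen, ⟨e⟩⟩ := CycQuot.exists_quo hq haz ha2
  set Y := (D ⧸ B) ⧸ center (D ⧸ B) with hY
  have hcY : Nat.card Y = Nat.card (D ⧸ center D) := Nat.card_congr e.toEquiv
  have hbY : Bad (Nat.card Y) := hcY ▸ hbad
  have hnY : Nat.card Y ≠ n0 := hcY ▸ hn0
  have hkY : IsKnownSimple' Y := Known.isKnownSimple'_congr e.symm hna hknown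
  have hnaY : ¬ IsMulCommutative Y := quo_na hQ.2.1
  rcases Known.classify hnaY hkY with h | h | h | h
  · exact O.alt Y h hbY
  · exact Ord.lieOdd h hbY
  · by_cases h1 : IsAlternating Y
    · exact O.alt Y h1 hbY
    by_cases h2 : LieOdd Y
    · exact Ord.lieOdd h2 hbY
    by_cases h3 : Exc2 Y
    · exact hnY (O.exc2 Y h3 hbY)
    by_cases h4 : Exc4 Y
    · exact O.exc4 Y h4 hbY
    by_cases h5 : XSz Y
    · exact O.sz Y h5 hbY
    exact hcen (M.lie (D ⧸ B) hQ ⟨h, h1, h2⟩ h3 h4 h5)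
  · by_cases h3 : Exc2 Y
    · exact hnY (O.exc2 Y h3 hbY)
    by_cases h4 : Exc4 Y
    · exact O.exc4 Y h4 hbY
    exact hcen (M.spor (D ⧸ B) hQ h h3 h4)

end Cfsg.Agent.OddHalf.D8.Fi22.PumpAbs

end

-- merged: Cfsg.Agent.OddHalf.D8.Fi22.OrdFacts
section

/-!
# ODD half, D8, `K = Fi₂₂`: the order facts (helper921)
-/

set_option autoImplicit false

namespace Cfsg.Agent.OddHalf.D8.Fi22.OrdFacts

open Subgroup Cfsg Cfsg.Agent.OddHalf.D9.Cut Cfsg.Agent.OddHalf.D8.Fi22.Ord

universe u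

/-- everything except the Baby Monster -/
theorem of_b (hb : ∀ (X : Type u) [Group X], Spor.IsoB X → ¬ Bad (Nat.card X)) : PumpAbs.OrdFacts.{u} where
  alt _ _ h hb := Ord.alt h hb
  exc2 X _ h hB := by
    rcases h with h | h | h | h | h | h | h | h | h | h | h | h | h | h
    · exact OrdEven.card_u62 h
    · exact (OrdEven.not_sp62 h hB).elim
    · exact (OrdEven.not_o82 h hB).elim
    · exact (OrdEven.not_g24 h hB).elim
    · exact (OrdEven.not_f42 h hB).elim
    · exact (OrdEven.not_2e62 h hB).elim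
    · exact (Ord.m12 h hB).elim
    · exact (Ord.j2 h hB).elim
    · exact (Ord.hs h hB).elim
    · exact (Ord.suz h hB).elim
    · exact (Ord.ru h hB).elim
    · exact (Ord.fi22 h hB).elim
    · exact (Ord.co1 h hB).elim
    · exact (hb X h hB).elim
  exc4 X _ h hB := by
    rcases h with h | h
    · exact OrdEven.not_l34 h hB
    · exact Ord.m22 h hB
  sz _ _ h hB := OrdEven.not_sz h hB

end Cfsg.Agent.OddHalf.D8.Fi22.OrdFacts

end

-- merged: Cfsg.Agent.OddHalf.D8.Fi22.RowOf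
section

/-!
# ODD half, D8: the row `K = Fi₂₂` from the multiplier facts (helper921)
-/

set_option autoImplicit false

namespace Cfsg.Agent.OddHalf.D8.Fi22.RowOf

open Subgroup Cfsg Cfsg.Agent.OddHalf.D9.Cut Cfsg.Agent.OddHalf.D8.Fi22.Ord

universe u

end Cfsg.Agent.OddHalf.D8.Fi22.RowOf

end

-- merged: Cfsg.Agent.OddHalf.D8.Fi22.RowEnd
section

/-!
# ODD half, D8: the row `K = Fi₂₂`, final form (helper921)
-/

set_option autoImplicit false

namespace Cfsg.Agent.OddHalf.D8.Fi22.RowEnd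

open Subgroup Cfsg Cfsg.Agent.OddHalf.D9.Cut

universe u

theorem ordFacts : PumpAbs.OrdFacts.{u} := OrdFacts.of_b fun _ _ h => Ord.b h

/-- **the row `Fi₂₂`** from the multiplier facts -/
theorem row (M : Mult.{u}) : Rows.Row.{u} (fun K _ => Spor.IsoFi22 K) :=
  Row.row_of (PumpAbs.pump M ordFacts)

end Cfsg.Agent.OddHalf.D8.Fi22.RowEnd

end

-- merged: Cfsg.Agent.OddHalf.D8.JTwo.Row
section

/-!
# ODD half, D8, row `J₂` (helper826)

`row_of`: the row `K = J₂` follows from the absence of components of `C_G(z)` (`NoCompX`) and S1762.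
-/

set_option autoImplicit false

namespace Cfsg.Agent.OddHalf.D8.JTwo.Row

open Subgroup Cfsg Cfsg.Agent.OddHalf.Front.FE Cfsg.Agent.OddHalf.D8.Sheet Cfsg.Agent.OddHalf.D8.GlueE
  Cfsg.Agent.OddHalf.D8.Front Cfsg.Agent.OddHalf.D8.MainE Cfsg.Agent.OddHalf.D8.JTwo.Sheet
  Cfsg.Agent.KFacts.J2.Basic Cfsg.Agent.OddHalf.D8.JTwo.Small Cfsg.Agent.J2Type.Model

universe u

/-- Case (M): `C_G(z)` has no component, if the sheet satisfies `Y`. -/
def NoCompX (Y : (K : Type u) → [Group K] → K → Subgroup K → Subgroup K → Prop) : Prop :=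
  ∀ (G : Type u) [Group G], Iface.Ctx G → ∀ (K : Subgroup G) (t q : G) (z : K) (P R : Subgroup K),
    Out K t q z P → SheetX z P R → Y ↥K z P R →
    ∀ M : Subgroup ↥(centralizer ({(z : G)} : Set G)), ¬ IsComponent M

/-- `J₂` has no central 2-elements -/
theorem center_eq_bot {K : Type*} [Group K] [Finite K] {z u : K} {Q : Subgroup (centralizer ({z} : Set K))}
    {v : Fin 5 → centralizer ({z} : Set K)} {ρ : centralizer ({z} : Set K) →* SP}
    (D : Dat z u Q v ρ) (h2 : IsPGroup 2 ↥(center K)) : center K = ⊥ := by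
  have sh := Cfsg.Agent.KFacts.J2.SheetX.sheetX D
  rw [eq_bot_iff]
  intro y hy
  rw [mem_bot]
  obtain ⟨S, -, -, hcS⟩ := sh.syl
  have h3 : (center K : Subgroup K) ≤ S := by
    have h4 : IsPGroup 2 ((center K ⊔ S : Subgroup K)) := h2.to_sup_of_normal_left S.isPGroup'
    have h5 := S.is_maximal' h4 le_sup_right
    exact (le_sup_left : center K ≤ center K ⊔ S).trans h5.le
  rcases hcS y (h3 hy) (fun x _ => mem_center_iff.1 hy x) with e | e
  · exact e
  · exfalso
    have h4 : centralizer ({z} : Set K) = ⊤ := by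
      rw [eq_top_iff]
      intro k _
      rw [mem_centralizer_singleton_iff, ← e]
      exact mem_center_iff.1 hy k
    have h5 := D.cardC
    rw [h4, Subgroup.card_top, D.card] at h5
    norm_num at h5

/-- **`K = J₂` is impossible** -/
theorem false_of_out (h1762 : Large.H1762.{u}) {G : Type u} [Group G] (C : Iface.Ctx G) {K : Subgroup G}
    {t q : G} {z v' : K} {Q : Subgroup (centralizer ({z} : Set K))}
    {v : Fin 5 → centralizer ({z} : Set K)} {ρ : centralizer ({z} : Set K) →* SP} [Finite K]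
    (D : Dat z v' Q v ρ) (o : Out K t q z (centralizer ({z} : Set K)))
    (hM : ∀ M : Subgroup ↥(centralizer ({(z : G)} : Set G)), ¬ IsComponent M) : False := by
  have hfin := C.fin
  have sh := Cfsg.Agent.KFacts.J2.SheetX.sheetX D
  have Dd := Glue.data C o sh hM
  have hlam : ∀ lam : centralizer ({(z : G)} : Set G) →* ℤˣ,
      lam ⟨t, mem_centralizer_singleton_iff.2 Dd.comm⟩ = 1 := by
    intro lam
    have h1 : _root_.commutator (centralizer ({(z : G)} : Set G)) ≤ lam.ker := Abelianization.commutator_subset_ker lam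
    exact h1 o.com
  by_cases htF : t ∈ (pCore 2 ↥(centralizer ({(z : G)} : Set G))).map (centralizer ({(z : G)} : Set G)).subtype
  · have X := xhyp o sh Dd htF
    by_cases hnor : ∀ g : G, g * z = z * g → g * t * g⁻¹ = t ∨ g * t * g⁻¹ = t * z
    · exact notMem D o X hnor
    · push Not at hnor
      obtain ⟨hex, -, hcard⟩ := X.main hlam hnor
      have h32 : Nat.card ↥((Q.map (centralizer ({z} : Set K)).subtype).map K.subtype) = 32 := by
        rw [Subgroup.card_map_of_injective K.subtype_injective,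
          Subgroup.card_map_of_injective (subtype_injective _), D.cardQ]
      rw [h32] at hcard
      have hbot := core_eq_bot C (orderOf_z o.emb)
      have hlay : layer ↥(centralizer ({(z : G)} : Set G)) = ⊥ := by
        unfold layer
        rw [sSup_eq_bot]
        intro M hMc
        exact absurd hMc (hM M)
      have hself := (Cfsg.Agent.SignalizersComponents.PConstrained.centralizer_pCore_le_iff_layer_eq_bot 2
        hbot).2 hlay
      refine Large.not_large h1762 C (orderOf_z o.emb) hself hex (by rw [hcard]; norm_num) ?_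
      have h1 : Nat.card K ∣ Nat.card G := card_subgroup_dvd_card K
      rw [D.card] at h1
      exact (by norm_num : 25 ∣ 604800).trans h1
  · obtain ⟨lam, hl⟩ := Dd.exists_lam htF
    rw [hlam lam] at hl
    exact (by decide : (1 : ℤˣ) ≠ -1) hl

/-- **the row `J₂`** -/
theorem row_of (h1762 : Large.H1762.{u})
    {Y : (K : Type u) → [Group K] → K → Subgroup K → Subgroup K → Prop} (hM : NoCompX.{u} Y)
    (hY : ∀ (K : Type u) [Group K] [Finite K] (z v' : K) (Q : Subgroup (centralizer ({z} : Set K)))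
      (v : Fin 5 → centralizer ({z} : Set K)) (ρ : centralizer ({z} : Set K) →* SP), Dat z v' Q v ρ →
      Y K z (centralizer ({z} : Set K)) (Q.map (centralizer ({z} : Set K)).subtype)) :
    Rows.Row.{u} (fun K _ => Spor.IsoJ2 K) := by
  intro G _ C K S hcyc hK
  have hfin := C.fin
  obtain ⟨z, v', Q, v, ρ, D⟩ := Cfsg.Agent.KFacts.J2.Facts.exists_dat_of hK
  have sh := Cfsg.Agent.KFacts.J2.SheetX.sheetX D
  obtain ⟨t, q, st⟩ := exists_start C S hcyc (center_eq_bot D S.z2)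
  have o : Out K t q z (centralizer ({z} : Set K)) := out_of_emb C ⟨st, sh.basic⟩
  exact false_of_out h1762 C D o (hM G C K t q z _ _ o sh (hY ↥K z v' Q v ρ D))

end Cfsg.Agent.OddHalf.D8.JTwo.Row

end

-- merged: Cfsg.Agent.OddHalf.D8.JTwo.Final
section

/-!
# ODD half, D8, row `J₂`: the glue (helper206)

`row`: the row `K = J₂` from S1762 and the absence of components of `C_G(z)` (case (M), `CaseM.NoCompX` of helper271).
-/

set_option autoImplicit false

namespace Cfsg.Agent.OddHalf.D8.JTwo.Final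

open Subgroup Cfsg Cfsg.Agent.OddHalf

universe u

/-- **the row `J₂`** -/
theorem row (h1762 : Large.H1762.{u})
    (hM : CaseM.NoCompX.{u} (fun _ _ _ P R => CaseM.SheetM P R)) :
    D8.Rows.Row.{u} (fun K _ => Spor.IsoJ2 K) :=
  D8.JTwo.Row.row_of h1762 (Y := fun _ _ _ P R => CaseM.SheetM P R) hM
    (fun _ _ _ _ _ _ _ _ D => D8.JTwo.SheetM.sheetM D)

end Cfsg.Agent.OddHalf.D8.JTwo.Final

end

-- merged: Cfsg.Agent.OddHalf.MM.RowM23
section

/-!
# ODD half, D8: the row `M23`, unconditional (helper259)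
-/

set_option autoImplicit false

namespace Cfsg.Agent.OddHalf.MM.RowM23

open Cfsg Cfsg.Agent.OddHalf.MM

universe u

/-- the sheet of every group isomorphic to `M23` -/
theorem sheet23 (K : Type u) [Group K] (hK : Spor.IsoM23 K) :
    ∃ (SK V W : Subgroup K) (z c : K), Sheet SK V W z c := by
  obtain ⟨e⟩ := hK
  obtain ⟨SK, V, W, z, c, h⟩ := Cfsg.Agent.KFacts.MM.Main.sheet23
  exact ⟨_, _, _, _, _, h.transport e⟩

/-- the sheet of every group isomorphic to `M22` -/
theorem sheet22 (K : Type u) [Group K] (hK : Spor.IsoM22 K) :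
    ∃ (SK V W : Subgroup K) (z c : K), Sheet SK V W z c := by
  obtain ⟨e⟩ := hK
  obtain ⟨SK, V, W, z, c, h⟩ := Cfsg.Agent.KFacts.MM.Main.sheet22
  exact ⟨_, _, _, _, _, h.transport e⟩

/-- **row `m23` of `D8.Rows.All`** -/
theorem m23 : D8.Rows.Row.{u} (fun K _ => Spor.IsoM23 K) := Row.row_m23 sheet23

end Cfsg.Agent.OddHalf.MM.RowM23

end

-- merged: Cfsg.Agent.OddHalf.D8.Plug
section

/-!
# ODD half: the node D8, with the landed rows plugged in (helper915, integrator)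

`d8`: the node D8 from `CaseM.NI` (node NI). `noComp`: case (M) (no hypothesis except `Intr2`).
-/

set_option autoImplicit false

namespace Cfsg.Agent.OddHalf.D8.Plug

open Subgroup Cfsg Cfsg.Agent.OddHalf.D8.Sheet Cfsg.Agent.OddHalf.D8.Rows

universe u

/-- the 2-parts of the multipliers (D9) -/
theorem mult : D9.Cut.Mult.{u} := D9.MultAll.mult_of ⟨D9.Plug.Ru.field⟩

/-- `OutSign` for the groups with even multiplier (helper661) -/
theorem sign : CaseM.SignRows.{u} := Table.SignAll.signRows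

/-- the Schreier property of the known simple groups -/
theorem sch : Cfsg.Agent.Schreier.Cases.SchFor.{u} @IsKnownSimple' := Cfsg.Agent.Schreier.Assembly.known

/-- Gorenstein-Walter -/
theorem gw : SylowSp4.Hyps.GW.{u} := fun _ _ _ _ S n hn h => Cfsg.Agent.S0483.result S n hn h

/-- S1758 -/
theorem p1758 : HS.Elim.P1758.{u} := fun _ _ _ _ hG z hz hQ => Cfsg.Agent.S1758.result hG z hz hQ

/-- S1762 -/
theorem h1762 : JTwo.Large.H1762.{u} := fun _ _ _ _ hG z hz hE hc =>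
  LargeExtra.AsmSeven.final_of hG z hz hE hc
    (fun s hs e hn => Cfsg.Agent.S1716.result s hs z hz e hn)
    (fun Q _ hF hQ hc e hn => Cfsg.Agent.S1719.result z hz Q hF hQ hc e hn)

/-- `Intr` from `Intr2` -/
theorem intr (I : Iface.Intr2.{u}) : Iface.Intr.{u} := fun G _ C M z hz hM hzM hCM => I G C M hM
  (by
    intro R
    have h1 : IsCyclic ↥(centralizer (M : Set G)) := by
      rw [hCM]
      infer_instance
    infer_instance)
  ⟨z, hz, hzM, by rw [hCM]; exact mem_zpowers z⟩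

/-- case (M) without the `y`-trick (helper271) -/
theorem noCompX (I : Iface.Intr2.{u}) : CaseM.NoCompX.{u} (fun _ _ _ P R => CaseM.SheetM P R) :=
  CaseM.noCompX_of sch gw (intr I) CaseM.loAll mult sign

/-- case (M) (helper271) -/
theorem noComp (I : Iface.Intr2.{u}) : Final.NoCompM.{u} :=
  (noCompX I).noComp

/-- signs of outer automorphisms of intrinsic components (helper271) -/
theorem intrSign (ni : CaseM.NI.{u}) : CaseM.IntrSign.{u} := CaseM.intrSign ni mult sign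

/-- all rows -/
theorem all (ni : CaseM.NI.{u}) (I : Iface.Intr2.{u}) : All.{u} :=
  have hM := noComp I
  { m11 := RowM11.row
    m22 := MMOut.Row22.m22
    m23 := MM.RowM23.m23
    m24 := M24.RowM24.row
    j1 := EightTorus.Rows.j1
    j2 := JTwo.Final.row h1762 (noCompX I)
    j3 := Final.rowE hM fun K _ hf e => RowJ3.sheets K hf e
    j4 := Final.rowE hM fun _ _ _ e => KFacts.J4.SheetMJ4.exists_sheets e
    co1 := Final.rowE hM RowCo1.facts
    co2 := Final.rowE hM RowCo2.facts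
    co3 := RowCo3.row sch gw (CaseM.intr_of (intr I)) (intrSign ni)
    hs := RowHS.row sch gw I (intrSign ni) Small.RowsAll.rows p1758
    suz := Final.rowE hM fun K _ _ e => KFacts.SuzSheets.exists_sheets K e
    he := UT5.RowHe.row UT5.RowEnd.row_end
    ru := RowRu.row
    on := ON.Row.row sch gw I (intrSign ni)
    fi22 := Fi22.RowEnd.row mult
    fi23 := Fi23.row mult
    fi24 := Final.rowE hM RowFi24.facts
    hn := Final.rowE hM RowHN.facts
    th := Final.rowE hM fun K _ _ e => Cfsg.Agent.KFacts.Th.CaseM.exists_sheets K e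
    b := Final.rowE hM RowB.facts
    m := Final.rowE hM RowM.facts }

/-- **the node D8** (as in `Main.Nodes.d8`) -/
theorem d8 (ni : CaseM.NI.{u}) : Iface.Intr2.{u} → Iface.D8.{u} :=
  fun I => d8_of_rows (all ni I)

end Cfsg.Agent.OddHalf.D8.Plug

end
end
end

-- part: OddHalf/D4/Final/Cov
section
prune_inst 0x400102404092210000000000060003c42d2000100000b00015040080004823c4000020e20a8200b001008280400340060130804c0420000000a000000013c07a9000800028008a100200000002000000000000000000000000000000000041000000400000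
set_option linter.all false
open scoped Cfsg.Agent.FastGrp

-- merged: Cfsg.Agent.OddHalf.D4.EvenSz
section

/-!
# ODD half, node D4, covers of the Suzuki groups: the facts (P1), (P2)

`K` perfect, `K / Z(K) ≅ Sz(q)`, `Z(K)` with exactly one involution (any `q`, no multiplier facts).

* `p1`: commuting is not needed: `α, β` involutory automorphisms with `C_K(α) ≤ C_K(β)` are equal;
* `p2`: for every involutory automorphism `α` there is `x` with `α(x)⁻¹ x` a noncentral involution (an element of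
  order 2 modulo nothing).
-/

set_option autoImplicit false
set_option linter.unusedSectionVars false
set_option linter.style.haveILetI false
set_option linter.unusedVariables false

namespace Cfsg.Agent.OddHalf.D4.EvenSz

open scoped commutatorElement
open Cfsg.Agent.StdSz Cfsg.Agent.StdSz.FormAlg Cfsg.Agent.StdSz.BorelCoord Cfsg.Agent.StdSz.CoverA
open Cfsg.Agent.StdSz.CoverC Cfsg.Agent.GH.Cov.SzCover
open Cfsg.Agent.LieRecognition Cfsg.Agent

variable {A : Type*} [Group A] [Finite A] {F : Type*} [Field F] [Fintype F] {m : ℕ}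

/-- the centraliser in `Sz(q)` of `p 0 c`: an element of order at most 2 in it is a `p 0 d`. -/
theorem cent_p (hm : 1 ≤ m) (hF : Fintype.card F = 2 ^ (2 * m + 1)) {c : F} (hc : c ≠ 0)
    {y : ↥(Cfsg.Lie.Sz F (2 ^ (m + 1)))} (hy : y * (szData hF).p 0 c = (szData hF).p 0 c * y)
    (hyy : y * y = 1) : ∃ d, y = (szData hF).p 0 d := by
  haveI := EquivMaps.charP_two hF
  let R : ThreePrime.SzRel.Rel ↥(Cfsg.Lie.Sz F (2 ^ (m + 1))) F :=
    ThreePrime.SzRel.ofGood (SzMatrix.good hF)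
  have hp : ∀ d : F, (szData hF).p 0 d = R.u 0 d := by
    intro d
    show (SzMatrix.good hF).u 0 (d + 0 * SzMatrix.theta hF 0) = (SzMatrix.good hF).u 0 d
    rw [zero_mul, add_zero]
  have h1 : y * R.u 0 c * y⁻¹ = R.u 0 c := by
    rw [← hp, hy, mul_inv_cancel_right]
  have hne : R.u 0 c ≠ 1 := R.u_ne_one hc
  obtain ⟨a, b, k, rfl⟩ := R.exists_ud (R.u_mem 0 c) hne (by rw [h1]; exact R.u_mem _ _)
  have h2 : R.d k * R.u 0 c * (R.d k)⁻¹ = R.u 0 c := by
    have h3 : R.u a b * (R.d k * R.u 0 c * (R.d k)⁻¹) * (R.u a b)⁻¹ = R.u 0 c := by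
      have h6 : R.u a b * (R.d k * R.u 0 c * (R.d k)⁻¹) * (R.u a b)⁻¹ =
          R.u a b * R.d k * R.u 0 c * (R.u a b * R.d k)⁻¹ := by group
      rw [h6, h1]
    have h4 : R.u a b * R.u 0 c * (R.u a b)⁻¹ = R.u 0 c := by
      have h5 : R.u a b * R.u 0 c = R.u 0 c * R.u a b := by
        rw [R.comm_iff, map_zero, mul_zero, zero_mul]
      rw [h5, mul_inv_cancel_right]
    calc R.d k * R.u 0 c * (R.d k)⁻¹
        = (R.u a b)⁻¹ * (R.u a b * (R.d k * R.u 0 c * (R.d k)⁻¹) * (R.u a b)⁻¹) * R.u a b := by group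
      _ = (R.u a b)⁻¹ * (R.u a b * R.u 0 c * (R.u a b)⁻¹) * R.u a b := by rw [h3, h4]
      _ = R.u 0 c := by group
  have hk : k = 1 := by
    rcases R.fpf h2 with h | h
    · exact h
    · exact absurd h.2 hc
  subst hk
  rw [R.d_one, mul_one] at hyy ⊢
  have ha := (R.u_sq_iff a b).mp hyy
  subst ha
  exact ⟨b, (hp b).symm⟩

/-- an involution of `Sz(q)` is conjugate to some `p 0 c`. -/
theorem exists_conj_p (hm : 1 ≤ m) (hF : Fintype.card F = 2 ^ (2 * m + 1))
    {y : ↥(Cfsg.Lie.Sz F (2 ^ (m + 1)))} (hyy : y * y = 1) (hy : y ≠ 1) :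
    ∃ g c, c ≠ 0 ∧ g * y * g⁻¹ = (szData hF).p 0 c := by
  haveI := EquivMaps.charP_two hF
  haveI : Fact (Nat.Prime 2) := ⟨Nat.prime_two⟩
  let R : ThreePrime.SzRel.Rel ↥(Cfsg.Lie.Sz F (2 ^ (m + 1))) F :=
    ThreePrime.SzRel.ofGood (SzMatrix.good hF)
  have hp : ∀ d : F, (szData hF).p 0 d = R.u 0 d := by
    intro d
    show (SzMatrix.good hF).u 0 (d + 0 * SzMatrix.theta hF 0) = (SzMatrix.good hF).u 0 d
    rw [zero_mul, add_zero]
  obtain ⟨Sy, hSy⟩ := R.exists_sylow_eq hm hF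
  have h2 : IsPGroup 2 (Subgroup.zpowers y) :=
    CoverB.isPGroup_zpowers (k := 1) (by rw [pow_one, sq, hyy])
  obtain ⟨Q, hQ⟩ := h2.exists_le_sylow
  obtain ⟨g, hg⟩ := MulAction.exists_smul_eq ↥(Cfsg.Lie.Sz F (2 ^ (m + 1))) Q Sy
  have h3 : g * y * g⁻¹ ∈ R.T := by
    rw [← hSy, ← hg, Sylow.coe_subgroup_smul]
    exact Subgroup.smul_mem_pointwise_smul y (MulAut.conj g) _ (hQ (Subgroup.mem_zpowers y))
  obtain ⟨a, b, hab⟩ := h3
  have h4 : R.u a b * R.u a b = 1 := by
    rw [← hab]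
    calc g * y * g⁻¹ * (g * y * g⁻¹) = g * (y * y) * g⁻¹ := by group
      _ = 1 := by rw [hyy]; group
  have ha := (R.u_sq_iff a b).mp h4
  subst ha
  refine ⟨g, b, ?_, by rw [hp]; exact hab⟩
  rintro rfl
  rw [R.u_zero] at hab
  apply hy
  calc y = g⁻¹ * (g * y * g⁻¹) * g := by group
    _ = 1 := by rw [hab]; group

/-- The data of the cover. -/
theorem exists_data (hp : commutator A = ⊤) (hm : 1 ≤ m) (hF : Fintype.card F = 2 ^ (2 * m + 1))
    (e : A ⧸ Subgroup.center A ≃* ↥(Cfsg.Lie.Sz F (2 ^ (m + 1)))) {t : A} (ht1 : t ≠ 1)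
    (ht : t * t = 1) (htc : t ∈ Subgroup.center A)
    (hu : ∀ z ∈ Subgroup.center A, z * z = 1 → z = 1 ∨ z = t) :
    ∃ (π : A →* ↥(Cfsg.Lie.Sz F (2 ^ (m + 1)))) (P : Subgroup A) (zh : F → A),
      Function.Surjective π ∧ (∀ x : A, π x = 1 ↔ x ∈ Subgroup.center A) ∧
      Cov (szData hF) π P t ∧ Cov.IsZh (szData hF) π P zh ∧
      (∀ x ∈ P, ∀ c, ⁅x, zh c⁆ = 1 ∨ ⁅x, zh c⁆ = t) ∧ ∀ c, c ≠ 0 → ∃ x ∈ P, ⁅x, zh c⁆ = t := by
  haveI := EquivMaps.charP_two hF
  obtain ⟨π, P, B⟩ := exists_base hm hF e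
  have K := B.cov ht1 ht htc hu
  have hcom : (⟨t, K.t_mem⟩ : P) ∈ commutator P :=
    mem_commutator_of_central P B.odd t K.t_mem (fun g => (Subgroup.mem_center_iff.mp htc g).symm)
      ht (by rw [hp]; exact Subgroup.mem_top _)
  obtain ⟨zh, Z, h1, -, h2⟩ := K.main hm hF hcom
  exact ⟨π, P, zh, B.surj, B.ker, K, Z, h1, h2⟩

/-- **(P1)**: an involutory automorphism is determined by its centraliser, and centralisers of involutory automorphisms
are maximal among each other. -/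
theorem p1 (hp : commutator A = ⊤) (hm : 1 ≤ m) (hF : Fintype.card F = 2 ^ (2 * m + 1))
    (e : A ⧸ Subgroup.center A ≃* ↥(Cfsg.Lie.Sz F (2 ^ (m + 1)))) {t : A} (ht1 : t ≠ 1)
    (ht : t * t = 1) (htc : t ∈ Subgroup.center A)
    (hu : ∀ z ∈ Subgroup.center A, z * z = 1 → z = 1 ∨ z = t) {α β : MulAut A} (hα : α * α = 1)
    (hα1 : α ≠ 1) (hβ : β * β = 1) (hβ1 : β ≠ 1) (hle : ∀ x, α x = x → β x = x) : α = β := by
  haveI := EquivMaps.charP_two hF
  obtain ⟨π, P, zh, hsurj, hker, K, Z, hval, hex⟩ := exists_data hp hm hF e ht1 ht htc hu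
  obtain ⟨a, ha⟩ := exists_inner hp hm hF e α (k := 1) (by rw [pow_one, sq, hα])
  obtain ⟨b, hb⟩ := exists_inner hp hm hF e β (k := 1) (by rw [pow_one, sq, hβ])
  -- `a, b` are noncentral, with central squares
  have hsq : ∀ (γ : MulAut A) (g : A), γ * γ = 1 → (∀ x, γ x = g * x * g⁻¹) → π g * π g = 1 := by
    intro γ g h1 h2
    rw [← map_mul, hker, Subgroup.mem_center_iff]
    intro x
    have h3 : γ (γ x) = x := by
      rw [← MulAut.mul_apply, h1]; rfl
    rw [h2, h2] at h3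
    have h4 : g * (g * x * g⁻¹) * g⁻¹ = (g * g) * x * (g * g)⁻¹ := by group
    rw [h4] at h3
    calc x * (g * g) = ((g * g) * x * (g * g)⁻¹) * (g * g) := by rw [h3]
      _ = g * g * x := by group
  have hne : ∀ (γ : MulAut A) (g : A), γ ≠ 1 → (∀ x, γ x = g * x * g⁻¹) → π g ≠ 1 := by
    intro γ g h1 h2 h3
    apply h1
    ext x
    rw [h2, MulAut.one_apply, ← Subgroup.mem_center_iff.mp ((hker g).mp h3) x, mul_inv_cancel_right]
  have hcomm : ∀ x, x * a = a * x → x * b = b * x := by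
    intro x hx
    have h1 : α x = x := by rw [ha, ← hx, mul_inv_cancel_right]
    have h2 := hle x h1
    rw [hb] at h2
    calc x * b = (b * x * b⁻¹) * b := by rw [h2]
      _ = b * x := by group
  obtain ⟨g0, c, hc, hg0⟩ := exists_conj_p hm hF (hsq α a hα ha) (hne α a hα1 ha)
  obtain ⟨g, rfl⟩ := hsurj g0
  -- conjugates
  set a' := g * a * g⁻¹ with ha'
  set b' := g * b * g⁻¹ with hb'
  have hπa : π a' = (szData hF).p 0 c := by rw [ha', map_mul, map_mul, map_inv]; exact hg0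
  have hcomm' : ∀ x, x * a' = a' * x → x * b' = b' * x := by
    intro x hx
    have h1 : (g⁻¹ * x * g) * a = a * (g⁻¹ * x * g) := by
      calc (g⁻¹ * x * g) * a = g⁻¹ * (x * a') * g := by rw [ha']; group
        _ = g⁻¹ * (a' * x) * g := by rw [hx]
        _ = a * (g⁻¹ * x * g) := by rw [ha']; group
    have h2 := hcomm _ h1
    calc x * b' = g * ((g⁻¹ * x * g) * b) * g⁻¹ := by rw [hb']; group
      _ = g * (b * (g⁻¹ * x * g)) * g⁻¹ := by rw [h2]
      _ = b' * x := by rw [hb']; group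
  have hab : a' * b' = b' * a' := hcomm' a' rfl
  have hbb : π b' * π b' = 1 := by
    have h1 := hsq β b hβ hb
    rw [hb', map_mul, map_mul, map_inv]
    calc π g * π b * (π g)⁻¹ * (π g * π b * (π g)⁻¹) = π g * (π b * π b) * (π g)⁻¹ := by group
      _ = 1 := by rw [h1]; group
  obtain ⟨d, hd⟩ := cent_p hm hF hc (y := π b') (by rw [← hπa, ← map_mul, ← map_mul, hab]) hbb
  have hd0 : d ≠ 0 := by
    rintro rfl
    rw [(szData hF).p_zero] at hd
    apply hne β b hβ1 hb
    calc π b = (π g)⁻¹ * π b' * π g := by rw [hb', map_mul, map_mul, map_inv]; group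
      _ = 1 := by rw [hd]; group
  -- functionals
  have hfa : ∀ x : A, ⁅x, zh c⁆ = ⁅x, a'⁆ := fun x => K.comm_eq rfl (by rw [Z.pi, hπa])
  have hfb : ∀ x : A, ⁅x, zh d⁆ = ⁅x, b'⁆ := fun x => K.comm_eq rfl (by rw [Z.pi, hd])
  have himp : ∀ x : A, ⁅x, zh c⁆ = 1 → ⁅x, zh d⁆ = 1 := by
    intro x hx
    rw [hfb, commutatorElement_eq_one_iff_mul_comm]
    rw [hfa, commutatorElement_eq_one_iff_mul_comm] at hx
    exact hcomm' x hx
  have hkt : ∀ x ∈ P, ∀ c, π ⁅x, zh c⁆ = 1 := by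
    intro x hx c
    rcases hval x hx c with h | h
    · rw [h, map_one]
    · rw [h, K.t_ker]
  have hcd : c = d := by
    by_contra hcd
    have h1 : c + d ≠ 0 := fun h => hcd (CharTwo.add_eq_zero.mp h)
    obtain ⟨x, hx, hxt⟩ := hex _ h1
    rw [Z.add, K.cr (hkt x hx d)] at hxt
    have hxc : ⁅x, zh c⁆ = t ∧ ⁅x, zh d⁆ = 1 := by
      rcases hval x hx c with h | h
      · exfalso
        rw [h, himp x h, one_mul] at hxt
        exact K.t_one hxt.symm
      · refine ⟨h, ?_⟩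
        rw [h] at hxt
        exact mul_eq_left.mp hxt
    obtain ⟨y, hy, hyt⟩ := hex d hd0
    have hyc : ⁅y, zh c⁆ = t := by
      rcases hval y hy c with h | h
      · exfalso
        rw [himp y h] at hyt
        exact K.t_one hyt.symm
      · exact h
    have h2 : ⁅x * y, zh c⁆ = 1 := by
      rw [K.cl (hkt y hy c), hxc.1, hyc, K.t_sq]
    have h3 := himp _ h2
    rw [K.cl (hkt y hy d), hxc.2, hyt, one_mul] at h3
    exact K.t_one h3
  subst hcd
  -- `a'` and `b'` agree modulo the centre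
  have hcen : π (b⁻¹ * a) = 1 := by
    have h1 : π a' = π b' := by rw [hπa, hd]
    rw [ha', hb', map_mul, map_mul, map_mul, map_mul] at h1
    have h2 : π a = π b := by
      have := mul_right_cancel h1
      exact mul_left_cancel this
    rw [map_mul, map_inv, h2, inv_mul_cancel]
  ext x
  have h5 := Subgroup.mem_center_iff.mp ((hker _).mp hcen) x
  rw [ha, hb]
  calc a * x * a⁻¹ = b * ((b⁻¹ * a) * x) * a⁻¹ := by group
    _ = b * (x * (b⁻¹ * a)) * a⁻¹ := by rw [h5]
    _ = b * x * b⁻¹ := by group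

/-- **(P2)**: for an involutory automorphism `α` there is `x` with `α(x)⁻¹ x` a noncentral involution. -/
theorem p2 (hp : commutator A = ⊤) (hm : 1 ≤ m) (hF : Fintype.card F = 2 ^ (2 * m + 1))
    (e : A ⧸ Subgroup.center A ≃* ↥(Cfsg.Lie.Sz F (2 ^ (m + 1)))) {t : A} (ht1 : t ≠ 1)
    (ht : t * t = 1) (htc : t ∈ Subgroup.center A)
    (hu : ∀ z ∈ Subgroup.center A, z * z = 1 → z = 1 ∨ z = t) {α : MulAut A} (hα : α * α = 1)
    (hα1 : α ≠ 1) :
    ∃ x : A, ((α x)⁻¹ * x) * ((α x)⁻¹ * x) = 1 ∧ (α x)⁻¹ * x ∉ Subgroup.center A := by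
  haveI := EquivMaps.charP_two hF
  obtain ⟨π, P, zh, hsurj, hker, K, Z, hval, hex⟩ := exists_data hp hm hF e ht1 ht htc hu
  obtain ⟨a, ha⟩ := exists_inner hp hm hF e α (k := 1) (by rw [pow_one, sq, hα])
  have hsq : π a * π a = 1 := by
    rw [← map_mul, hker, Subgroup.mem_center_iff]
    intro x
    have h3 : α (α x) = x := by
      rw [← MulAut.mul_apply, hα]; rfl
    rw [ha, ha] at h3
    have h4 : a * (a * x * a⁻¹) * a⁻¹ = (a * a) * x * (a * a)⁻¹ := by group
    rw [h4] at h3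
    calc x * (a * a) = ((a * a) * x * (a * a)⁻¹) * (a * a) := by rw [h3]
      _ = a * a * x := by group
  have hne : π a ≠ 1 := by
    intro h3
    apply hα1
    ext x
    rw [ha, MulAut.one_apply, ← Subgroup.mem_center_iff.mp ((hker a).mp h3) x, mul_inv_cancel_right]
  obtain ⟨g0, c, hc, hg0⟩ := exists_conj_p hm hF hsq hne
  obtain ⟨g, rfl⟩ := hsurj g0
  set a' := g * a * g⁻¹ with ha'
  have hπa : π a' = (szData hF).p 0 c := by rw [ha', map_mul, map_mul, map_inv]; exact hg0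
  obtain ⟨l, hl⟩ := Cov.exists_unit_ne_one (F := F) hm hF
  obtain ⟨h, hh⟩ := K.tor l
  set w := (l : F) ^ (1 + 2 ^ (m + 1)) with hw
  -- `a' = s * zh c`
  set s := a' * (zh c)⁻¹ with hs
  have hs1 : π s = 1 := by rw [hs, map_mul, map_inv, hπa, Z.pi, mul_inv_cancel]
  have hsc := K.cen s hs1
  have ha2 : a' = s * zh c := by rw [hs]; group
  have key : a' * (h * a'⁻¹ * h⁻¹) = zh (c + w * c) := by
    have h1 : h * a'⁻¹ * h⁻¹ = (h * zh c * h⁻¹)⁻¹ * s⁻¹ := by
      rw [ha2]
      have h2 : h * (s * zh c)⁻¹ * h⁻¹ = h * (zh c)⁻¹ * (s⁻¹ * h⁻¹) := by group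
      have h3 : s⁻¹ * h⁻¹ = h⁻¹ * s⁻¹ := by
        have := hsc h
        calc s⁻¹ * h⁻¹ = (h * s)⁻¹ := by group
          _ = (s * h)⁻¹ := by rw [this]
          _ = h⁻¹ * s⁻¹ := by group
      rw [h2, h3]; group
    have h4 : (zh (w * c))⁻¹ = zh (w * c) := inv_eq_of_mul_eq_one_right (Z.sq _)
    rw [h1, Z.conj h l hh c, ← hw, h4, ha2, Z.add]
    calc s * zh c * (zh (w * c) * s⁻¹) = s * (zh c * zh (w * c)) * s⁻¹ := by group
      _ = zh c * zh (w * c) := by rw [hsc, mul_inv_cancel_right]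
  have hx : ((α (g⁻¹ * h⁻¹ * g))⁻¹ * (g⁻¹ * h⁻¹ * g)) = g⁻¹ * zh (c + w * c) * g := by
    rw [← key, ha, ha']; group
  have hnz : c + w * c ≠ 0 := by
    intro h0
    have h1 : (1 + w) * c = 0 := by rw [add_mul, one_mul]; exact h0
    rcases mul_eq_zero.mp h1 with h2 | h2
    · apply hl
      exact (CharTwo.add_eq_zero.mp h2).symm
    · exact hc h2
  refine ⟨g⁻¹ * h⁻¹ * g, ?_, ?_⟩
  · rw [hx]
    calc g⁻¹ * zh (c + w * c) * g * (g⁻¹ * zh (c + w * c) * g)
        = g⁻¹ * (zh (c + w * c) * zh (c + w * c)) * g := by group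
      _ = 1 := by rw [Z.sq]; group
  · rw [hx]
    intro h1
    have h2 : g * (g⁻¹ * zh (c + w * c) * g) = (g⁻¹ * zh (c + w * c) * g) * g :=
      Subgroup.mem_center_iff.mp h1 g
    have h3 : zh (c + w * c) = g⁻¹ * zh (c + w * c) * g := by
      have h4 : g * (g⁻¹ * zh (c + w * c) * g) * g⁻¹ = zh (c + w * c) := by group
      rw [h2, mul_inv_cancel_right] at h4
      exact h4.symm
    rw [← h3] at h1
    have h5 := (hker _).mpr h1
    rw [Z.pi, ← (szData hF).p_zero] at h5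
    exact hnz ((szData hF).p_inj _ _ _ _ h5).2

end Cfsg.Agent.OddHalf.D4.EvenSz

end

-- merged: Cfsg.Agent.OddHalf.D4.EvenSzRow
section

/-!
# ODD half, node D4: the covers of the Suzuki groups with cyclic centre

`facts`: `PairFree` (P1) and `SqDiff` (P2) for every finite perfect `K` with `Z(K) ≠ 1` a cyclic 2-group and `K / Z(K)` a
Suzuki group; `row`: so `m₂(C(K)) ≤ 1` for a standard subgroup of this type.
-/

set_option autoImplicit false

namespace Cfsg.Agent.OddHalf.D4.EvenSzRow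

open Cfsg Subgroup Cfsg.Agent.OddHalf Cfsg.Agent.OddHalf.D4

universe u

variable {K : Type u} [Group K] [Finite K]

/-- (P1), (P2), the centre with exactly one involution `t`. -/
theorem facts_of_uniq (hp : commutator K = ⊤) {t : K} (ht1 : t ≠ 1) (ht : t * t = 1)
    (htc : t ∈ center K) (hu : ∀ z ∈ center K, z * z = 1 → z = 1 ∨ z = t)
    (hX : D9.Cut.XSz (K ⧸ center K)) : EvenCyc.PairFree K ∧ EvenCyc.SqDiff K := by
  obtain ⟨F, i1, i2, m, hm, hF, ⟨e⟩⟩ := hX
  constructor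
  · intro α β hα hβ hαβ hα1 hβ1 hne hle _
    exact hne (EvenSz.p1 hp hm hF e ht1 ht htc hu hα hα1 hβ hβ1 hle)
  · intro α hα hα1
    obtain ⟨x, h1, h2⟩ := EvenSz.p2 hp hm hF e ht1 ht htc hu hα hα1
    exact ⟨x, h2, h1⟩

/-- (P1), (P2), `Z(K) ≠ 1` a cyclic 2-group. -/
theorem facts (hp : commutator K = ⊤) (h2 : IsPGroup 2 ↥(center K)) (hc : IsCyclic ↥(center K))
    (hne : center K ≠ ⊥) (hX : D9.Cut.XSz (K ⧸ center K)) :
    EvenCyc.PairFree K ∧ EvenCyc.SqDiff K := by
  haveI : Fact (Nat.Prime 2) := ⟨Nat.prime_two⟩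
  haveI := hc
  have hdvd : 2 ∣ Nat.card ↥(center K) := by
    obtain ⟨k, hk⟩ := IsPGroup.iff_card.mp h2
    rcases Nat.eq_zero_or_pos k with rfl | h
    · exfalso
      rw [pow_zero, card_eq_one] at hk
      exact hne hk
    · rw [hk]
      exact dvd_pow_self 2 h.ne'
  obtain ⟨t, ht⟩ := exists_prime_orderOf_dvd_card' 2 hdvd
  have htt : (t : K) * t = 1 := by
    have h3 : t * t = 1 := EvenCyc.mul_self_of_order ht
    exact congrArg Subtype.val h3
  refine facts_of_uniq hp (t := (t : K)) ?_ htt t.2 ?_ hX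
  · intro h3
    have h4 : t = 1 := Subtype.ext h3
    rw [h4, orderOf_one] at ht
    omega
  · intro z hz hzz
    by_cases h1 : z = 1
    · exact Or.inl h1
    · right
      have h3 : orderOf (⟨z, hz⟩ : ↥(center K)) = 2 := by
        apply EvenCyc.order_of_mul_self (Subtype.ext hzz)
        intro h
        exact h1 (congrArg Subtype.val h)
      exact congrArg Subtype.val (EvenCyc.eq_of_cyclic h3 ht)

/-- The row of D4: `Z(K)` cyclic and nontrivial, `K / Z(K)` a Suzuki group. -/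
theorem row {G : Type u} [Group G] {K : Subgroup G} (C : Iface.Ctx G) (S : Iface.Std0 G K)
    (hcyc : IsCyclic ↥(center ↥K)) (hne : center ↥K ≠ ⊥)
    (hX : D9.Cut.XSz (↥K ⧸ center ↥K)) : PRankLE 2 1 ↥(centralizer (K : Set G)) := by
  haveI := C.fin
  have h := facts (K := ↥K) S.std.1.1.commutator_eq_top S.z2 hcyc hne hX
  exact EvenCyc.row C S hcyc hne h.1 h.2

/-- The literal row `sz8` of `D4.Cut.RowsCov`. -/
theorem sz8 : D4.Cut.Row0.{u} (fun K _ => D9.Cut.Two (fun X _ => D4.Cut.XSz8 X) K) := by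
  intro G _ C K S hr hP
  haveI := C.fin
  have hX : D9.Cut.XSz (↥K ⧸ center ↥K) := by
    obtain ⟨F, i1, i2, hF, h⟩ := hP.2
    exact ⟨F, i1, i2, 1, le_rfl, hF.trans (by norm_num), h⟩
  have hne : center ↥K ≠ ⊥ := by
    intro h
    have h1 := hP.1
    rw [h, card_bot] at h1
    omega
  haveI : Fact (Nat.Prime 2) := ⟨Nat.prime_two⟩
  exact hr (row C S (isCyclic_of_prime_card hP.1) hne hX)

end Cfsg.Agent.OddHalf.D4.EvenSzRow

end

-- merged: Cfsg.Agent.OddHalf.D4.Cov.L34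
section

/-!
# ODD half, D4: the row `2.L3(4)` (`RowsCov.l34`)
-/

set_option autoImplicit false

namespace Cfsg.Agent.OddHalf.D4.Cov.L34

open Subgroup Cfsg Cfsg.Agent.OddHalf.Iface Cfsg.Agent.OddHalf.D9.Cut

universe u

/-- `RowsCov.l34` -/
theorem row : Cut.Row0.{u} (fun K _ => Two (fun X _ => XL34 X) K) :=
  fun _ _ C _ S _ h => D9.L34.RowAny.false_of_l34 C S h.1 h.2

end Cfsg.Agent.OddHalf.D4.Cov.L34

end

-- merged: Cfsg.Agent.OddHalf.D4.EvenCycM12
section

/-!
# ODD, D4: `Z(K)` cyclic and nontrivial, `m_2(C(K)) ≥ 2`: the kill for `2.M12` (text: helper378, ODD #10322 (2))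

A bad pair is a pair of commuting involutory automorphisms `α ≠ β` with `C(α) ≤ C(β)`, `C(αβ) ≤ C(β)`.
`Facts`: (m1) the members of a bad pair are not both inner; (m2) for a bad pair some `k` and a perfect `L₀`
fixed by `α`, `β` with `α(k)⁻¹k, β(k)⁻¹k ∈ L₀`, `β(k) ≠ k`; (m3) commutators of automorphisms are inner;
(P2) `SqDiff`.  `row`: then `m_2(C(K)) ≤ 1`.
-/

set_option autoImplicit false

namespace Cfsg.Agent.OddHalf.D4.EvenCycM12

open Cfsg Subgroup Basic
open Cfsg.Agent.OddHalf.D4.EvenCyc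

/-- a bad pair of automorphisms -/
structure Bad {X : Type*} [Group X] (α β : MulAut X) : Prop where
  a2 : α * α = 1
  b2 : β * β = 1
  comm : α * β = β * α
  a1 : α ≠ 1
  b1 : β ≠ 1
  ne : α ≠ β
  ca : ∀ x, α x = x → β x = x
  cab : ∀ x, α (β x) = x → β x = x

/-- the facts on `K` (for `2.M12`) -/
structure Facts (X : Type*) [Group X] : Prop where
  m1 : ∀ α β : MulAut X, Bad α β → (∃ a, α = MulAut.conj a) → ¬ ∃ b, β = MulAut.conj b
  m2 : ∀ α β : MulAut X, Bad α β → ∃ (k : X) (L : Subgroup X), ⁅L, L⁆ = L ∧ (∀ l ∈ L, α l = l ∧ β l = l) ∧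
    (α k)⁻¹ * k ∈ L ∧ (β k)⁻¹ * k ∈ L ∧ (β k)⁻¹ * k ≠ 1
  m3 : ∀ α β : MulAut X, ∃ a, α * β * α⁻¹ * β⁻¹ = MulAut.conj a

variable {G : Type*} [Group G] [Finite G] {K : Subgroup G} {z : G}

omit [Finite G] in
theorem act_apply_eq {x : G} (hx : x ∈ normalizer (K : Set G)) (k : ↥K) :
    Ev.act K ⟨x, hx⟩ k = k ↔ x * k = k * x := by
  constructor
  · intro h
    have h2 : x * (k : G) * x⁻¹ = k := congrArg Subtype.val h
    calc x * (k : G) = (x * (k : G) * x⁻¹) * x := by group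
      _ = k * x := by rw [h2]
  · intro h
    apply Subtype.ext
    show x * (k : G) * x⁻¹ = k
    rw [h]
    group

/-- a pair gives a bad pair -/
theorem bad_of_pair (E : Ev K z) {g c v d : G} (P : Ev.Pair K z g c v d) :
    Bad (Ev.act K ⟨d, P.dM⟩) (Ev.act K ⟨v, P.vM⟩) := by
  have hcc := mul_self_of_order P.c2
  have hzz := mul_self_of_order E.z2
  have hvv : v * v = 1 := by
    rw [P.v_def]
    calc g⁻¹ * z * g * (g⁻¹ * z * g) = g⁻¹ * (z * z) * g := by group
      _ = 1 := by rw [hzz]; group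
  have hdd : d * d = 1 := by
    rw [P.d_def]
    calc g⁻¹ * c * g * (g⁻¹ * c * g) = g⁻¹ * (c * c) * g := by group
      _ = 1 := by rw [hcc]; group
  have hone : ∀ {x : G} (hx : x ∈ normalizer (K : Set G)), x * x = 1 →
      Ev.act K ⟨x, hx⟩ * Ev.act K ⟨x, hx⟩ = 1 := by
    intro x hx hxx
    rw [← Ev.act_mul]
    have : (⟨x, hx⟩ * ⟨x, hx⟩ : ↥(normalizer (K : Set G))) = 1 := Subtype.ext hxx
    rw [this]
    exact map_one _
  refine ⟨hone _ hdd, hone _ hvv, ?_, ?_, ?_, ?_, ?_, ?_⟩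
  · rw [← Ev.act_mul, ← Ev.act_mul]
    congr 1
    exact Subtype.ext P.comm
  · rw [Ne, Ev.act_eq_one_iff]
    exact P.dC
  · rw [Ne, Ev.act_eq_one_iff]
    exact P.vC
  · intro h2
    apply P.dvC
    have h3 : Ev.act K (⟨d, P.dM⟩ * ⟨v, P.vM⟩) = 1 := by
      rw [Ev.act_mul, h2]
      exact hone _ hvv
    exact Ev.act_eq_one_iff.mp h3
  · intro k hk
    rw [act_apply_eq] at hk ⊢
    exact P.centd k k.2 hk
  · intro k hk
    have h3 : Ev.act K (⟨d, P.dM⟩ * ⟨v, P.vM⟩) k = k := by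
      rw [Ev.act_mul]
      exact hk
    have h4 := (act_apply_eq (x := d * v) (mul_mem P.dM P.vM) k).mp h3
    rw [act_apply_eq]
    exact P.centdv k k.2 h4

/-- **Case (I) for `2.M12`.** -/
theorem not_hasPair (E : Ev K z) (F : Facts ↥K) : ¬ Ev.HasPair K z := by
  intro h
  obtain ⟨g, c, v, d, P⟩ := E.exists_pair h
  obtain ⟨k, L, hL, hLf, hxd, hxv, hxv1⟩ := F.m2 _ _ (bad_of_pair E P)
  have hdd : d⁻¹ = d := by
    rw [inv_eq_iff_mul_eq_one, P.d_def]
    calc g⁻¹ * c * g * (g⁻¹ * c * g) = g⁻¹ * (c * c) * g := by group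
      _ = 1 := by rw [mul_self_of_order P.c2]; group
  have hvv : v⁻¹ = v := by
    rw [inv_eq_iff_mul_eq_one, P.v_def]
    calc g⁻¹ * z * g * (g⁻¹ * z * g) = g⁻¹ * (z * z) * g := by group
      _ = 1 := by rw [mul_self_of_order E.z2]; group
  -- the elements `x_d`, `x_v` of `L`
  obtain ⟨xd, hxdef⟩ : ∃ x : G, x = (((Ev.act K ⟨d, P.dM⟩ k)⁻¹ * k : ↥K) : G) := ⟨_, rfl⟩
  obtain ⟨xv, hxvef⟩ : ∃ x : G, x = (((Ev.act K ⟨v, P.vM⟩ k)⁻¹ * k : ↥K) : G) := ⟨_, rfl⟩
  have exd : (k : G)⁻¹ * d * k = d * xd := by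
    have : xd = (d * (k : G) * d⁻¹)⁻¹ * k := hxdef
    rw [this]
    have e1 : ∀ d k : G, d * ((d * k * d⁻¹)⁻¹ * k) = d * d * k⁻¹ * d⁻¹ * k := by intro d k; group
    rw [e1, hdd]
    have hd2 : d * d = 1 := by rw [← inv_eq_iff_mul_eq_one]; exact hdd
    rw [hd2, one_mul]
  have exv : (k : G)⁻¹ * v * k = v * xv := by
    have : xv = (v * (k : G) * v⁻¹)⁻¹ * k := hxvef
    rw [this]
    have e1 : ∀ d k : G, d * ((d * k * d⁻¹)⁻¹ * k) = d * d * k⁻¹ * d⁻¹ * k := by intro d k; group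
    rw [e1, hvv]
    have hd2 : v * v = 1 := by rw [← inv_eq_iff_mul_eq_one]; exact hvv
    rw [hd2, one_mul]
  have hLc : ∀ l ∈ L, v * (l : G) = (l : G) * v := fun l hl => (act_apply_eq P.vM l).mp (hLf l hl).2
  -- conjugate by `g`: `g L g⁻¹ ≤ C(z) = N(K)`
  have hgv : g * v * g⁻¹ = z := by rw [P.v_def]; group
  have hgd : g * d * g⁻¹ = c := by rw [P.d_def]; group
  have hLM : ∀ l ∈ L, g * (l : G) * g⁻¹ ∈ normalizer (K : Set G) := by
    intro l hl
    rw [E.mem_iff, ← hgv]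
    calc g * (l : G) * g⁻¹ * (g * v * g⁻¹) = g * ((l : G) * v) * g⁻¹ := by group
      _ = g * (v * (l : G)) * g⁻¹ := by rw [hLc l hl]
      _ = _ := by group
  -- `g L g⁻¹` acts as inner automorphisms
  let f : ↥L →* MulAut ↥K :=
    { toFun := fun l => Ev.act K ⟨g * ((l : ↥K) : G) * g⁻¹, hLM l l.2⟩
      map_one' := by
        have h1 : (⟨g * (((1 : ↥L) : ↥K) : G) * g⁻¹, hLM _ (1 : ↥L).2⟩ : ↥(normalizer (K : Set G))) = 1 :=
          Subtype.ext (by simp)
        rw [h1]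
        exact map_one _
      map_mul' := by
        intro a b
        rw [← Ev.act_mul]
        congr 1
        exact Subtype.ext (by
          show g * (((a * b : ↥L) : ↥K) : G) * g⁻¹ = g * ((a : ↥K) : G) * g⁻¹ * (g * ((b : ↥K) : G) * g⁻¹)
          simp [mul_assoc]) }
  have hinn : ∀ l : ↥L, f l ∈ (MulAut.conj (G := ↥K)).range := by
    have hle : ∀ l ∈ ⁅(⊤ : Subgroup ↥L), (⊤ : Subgroup ↥L)⁆, f l ∈ (MulAut.conj (G := ↥K)).range := by
      intro l hl
      have : ⁅(⊤ : Subgroup ↥L), (⊤ : Subgroup ↥L)⁆ ≤ ((MulAut.conj (G := ↥K)).range).comap f := by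
        rw [commutator_le]
        intro a _ b _
        rw [mem_comap, map_commutatorElement]
        obtain ⟨x, hx⟩ := F.m3 (f a) (f b)
        exact ⟨x, hx.symm⟩
      exact this hl
    intro l
    apply hle
    -- `L` is perfect
    have h1 : (⁅(⊤ : Subgroup ↥L), (⊤ : Subgroup ↥L)⁆).map L.subtype = ⁅L, L⁆ := by
      rw [map_commutator, ← MonoidHom.range_eq_map, range_subtype]
    have h2 : (l : ↥K) ∈ (⁅(⊤ : Subgroup ↥L), (⊤ : Subgroup ↥L)⁆).map L.subtype := by
      rw [h1, hL]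
      exact l.2
    obtain ⟨l', hl', hll⟩ := h2
    have : l' = l := Subtype.ext hll
    rw [← this]
    exact hl'
  -- the new pair
  set h := g * (k : G)⁻¹ * g⁻¹ with hh
  have hhz : h * z * h⁻¹ = z * (g * xv * g⁻¹) := by
    rw [hh, ← hgv]
    calc g * (k : G)⁻¹ * g⁻¹ * (g * v * g⁻¹) * (g * (k : G)⁻¹ * g⁻¹)⁻¹ = g * ((k : G)⁻¹ * v * k) * g⁻¹ := by group
      _ = g * (v * xv) * g⁻¹ := by rw [exv]
      _ = g * v * g⁻¹ * (g * xv * g⁻¹) := by group
  have hhc : h * c * h⁻¹ = c * (g * xd * g⁻¹) := by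
    rw [hh, ← hgd]
    calc g * (k : G)⁻¹ * g⁻¹ * (g * d * g⁻¹) * (g * (k : G)⁻¹ * g⁻¹)⁻¹ = g * ((k : G)⁻¹ * d * k) * g⁻¹ := by group
      _ = g * (d * xd) * g⁻¹ := by rw [exd]
      _ = g * d * g⁻¹ * (g * xd * g⁻¹) := by group
  have hyvM : g * xv * g⁻¹ ∈ normalizer (K : Set G) := by rw [hxvef]; exact hLM _ hxv
  have hydM : g * xd * g⁻¹ ∈ normalizer (K : Set G) := by rw [hxdef]; exact hLM _ hxd
  have hyz : (g * xv * g⁻¹) * z = z * (g * xv * g⁻¹) := E.mem_iff.mp hyvM
  have hyc : (g * xd * g⁻¹) * z = z * (g * xd * g⁻¹) := E.mem_iff.mp hydM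
  have hcz : c * z = z * c := E.z_comm P.cC
  have P' : Ev.Pair K z h⁻¹ c (h⁻¹⁻¹ * z * h⁻¹) (h⁻¹⁻¹ * c * h⁻¹) := by
    refine E.pair_of ?_ P.cC P.c2 P.cz ?_
    · rw [inv_inv]
      intro h1
      have h2 : h * z * h⁻¹ = z := by
        calc h * z * h⁻¹ = h * (h⁻¹ * z * h) * h⁻¹ := by rw [h1]
          _ = z := by group
      rw [hhz] at h2
      have h3 : g * xv * g⁻¹ = 1 := mul_eq_left.mp h2
      have h4 : xv = 1 := by
        calc xv = g⁻¹ * (g * xv * g⁻¹) * g := by group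
          _ = 1 := by rw [h3]; group
      exact hxv1 (Subtype.ext (hxvef.symm.trans h4))
    · rw [inv_inv]
      have h1 : (h * c * h⁻¹) * z = z * (h * c * h⁻¹) := by
        rw [hhc]
        calc c * (g * xd * g⁻¹) * z = c * (z * (g * xd * g⁻¹)) := by rw [mul_assoc, hyc]
          _ = (c * z) * (g * xd * g⁻¹) := by group
          _ = z * (c * (g * xd * g⁻¹)) := by rw [hcz]; group
      calc c * (h⁻¹ * z * h) = h⁻¹ * ((h * c * h⁻¹) * z) * h := by group
        _ = h⁻¹ * (z * (h * c * h⁻¹)) * h := by rw [h1]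
        _ = h⁻¹ * z * h * c := by group
  -- both members act as elements of `g L g⁻¹`
  have hact : ∀ (r y : G) (hr : r ∈ centralizer (K : Set G)) (hy : y ∈ normalizer (K : Set G))
      (x : G) (hx : x ∈ normalizer (K : Set G)), x = r * y →
      Ev.act K ⟨x, hx⟩ = Ev.act K ⟨y, hy⟩ := by
    intro r y hr hy x hx hxy
    ext k
    rw [Ev.act_coe, Ev.act_coe]
    show x * (k : G) * x⁻¹ = y * (k : G) * y⁻¹
    have h1 : y * (k : G) * y⁻¹ ∈ K := (mem_normalizer_iff.mp hy k).mp k.2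
    have h2 := mem_centralizer_iff.mp hr _ h1
    rw [hxy]
    calc r * y * (k : G) * (r * y)⁻¹ = r * (y * (k : G) * y⁻¹) * r⁻¹ := by group
      _ = (y * (k : G) * y⁻¹) * r * r⁻¹ := by rw [h2]
      _ = y * (k : G) * y⁻¹ := by group
  have hfin : ∀ (l : ↥K) (hl : l ∈ L) (y : G) (hy : y ∈ normalizer (K : Set G)), y = g * (l : G) * g⁻¹ →
      ∃ a, Ev.act K ⟨y, hy⟩ = MulAut.conj a := by
    intro l hl y hy hyl
    obtain ⟨a, ha⟩ := hinn ⟨l, hl⟩
    refine ⟨a, ?_⟩
    rw [ha]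
    subst hyl
    rfl
  obtain ⟨a, ha⟩ := hfin _ hxd (g * xd * g⁻¹) hydM (by rw [hxdef])
  obtain ⟨b, hb⟩ := hfin _ hxv (g * xv * g⁻¹) hyvM (by rw [hxvef])
  exact F.m1 _ _ (bad_of_pair E P')
    ⟨a, (hact c _ P.cC hydM _ P'.dM (by rw [inv_inv]; exact hhc)).trans ha⟩
    ⟨b, (hact z _ E.zC hyvM _ P'.vM (by rw [inv_inv]; exact hhz)).trans hb⟩

/-- **`2.M12`**: the facts and (P2) imply `m_2(C(K)) ≤ 1`. -/
theorem main [IsSimpleGroup G] (E : Ev K z) (F : Facts ↥K) (h2 : SqDiff ↥K) :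
    PRankLE 2 1 ↥(centralizer (K : Set G)) :=
  main_of_not E (not_hasPair E F) h2

/-- **The row `2.M12`** from the facts. -/
theorem row {G : Type*} [Group G] {K : Subgroup G} (C : Iface.Ctx G) (S : Iface.Std0 G K)
    (hcyc : IsCyclic ↥(center ↥K)) (hne : center ↥K ≠ ⊥) (F : Facts ↥K) (h2 : SqDiff ↥K) :
    PRankLE 2 1 ↥(centralizer (K : Set G)) := by
  haveI := C.fin
  haveI := C.simple
  obtain ⟨z, E⟩ := ev_of_std S hcyc hne
  exact main E F h2

end Cfsg.Agent.OddHalf.D4.EvenCycM12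

end

-- merged: Cfsg.Agent.OddHalf.D9.TwoM12.EvenFacts
section

/-!
# `2.M12` in D4: the facts (m1), (m2), (m3), (P2) of `D4.EvenCycM12` for an arbitrary perfect double cover
-/

set_option autoImplicit false

namespace Cfsg.Agent.OddHalf.D9.TwoM12

open Cfsg Cfsg.Agent.CoThreeStd.MTwelve Cfsg.Agent.KFacts.MulTwo Cfsg.Agent.KFacts.MulDef

variable {L : Type*} [Group L] {π : L →* H} {c : L} [Finite L]

theorem Bad.of_even {X : Type*} [Group X] {a b : MulAut X} (h : D4.EvenCycM12.Bad a b) : Bad a b :=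
  ⟨h.a2, h.b2, h.comm, h.a1, h.b1, h.ne, h.ca, h.cab⟩

omit [Finite L] in
/-- commutators of automorphisms are inner, from `Out ≤ 2` -/
theorem comm_inner_of {X : Type*} [Group X]
    (h : ∀ α β : MulAut X, α ∉ (MulAut.conj : X →* MulAut X).range → β ∉ (MulAut.conj : X →* MulAut X).range →
      α * β ∈ (MulAut.conj : X →* MulAut X).range) (α β : MulAut X) :
    α * β * α⁻¹ * β⁻¹ ∈ (MulAut.conj : X →* MulAut X).range := by
  have hN : ∀ (φ : MulAut X) {ψ : MulAut X}, ψ ∈ (MulAut.conj : X →* MulAut X).range →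
      φ * ψ * φ⁻¹ ∈ (MulAut.conj : X →* MulAut X).range := by
    rintro φ _ ⟨k, rfl⟩
    exact ⟨φ k, by
      ext x
      simp [MulAut.mul_apply]⟩
  by_cases ha : α ∈ (MulAut.conj : X →* MulAut X).range
  · have e : α * β * α⁻¹ * β⁻¹ = α * (β * α⁻¹ * β⁻¹) := by group
    rw [e]
    exact mul_mem ha (hN β (inv_mem ha))
  by_cases hb : β ∈ (MulAut.conj : X →* MulAut X).range
  · exact mul_mem (hN α hb) (inv_mem hb)
  · have e : α * β * α⁻¹ * β⁻¹ = α * β * (β * α)⁻¹ := by group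
    rw [e]
    exact mul_mem (h α β ha hb) (inv_mem (h β α hb ha))

/-- **(m1), (m2), (m3) for `2.M12`.** -/
theorem evenFacts (hD : Dbl π c) : D4.EvenCycM12.Facts L where
  m1 := fun _ _ h ha hb => bad_inner hD (Bad.of_even h) (by obtain ⟨a, rfl⟩ := ha; exact ⟨a, rfl⟩)
    (by obtain ⟨b, rfl⟩ := hb; exact ⟨b, rfl⟩)
  m2 := fun _ _ h => bad_move hD (Bad.of_even h)
  m3 := fun α β => by
    obtain ⟨a, ha⟩ := comm_inner_of (fun α β ha hb => out hD α β ha hb) α β
    exact ⟨a, ha.symm⟩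

/-- **(P2) for `2.M12`.** -/
theorem evenSqDiff (hD : Dbl π c) : D4.EvenCyc.SqDiff L := fun _ haa ha1 => sqDiff hD haa ha1

/-- **The facts for D4 on a perfect group with centre of order 2 and central quotient `M12`.** -/
theorem exists_evenFacts {M : Type*} [Group M] [Finite M] (hp : commutator M = ⊤)
    (h2 : Nat.card (Subgroup.center M) = 2) (e : Spor.IsoM12 (M ⧸ Subgroup.center M)) :
    D4.EvenCycM12.Facts M ∧ D4.EvenCyc.SqDiff M := by
  obtain ⟨π, c, hD, -⟩ := exists_dbl hp h2 e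
  exact ⟨evenFacts hD, evenSqDiff hD⟩

end Cfsg.Agent.OddHalf.D9.TwoM12

end

-- merged: Cfsg.Agent.OddHalf.D9.TwoM12.EvenRow
section

/-!
# ODD, D4: the row `2.M12` (`D4.Cut.RowsCov.m12`)
-/

set_option autoImplicit false

namespace Cfsg.Agent.OddHalf.D9.TwoM12

open Cfsg Subgroup

universe u

/-- **The row `2.M12` of D4.** -/
theorem d4_row : D4.Cut.Row0.{u} (fun K _ => D9.Cut.Two (fun X _ => Spor.IsoM12 X) K) := by
  intro G _ C K S hr hK
  haveI := C.fin
  obtain ⟨h2, he⟩ := hK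
  have hp : commutator ↥K = ⊤ := S.std.1.1.commutator_eq_top
  obtain ⟨F, hS⟩ := exists_evenFacts hp h2 he
  have hcyc : IsCyclic ↥(center ↥K) := isCyclic_of_prime_card (p := 2) h2
  have hne : center ↥K ≠ ⊥ := by
    intro h
    rw [h, Subgroup.card_bot] at h2
    omega
  exact hr (D4.EvenCycM12.row C S hcyc hne F hS)

end Cfsg.Agent.OddHalf.D9.TwoM12

end

-- merged: Cfsg.Agent.KFacts.SuzLift.Perm
section

/-!
# Suzuki group: involutions commuting with elements of odd order (fixed points on 1782 points)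

`card_mod`: `|Fix t| ≡ |Fix t ∩ Fix y| mod p` for `y` of order `p` commuting with `t`.
`two_b_of_seven`: an involution commuting with an element of order 7 with at most 4 fixed points is of class 2B.
`outer_claim`: the elements of odd order fixed by an outer involutory automorphism do not all commute with one
involution.
-/

set_option autoImplicit false
set_option maxRecDepth 100000

namespace Cfsg.Agent.KFacts.SuzLift.Perm

open Cfsg.Spor Cfsg.Agent.SporadicRecognition.SuzPhi Cfsg.Agent.SporadicRecognition.SuzOrder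
open Cfsg.Agent.SporRec.SuzCl (R wtr wtr_spec Fx ia ie R_a R_e card_Fx card_Fx_conj cntF_a cntF_e φ_lt eqB eq_of_eqB
  u7 u7_pow u7_comm el_append)
open Cfsg.Agent.KFacts.SuzRho Cfsg.Agent.SporRec.SuzCl

theorem mem_Fx {x : Suz} {q : ℕ} : q ∈ Fx x ↔ q < 1782 ∧ φ x q = q := by
  unfold Fx
  rw [Finset.mem_filter, Finset.mem_range]

/-- Counting fixed points. -/
theorem card_mod {p : ℕ} (hp : p.Prime) {t y : Suz} (hy : y ^ p = 1) (hc : y * t = t * y) :
    (Fx t).card ≡ (Fx t ∩ Fx y).card [MOD p] := by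
  haveI : Fact p.Prime := ⟨hp⟩
  have hf : ∀ q ∈ Fx t, φ y q ∈ Fx t := by
    intro q hq
    rw [mem_Fx] at hq ⊢
    refine ⟨(φ_lt y q).2 hq.1, ?_⟩
    rw [← Equiv.Perm.mul_apply, ← map_mul, ← hc, map_mul, Equiv.Perm.mul_apply, hq.2]
  let f : Function.End {q // q ∈ Fx t} := fun q => ⟨φ y q, hf q q.2⟩
  have hfn : ∀ (n : ℕ) (q : {q // q ∈ Fx t}), (((f ^ n) q : {q // q ∈ Fx t}) : ℕ) = φ (y ^ n) q := by
    intro n
    induction n with
    | zero => intro q; rw [pow_zero, pow_zero, map_one]; rfl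
    | succ n ih =>
      intro q
      rw [pow_succ', pow_succ', map_mul, Equiv.Perm.mul_apply, ← ih q]
      rfl
  have h1 := Equiv.Perm.card_fixedPoints_modEq (f := f) (p := p) (n := 1) (by
    funext q
    apply Subtype.ext
    rw [pow_one, hfn, hy, map_one]; rfl)
  rw [Fintype.card_coe] at h1
  refine h1.trans ?_
  have h2 : Fintype.card ↥(Function.fixedPoints f) = (Fx t ∩ Fx y).card := by
    rw [← Fintype.card_coe]
    refine Fintype.card_congr ⟨fun q => ⟨q.1.1, ?_⟩, fun q => ⟨⟨q.1, (Finset.mem_inter.1 q.2).1⟩, ?_⟩, ?_, ?_⟩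
    · rw [Finset.mem_inter]
      refine ⟨q.1.2, mem_Fx.2 ⟨(mem_Fx.1 q.1.2).1, ?_⟩⟩
      exact congrArg Subtype.val q.2
    · apply Subtype.ext
      exact (mem_Fx.1 (Finset.mem_inter.1 q.2).2).2
    · intro q; rfl
    · intro q; rfl
  rw [h2]

theorem card_of_two {t : Suz} (h2 : t * t = 1) (h1 : t ≠ 1) :
    ((Fx t).card = 54 ∧ ∃ g, g * ia * g⁻¹ = t) ∨ ((Fx t).card = 42 ∧ ∃ g, g * ie * g⁻¹ = t) := by
  rcases SporRec.SuzCl.two t h2 h1 with ⟨g, hg⟩ | ⟨g, hg⟩
  · left
    refine ⟨?_, g, hg⟩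
    rw [← hg, card_Fx_conj, card_Fx R_a, cntF_a]
  · right
    refine ⟨?_, g, hg⟩
    rw [← hg, card_Fx_conj, card_Fx R_e, cntF_e]

/-- An involution commuting with an element of order 7 with at most 4 fixed points is of class 2B. -/
theorem two_b_of_seven {t y : Suz} (h2 : t * t = 1) (h1 : t ≠ 1) (hy : y ^ 7 = 1) (hc : y * t = t * y)
    (hF : (Fx y).card ≤ 4) : ∃ g, g * ie * g⁻¹ = t := by
  rcases card_of_two h2 h1 with ⟨h, -⟩ | ⟨-, h⟩
  · exfalso
    have h3 := card_mod (by norm_num : Nat.Prime 7) hy hc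
    have h4 : (Fx t ∩ Fx y).card ≤ 4 := (Finset.card_le_card Finset.inter_subset_right).trans hF
    rw [h, Nat.ModEq] at h3
    omega
  · exact h

/-! ### Fixed points of words -/

/-- the fixed points of the word are in the list -/
noncomputable def fixIn (w : List Suz.Gen) (l : List ℕ) (q : ℕ) : Bool := or (not (Nat.beq (wtr w q) q)) (l.any (Nat.beq q))

theorem Fx_sub {w : List Suz.Gen} {l : List ℕ} (h : allPt (fixIn w l) = true) : ∀ q ∈ Fx (el w), q ∈ l := by
  intro q hq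
  rw [mem_Fx] at hq
  have h1 := allPt_spec h hq.1
  rw [fixIn, Bool.or_eq_true] at h1
  rcases h1 with h1 | h1
  · exfalso
    have h2 : wtr w q = q := by rw [← (wtr_spec w q hq.1).1]; exact hq.2
    rw [h2, Nat.beq_refl] at h1
    exact absurd h1 (by decide)
  · rw [List.any_eq_true] at h1
    obtain ⟨x, hx, hx2⟩ := h1
    rw [Nat.eq_of_beq_eq_true hx2]
    exact hx

theorem Fx_card {w : List Suz.Gen} {l : List ℕ} (h : allPt (fixIn w l) = true) : (Fx (el w)).card ≤ l.length := by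
  calc (Fx (el w)).card ≤ l.toFinset.card := Finset.card_le_card fun q hq => List.mem_toFinset.2 (Fx_sub h q hq)
    _ ≤ l.length := l.toFinset_card_le

theorem Fx_mem {w : List Suz.Gen} {q : ℕ} (hq : q < 1782) (h : Nat.beq (wtr w q) q = true) : q ∈ Fx (el w) := by
  rw [mem_Fx]
  refine ⟨hq, ?_⟩
  rw [(wtr_spec w q hq).1]
  exact Nat.eq_of_beq_eq_true h

theorem card_u7 : (Fx u7).card ≤ 4 :=
  Fx_card (w := [.b, .c, .f, .g]) (l := [141, 199, 451, 644]) (by decide +kernel)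

theorem card_Fx_el (w : List Suz.Gen) :
    (Fx (el w)).card = cntP (fun i => and (Nat.ble i 1781) (Nat.beq (wtr w i) i)) 11 0 := by
  rw [cntP_eq]
  congr 1
  ext p
  unfold Fx
  rw [Finset.mem_filter, Finset.mem_range, Finset.mem_filter, Finset.mem_Ico, Bool.and_eq_true,
    Nat.beq_eq]
  constructor
  · rintro ⟨h1, h2⟩
    refine ⟨⟨Nat.zero_le _, by norm_num; omega⟩, Nat.ble_eq_true_of_le (by omega), ?_⟩
    rw [← (wtr_spec w p h1).1]; exact h2
  · rintro ⟨-, h1, h2⟩
    have h3 := Nat.le_of_ble_eq_true h1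
    refine ⟨by omega, ?_⟩
    rw [(wtr_spec w p (by omega)).1]; exact h2

/-! ### Three elements -/

def w5 : List Suz.Gen := [.a, .b]
def w7 : List Suz.Gen := [.a, .b, .c, .b, .d, .c, .b, .d, .e]
def w11 : List Suz.Gen := [.c, .e, .b, .d, .e, .f, .g, .c, .d, .c, .e, .d, .b, .d, .e, .f, .g, .c, .d, .c, .e, .d]

theorem y5_pow : el w5 ^ 5 = 1 := by rw [← el_rp]; exact el_eq_one (by decide +kernel)
theorem y7_pow : el w7 ^ 7 = 1 := by rw [← el_rp]; exact el_eq_one (by decide +kernel)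
theorem y11_pow : el w11 ^ 11 = 1 := by rw [← el_rp]; exact el_eq_one (by decide +kernel)

theorem rho_y5 : rho (el w5) = el w5 := rho_el _
theorem rho_y7 : rho (el w7) = el w7 := rho_el _

theorem rho_y11 : (rho * MulAut.conj (PresentedGroup.of Suz.Gen.e) : MulAut Suz) (el w11) = el w11 := by
  rw [MulAut.mul_apply, MulAut.conj_apply, ← el_one, ← SuzThree.Basic.el_reverse, ← SuzThree.Basic.el_append,
    ← SuzThree.Basic.el_append, rho_el]
  exact SuzThree.Basic.eq_of_reps (SuzThree.Basic.Rep.el _) (SuzThree.Basic.Rep.el _) (by decide +kernel)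

theorem fix5 : ∀ q ∈ Fx (el w5), q ∈ [0, 1575] := Fx_sub (by decide +kernel)
theorem fix7 : (Fx (el w7)).card ≤ 4 := Fx_card (l := [0, 1402, 1487, 1575]) (by decide +kernel)
theorem fix7' : ∀ q ∈ [0, 1575], q ∈ Fx (el w7) := by
  intro q hq
  rw [List.mem_cons, List.mem_singleton] at hq
  rcases hq with rfl | rfl
  · exact Fx_mem (by norm_num) (by decide +kernel)
  · exact Fx_mem (by norm_num) (by decide +kernel)
theorem fix11 : (Fx (el w11)).card = 0 := Nat.le_zero.1 (Fx_card (l := []) (by decide +kernel))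

theorem no_five_seven {d : Suz} (h2 : d * d = 1) (h1 : d ≠ 1) (h5 : el w5 * d = d * el w5)
    (h7 : el w7 * d = d * el w7) : False := by
  have c5 := card_mod (by norm_num : Nat.Prime 5) y5_pow h5
  have c7 := card_mod (by norm_num : Nat.Prime 7) y7_pow h7
  have i5 : (Fx d ∩ Fx (el w5)).card ≤ 2 := by
    calc (Fx d ∩ Fx (el w5)).card ≤ ([0, 1575] : List ℕ).toFinset.card :=
          Finset.card_le_card fun q hq => List.mem_toFinset.2 (fix5 q (Finset.mem_inter.1 hq).2)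
      _ ≤ 2 := List.toFinset_card_le _
  have i7 : (Fx d ∩ Fx (el w7)).card ≤ 4 := (Finset.card_le_card Finset.inter_subset_right).trans fix7
  have i57 : (Fx d ∩ Fx (el w5)).card ≤ (Fx d ∩ Fx (el w7)).card := by
    apply Finset.card_le_card
    intro q hq
    rw [Finset.mem_inter] at hq ⊢
    exact ⟨hq.1, fix7' q (fix5 q hq.2)⟩
  rw [Nat.ModEq] at c5 c7
  rcases card_of_two h2 h1 with ⟨h, -⟩ | ⟨h, -⟩
  · rw [h] at c5
    omega
  · rw [h] at c5 c7
    omega

theorem no_eleven {d : Suz} (h2 : d * d = 1) (h1 : d ≠ 1) (h11 : el w11 * d = d * el w11) : False := by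
  have c11 := card_mod (by norm_num : Nat.Prime 11) y11_pow h11
  have i11 : (Fx d ∩ Fx (el w11)).card ≤ 0 := (Finset.card_le_card Finset.inter_subset_right).trans fix11.le
  rw [Nat.ModEq] at c11
  rcases card_of_two h2 h1 with ⟨h, -⟩ | ⟨h, -⟩
  · rw [h] at c11
    omega
  · rw [h] at c11
    omega

/-- **Outer involutory automorphisms**: the fixed elements of odd order do not all commute with an involution. -/
theorem outer_claim {γ : MulAut Suz} (h2 : γ * γ = 1) (ho : ∀ s, γ ≠ MulAut.conj s) {d : Suz} (d2 : d * d = 1)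
    (d1 : d ≠ 1) (h : ∀ (y : Suz) (n : ℕ), Odd n → y ^ n = 1 → γ y = y → y * d = d * y) : False := by
  have key : ∀ (τ : MulAut Suz) (g : Suz), γ = MulAut.conj g * τ * (MulAut.conj g)⁻¹ → ∀ (y : Suz) (n : ℕ), Odd n →
      y ^ n = 1 → τ y = y → y * (g⁻¹ * d * g) = (g⁻¹ * d * g) * y := by
    intro τ g hγ y n hn hy hτ
    have h3 := h (g * y * g⁻¹) n hn (by rw [conj_pow, hy]; group) (by
      rw [hγ, ← map_inv, MulAut.mul_apply, MulAut.mul_apply, MulAut.conj_apply, MulAut.conj_apply, inv_inv]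
      have e : g⁻¹ * (g * y * g⁻¹) * g = y := by group
      rw [e, hτ])
    calc y * (g⁻¹ * d * g) = g⁻¹ * ((g * y * g⁻¹) * d) * g := by group
      _ = g⁻¹ * (d * (g * y * g⁻¹)) * g := by rw [h3]
      _ = (g⁻¹ * d * g) * y := by group
  have e2 : ∀ g : Suz, (g⁻¹ * d * g) * (g⁻¹ * d * g) = 1 := by
    intro g
    calc (g⁻¹ * d * g) * (g⁻¹ * d * g) = g⁻¹ * (d * d) * g := by group
      _ = 1 := by rw [d2]; group
  have e1 : ∀ g : Suz, g⁻¹ * d * g ≠ 1 := by
    intro g hg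
    apply d1
    calc d = g * (g⁻¹ * d * g) * g⁻¹ := by group
      _ = 1 := by rw [hg]; group
  rcases SuzInvol.outer h2 ho with ⟨g, hg⟩ | ⟨g, hg⟩
  · exact no_five_seven (e2 g) (e1 g) (key _ g hg _ 5 (by decide) y5_pow rho_y5)
      (key _ g hg _ 7 (by decide) y7_pow rho_y7)
  · exact no_eleven (e2 g) (e1 g) (key _ g hg _ 11 (by decide) y11_pow rho_y11)

/-! ### Elements `α(x)⁻¹ x` of class 2A -/

/-- `x` with `e x⁻¹ e x` of class 2A -/
def we : List Suz.Gen := [.d, .c, .d, .e, .d, .c, .d]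

theorem dif_e : (ie * el we * ie⁻¹)⁻¹ * el we = el (.e :: (we.reverse ++ (.e :: we))) := by
  have h : ie = el [.e] := (el_one .e).symm
  have h2 : (el [.e])⁻¹ = el [.e] := (SuzThree.Basic.el_reverse [.e]).symm
  have h3 : (el we)⁻¹ = el we.reverse := (SuzThree.Basic.el_reverse we).symm
  calc (ie * el we * ie⁻¹)⁻¹ * el we = ie * ((el we)⁻¹ * (ie⁻¹ * el we)) := by group
    _ = el [.e] * (el we.reverse * (el [.e] * el we)) := by rw [h, h2, h3]
    _ = _ := by
        rw [← SuzThree.Basic.el_append, ← SuzThree.Basic.el_append, ← SuzThree.Basic.el_append]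
        rfl

theorem dif_e_two : ∃ g, g * ia * g⁻¹ = (ie * el we * ie⁻¹)⁻¹ * el we := by
  rw [dif_e]
  have h2 : el (.e :: (we.reverse ++ (.e :: we))) * el (.e :: (we.reverse ++ (.e :: we))) = 1 := by
    rw [← SuzThree.Basic.el_append]
    exact el_eq_one (by decide +kernel)
  have hc : (Fx (el (.e :: (we.reverse ++ (.e :: we))))).card = 54 := by
    rw [card_Fx_el]; decide +kernel
  have h1 : el (.e :: (we.reverse ++ (.e :: we))) ≠ 1 := by
    intro h
    rw [h] at hc
    have h3 : Fx (1 : Suz) = Finset.range 1782 := by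
      ext q
      rw [mem_Fx, Finset.mem_range, map_one]
      exact ⟨fun h => h.1, fun h => ⟨h, rfl⟩⟩
    rw [h3, Finset.card_range] at hc
    omega
  rcases card_of_two h2 h1 with ⟨-, h⟩ | ⟨h, -⟩
  · exact h
  · omega

theorem dif_rho : (rho (el [.f, .g]))⁻¹ * el [.f, .g] = ia := by
  rw [rho_el, ← SuzThree.Basic.el_reverse, ← SuzThree.Basic.el_append]
  show _ = el [.a]
  exact SuzThree.Basic.eq_of_reps (SuzThree.Basic.Rep.el _) (SuzThree.Basic.Rep.el _) (by decide +kernel)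

theorem dif_rhoe : ((rho * MulAut.conj (PresentedGroup.of Suz.Gen.e) : MulAut Suz) (el [.f, .g]))⁻¹ * el [.f, .g] = ia := by
  rw [MulAut.mul_apply, MulAut.conj_apply, ← el_one, ← SuzThree.Basic.el_reverse, ← SuzThree.Basic.el_append,
    ← SuzThree.Basic.el_append, rho_el, ← SuzThree.Basic.el_reverse, ← SuzThree.Basic.el_append]
  show _ = el [.a]
  exact SuzThree.Basic.eq_of_reps (SuzThree.Basic.Rep.el _) (SuzThree.Basic.Rep.el _) (by decide +kernel)

end Cfsg.Agent.KFacts.SuzLift.Perm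

end

-- merged: Cfsg.Agent.OddHalf.D4.Spor.TwoSuz
section

/-!
# ODD, D4: the row `K = 2.Suz`

`pairFree`, `sqDiff`: (P1) and (P2) for every perfect double cover of `Suz`; `suz`: the row of `D4.Cut.RowsCov`.
-/

set_option autoImplicit false
set_option maxRecDepth 100000

namespace Cfsg.Agent.OddHalf.D4.Spor.TwoSuz

open Subgroup Cfsg Cfsg.Spor Cfsg.Agent.KFacts Cfsg.Agent.KFacts.MulDef Cfsg.Agent.KFacts.SuzLift
open Cfsg.Agent.SuzThree.CentA Cfsg.Agent.SuzThree.QZero
open Cfsg.Agent.SporRec.SuzCl (ia ie u7)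
open Cfsg.Agent.KFacts.SuzRho (rho)

universe u

variable {L : Type u} [Group L] {π : L →* Suz} {c : L}

/-! ### Automorphisms of the cover -/

theorem center_cases (hD : Dbl π c) {x : L} (hx : ∀ y, x * y = y * x) : x = 1 ∨ x = c := by
  apply (hD.ker x).1
  apply SuzInvol.center_triv
  intro y
  obtain ⟨k, rfl⟩ := hD.surj y
  rw [← map_mul, hx, map_mul]

theorem map_c (hD : Dbl π c) (α : MulAut L) : α c = c := by
  rcases center_cases hD (x := α c) (fun y => by
    have := congrArg α (hD.cen (α.symm y))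
    rwa [map_mul, map_mul, MulEquiv.apply_symm_apply] at this) with h | h
  · exact absurd ((map_eq_one_iff α α.injective).1 h) hD.ne
  · exact h

theorem exists_bar (hD : Dbl π c) (α : MulAut L) : ∃ β : MulAut Suz, ∀ k, β (π k) = π (α k) := by
  apply D9.OuterOf.exists_quo π hD.surj
  intro k
  rw [hD.ker, hD.ker]
  constructor
  · rintro (rfl | rfl)
    · exact Or.inl (map_one α)
    · exact Or.inr (map_c hD α)
  · rintro (h | h)
    · exact Or.inl ((map_eq_one_iff α α.injective).1 h)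
    · exact Or.inr (α.injective (h.trans (map_c hD α).symm))

theorem eq_of_bar (hD : Dbl π c) {α α' : MulAut L} (h : ∀ k, π (α k) = π (α' k)) : α = α' := by
  have hp : ⁅(⊤ : Subgroup L), ⊤⁆ = ⊤ := hD.perf
  have h1 := D9.OuterOf.eq_of_central hp α.toMonoidHom α'.toMonoidHom (fun x _ => by
    apply Two.ker_central hD
    rw [map_mul, map_inv, inv_mul_eq_one]
    exact (h x).symm)
  ext x
  exact h1 x (mem_top x)

/-! ### Elements of odd order -/

theorem c_pow (hD : Dbl π c) {n : ℕ} (hn : Odd n) : c ^ n = c := by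
  obtain ⟨k, rfl⟩ := hn
  rw [pow_succ, pow_mul, pow_two, hD.sq, one_pow, one_mul]

theorem mul_c_pow (hD : Dbl π c) {n : ℕ} (hn : Odd n) (l : L) : (l * c) ^ n = l ^ n * c := by
  have h : Commute l c := (hD.cen l).symm
  rw [h.mul_pow, c_pow hD hn]

theorem exists_lift (hD : Dbl π c) {y : Suz} {n : ℕ} (hn : Odd n) (hy : y ^ n = 1) : ∃ l, π l = y ∧ l ^ n = 1 := by
  obtain ⟨l, rfl⟩ := hD.surj y
  have h1 : π (l ^ n) = 1 := by rw [map_pow, hy]
  rcases (hD.ker _).1 h1 with h2 | h2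
  · exact ⟨l, rfl, h2⟩
  · refine ⟨l * c, ?_, ?_⟩
    · rw [map_mul, (hD.ker c).2 (Or.inr rfl), mul_one]
    · rw [mul_c_pow hD hn, h2, hD.sq]

theorem fix_of_odd (hD : Dbl π c) {α : MulAut L} {n : ℕ} (hn : Odd n) {l : L} (hl : l ^ n = 1)
    (h : π (α l) = π l) : α l = l := by
  have h1 : π (l⁻¹ * α l) = 1 := by rw [map_mul, map_inv, h, inv_mul_cancel]
  rcases (hD.ker _).1 h1 with h2 | h2
  · rw [inv_mul_eq_one] at h2; exact h2.symm
  · exfalso
    have h3 : α l = l * c := by rw [← h2, mul_inv_cancel_left]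
    have h4 : (α l) ^ n = 1 := by rw [← map_pow, hl, map_one]
    rw [h3, mul_c_pow hD hn, hl, one_mul] at h4
    exact hD.ne h4

/-- `C(α) ≤ C(β)` gives the inclusion for the elements of odd order of `Suz` -/
theorem odd_incl (hD : Dbl π c) {α β : MulAut L} {a b : MulAut Suz} (ha : ∀ k, a (π k) = π (α k))
    (hb : ∀ k, b (π k) = π (β k)) (h : ∀ x, α x = x → β x = x) (y : Suz) (n : ℕ) (hn : Odd n) (hy : y ^ n = 1)
    (hay : a y = y) : b y = y := by
  obtain ⟨l, rfl, hl⟩ := exists_lift hD hn hy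
  rw [hb, h l (fix_of_odd hD hn hl (by rw [← ha, hay]))]

/-! ### Inner pairs -/

theorem conj_one_iff {s : Suz} : (MulAut.conj s : MulAut Suz) = 1 ↔ s = 1 :=
  ⟨SuzInvol.conj_eq_one, fun h => by rw [h, map_one]⟩

theorem comm_of_a (hD : Dbl π c) {x y : L} {g : Suz} (hx : π x = g * ia * g⁻¹) (hy : π y * π x = π x * π y) :
    x * y = y * x := by
  obtain ⟨h, rfl⟩ := hD.surj g
  have h1 := Two.comm_lift hD (x := h⁻¹ * x * h) (y := h⁻¹ * y * h)
    (by rw [map_mul, map_mul, map_inv, hx, SuzY.z0_eq]; group)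
    (by
      have e : z0 = (π h)⁻¹ * π x * π h := by rw [hx, SuzY.z0_eq]; group
      rw [e, map_mul, map_mul, map_inv]
      calc (π h)⁻¹ * π y * π h * ((π h)⁻¹ * π x * π h) = (π h)⁻¹ * (π y * π x) * π h := by group
        _ = (π h)⁻¹ * (π x * π y) * π h := by rw [hy]
        _ = _ := by group)
  calc x * y = h * ((h⁻¹ * x * h) * (h⁻¹ * y * h)) * h⁻¹ := by group
    _ = h * ((h⁻¹ * y * h) * (h⁻¹ * x * h)) * h⁻¹ := by rw [h1]
    _ = y * x := by group

/-- **(I)** both automorphisms inner -/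
theorem no_inner (hD : Dbl π c) {k m : L} (k2 : π k * π k = 1) (m2 : π m * π m = 1) (k1 : π k ≠ 1) (m1 : π m ≠ 1)
    (hne : π k ≠ π m) (h : ∀ x, k * x = x * k → m * x = x * m) : False := by
  have hcm : m * k = k * m := h k rfl
  rcases SporRec.SuzCl.two (π k) k2 k1 with ⟨g, hg⟩ | ⟨g, hg⟩
  · -- class 2A
    have h1 : ∀ y ∈ Q0, y * (g⁻¹ * π m * g) = (g⁻¹ * π m * g) * y := by
      intro y hy
      obtain ⟨x, hx⟩ := hD.surj (g * y * g⁻¹)
      have hyC := mem_C1.1 (Q0_le hy)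
      have h2 : k * x = x * k := by
        apply comm_of_a hD (g := g) hg.symm
        rw [hx, ← hg, ← SuzY.z0_eq]
        calc g * y * g⁻¹ * (g * z0 * g⁻¹) = g * (y * z0) * g⁻¹ := by group
          _ = g * (z0 * y) * g⁻¹ := by rw [hyC]
          _ = _ := by group
      have h3 := congrArg π (h x h2)
      rw [map_mul, map_mul, hx] at h3
      calc y * (g⁻¹ * π m * g) = g⁻¹ * ((g * y * g⁻¹) * π m) * g := by group
        _ = g⁻¹ * (π m * (g * y * g⁻¹)) * g := by rw [h3]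
        _ = _ := by group
    rcases SuzR.centralizer_R h1 with h2 | h2
    · apply m1
      calc π m = g * (g⁻¹ * π m * g) * g⁻¹ := by group
        _ = 1 := by rw [h2]; group
    · apply hne
      calc π k = g * z0 * g⁻¹ := by rw [← hg, SuzY.z0_eq]
        _ = g * (g⁻¹ * π m * g) * g⁻¹ := by rw [h2]
        _ = π m := by group
  · -- class 2B
    have hpcm : π m * π k = π k * π m := by rw [← map_mul, hcm, map_mul]
    have h7 : (g * u7 * g⁻¹) ^ 7 = 1 := by rw [conj_pow, SporRec.SuzCl.u7_pow]; group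
    have hF : (SporRec.SuzCl.Fx (g * u7 * g⁻¹)).card ≤ 4 := by
      rw [SporRec.SuzCl.card_Fx_conj]; exact Perm.card_u7
    have hk7 : (g * u7 * g⁻¹) * π k = π k * (g * u7 * g⁻¹) := by
      rw [← hg]
      calc g * u7 * g⁻¹ * (g * ie * g⁻¹) = g * (u7 * ie) * g⁻¹ := by group
        _ = g * (ie * u7) * g⁻¹ := by rw [SporRec.SuzCl.u7_comm]
        _ = _ := by group
    obtain ⟨l, hl, hl7⟩ := exists_lift hD (by decide : Odd 7) h7
    have hkl : k * l = l * k := by
      have h2 := fix_of_odd hD (α := MulAut.conj k) (by decide : Odd 7) hl7 (by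
        rw [MulAut.conj_apply, map_mul, map_mul, map_inv, hl, ← hk7, mul_inv_cancel_right])
      rw [MulAut.conj_apply] at h2
      exact mul_inv_eq_iff_eq_mul.1 h2
    have hm7 : (g * u7 * g⁻¹) * π m = π m * (g * u7 * g⁻¹) := by
      have h2 := congrArg π (h l hkl)
      rw [map_mul, map_mul, hl] at h2
      exact h2.symm
    have hmk7 : (g * u7 * g⁻¹) * π (m * k) = π (m * k) * (g * u7 * g⁻¹) := by
      rw [map_mul]
      calc (g * u7 * g⁻¹) * (π m * π k) = ((g * u7 * g⁻¹) * π m) * π k := by group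
        _ = (π m * (g * u7 * g⁻¹)) * π k := by rw [hm7]
        _ = π m * ((g * u7 * g⁻¹) * π k) := by group
        _ = π m * (π k * (g * u7 * g⁻¹)) := by rw [hk7]
        _ = _ := by group
    have hmk2 : π (m * k) * π (m * k) = 1 := by
      rw [map_mul]
      calc π m * π k * (π m * π k) = π m * (π k * π m) * π k := by group
        _ = π m * (π m * π k) * π k := by rw [hpcm]
        _ = (π m * π m) * (π k * π k) := by group
        _ = 1 := by rw [m2, k2, one_mul]
    have hmk1 : π (m * k) ≠ 1 := by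
      intro h1
      apply hne
      rw [map_mul] at h1
      calc π k = π m * π m * π k := by rw [m2, one_mul]
        _ = π m * (π m * π k) := by group
        _ = π m := by rw [h1, mul_one]
    obtain ⟨g1, hg1⟩ := Perm.two_b_of_seven m2 m1 h7 hm7 hF
    obtain ⟨g2, hg2⟩ := Perm.two_b_of_seven hmk2 hmk1 h7 hmk7 hF
    have s0 : k * k = c := Sq.sq_of_e hD hg.symm
    have s1 : m * m = c := Sq.sq_of_e hD hg1.symm
    have s2 : m * k * (m * k) = c := Sq.sq_of_e hD hg2.symm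
    apply hD.ne
    calc c = m * k * (m * k) := s2.symm
      _ = m * (k * m) * k := by group
      _ = m * (m * k) * k := by rw [hcm]
      _ = (m * m) * (k * k) := by group
      _ = 1 := by rw [s0, s1, hD.sq]

/-! ### (P1) -/

/-- **(P1) for `2.Suz`.** -/
theorem pairFree (hD : Dbl π c) : EvenCyc.PairFree L := by
  intro α β hα hβ hαβ hα1 hβ1 hne hC1 hC2
  obtain ⟨a, ha⟩ := exists_bar hD α
  obtain ⟨b, hb⟩ := exists_bar hD β
  have hαα : ∀ k, α (α k) = k := fun k => DFunLike.congr_fun hα k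
  have hββ : ∀ k, β (β k) = k := fun k => DFunLike.congr_fun hβ k
  have hcomm : ∀ k, α (β k) = β (α k) := fun k => DFunLike.congr_fun hαβ k
  have haa : ∀ y, a (a y) = y := by
    intro y; obtain ⟨k, rfl⟩ := hD.surj y
    rw [ha, ha, hαα]
  have hbb : ∀ y, b (b y) = y := by
    intro y; obtain ⟨k, rfl⟩ := hD.surj y
    rw [hb, hb, hββ]
  have hab' : ∀ y, a (b y) = b (a y) := by
    intro y; obtain ⟨k, rfl⟩ := hD.surj y
    rw [hb, ha, ha, hb, hcomm]
  have ha2 : a * a = 1 := by ext y; exact haa y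
  have hab2 : (a * b) * (a * b) = 1 := by
    ext y
    show a (b (a (b y))) = y
    rw [← hab' (b y), hbb, haa]
  have ha1 : a ≠ 1 := by
    rintro rfl
    apply hα1
    apply eq_of_bar hD
    intro k
    rw [← ha]; rfl
  have hb1 : b ≠ 1 := by
    rintro rfl
    apply hβ1
    apply eq_of_bar hD
    intro k
    rw [← hb]; rfl
  have hab1 : a ≠ b := by
    rintro rfl
    apply hne
    apply eq_of_bar hD
    intro k
    rw [← hb, ← ha]
  have hab : ∀ k, (a * b) (π k) = π ((α * β) k) := by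
    intro k
    rw [MulAut.mul_apply, hb, ha, MulAut.mul_apply]
  have i1 := odd_incl hD ha hb hC1
  have i2 := odd_incl hD hab hb (fun x hx => hC2 x hx)
  have hcj : ∀ s y : Suz, MulAut.conj s y = y → y * s = s * y := by
    intro s y h
    rw [MulAut.conj_apply, mul_inv_eq_iff_eq_mul] at h
    exact h.symm
  have hsq : ∀ s : Suz, (MulAut.conj s : MulAut Suz) * MulAut.conj s = 1 → s * s = 1 := by
    intro s h
    rw [← map_mul] at h
    exact conj_one_iff.1 h
  by_cases hai : ∃ s, a = MulAut.conj s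
  · obtain ⟨s, hs⟩ := hai
    have s2 : s * s = 1 := hsq s (by rw [← hs]; exact ha2)
    have s1 : s ≠ 1 := by
      rintro rfl
      exact ha1 (by rw [hs, map_one])
    by_cases hbi : ∃ r, b = MulAut.conj r
    · obtain ⟨r, hr⟩ := hbi
      obtain ⟨k, rfl⟩ := hD.surj s
      obtain ⟨m, rfl⟩ := hD.surj r
      have r2 : π m * π m = 1 := hsq _ (by rw [← hr]; ext y; exact hbb y)
      have r1 : π m ≠ 1 := by
        intro h
        exact hb1 (by rw [hr, h, map_one])
      have ea : α = MulAut.conj k := by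
        apply eq_of_bar hD
        intro x
        rw [← ha, hs, MulAut.conj_apply, MulAut.conj_apply, map_mul, map_mul, map_inv]
      have eb : β = MulAut.conj m := by
        apply eq_of_bar hD
        intro x
        rw [← hb, hr, MulAut.conj_apply, MulAut.conj_apply, map_mul, map_mul, map_inv]
      refine no_inner hD s2 r2 s1 r1 (fun h => hab1 (by rw [hs, hr, h])) ?_
      intro x hx
      have h1 := hC1 x (by rw [ea, MulAut.conj_apply, hx, mul_inv_cancel_right])
      rw [eb, MulAut.conj_apply] at h1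
      exact mul_inv_eq_iff_eq_mul.1 h1
    · refine Perm.outer_claim (γ := a * b) hab2 ?_ s2 s1 ?_
      · intro t ht
        apply hbi
        refine ⟨s⁻¹ * t, ?_⟩
        rw [map_mul, map_inv, ← hs, ← ht, inv_mul_cancel_left]
      · intro y n hn hy hy'
        apply hcj
        rw [← hs]
        have h1 := i2 y n hn hy hy'
        have h2 : a (b y) = y := hy'
        rw [h1] at h2
        exact h2
  · have hai' : ∀ s, a ≠ MulAut.conj s := fun s hs => hai ⟨s, hs⟩
    by_cases hbi : ∃ r, b = MulAut.conj r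
    · obtain ⟨r, hr⟩ := hbi
      have r2 : r * r = 1 := hsq r (by rw [← hr]; ext y; exact hbb y)
      have r1 : r ≠ 1 := by
        rintro rfl
        exact hb1 (by rw [hr, map_one])
      refine Perm.outer_claim ha2 hai' r2 r1 ?_
      intro y n hn hy hy'
      apply hcj
      rw [← hr]
      exact i1 y n hn hy hy'
    · have hbi' : ∀ s, b ≠ MulAut.conj s := fun s hs => hbi ⟨s, hs⟩
      have hti : ∃ t, a * b = MulAut.conj t := by
        rcases SuzOut.out_two a b with ⟨s, hs⟩ | ⟨s, hs⟩ | ⟨s, hs⟩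
        · exact absurd hs.symm (hai' s)
        · exact absurd hs.symm (hbi' s)
        · refine ⟨s, ?_⟩
          rw [hs, inv_eq_of_mul_eq_one_left ha2]
      obtain ⟨t, ht⟩ := hti
      have t2 : t * t = 1 := hsq t (by rw [← ht]; exact hab2)
      have t1 : t ≠ 1 := by
        rintro rfl
        apply hab1
        rw [map_one] at ht
        calc a = a * (b * b) := by
              have : b * b = 1 := by ext y; exact hbb y
              rw [this, mul_one]
          _ = b := by rw [← mul_assoc, ht, one_mul]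
      refine Perm.outer_claim ha2 hai' t2 t1 ?_
      intro y n hn hy hy'
      apply hcj
      rw [← ht, MulAut.mul_apply, i1 y n hn hy hy', hy']

/-! ### (P2) -/

/-- some `a(y)⁻¹ y` is of class 2A -/
theorem exists_dif {a : MulAut Suz} (ha2 : a * a = 1) (ha1 : a ≠ 1) : ∃ y g : Suz, g * ia * g⁻¹ = (a y)⁻¹ * y := by
  have key : ∀ (τ : MulAut Suz) (g y : Suz), a = MulAut.conj g * τ * (MulAut.conj g)⁻¹ →
      (∃ h, h * ia * h⁻¹ = (τ y)⁻¹ * y) → ∃ y g : Suz, g * ia * g⁻¹ = (a y)⁻¹ * y := by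
    rintro τ g y hτ ⟨h, hh⟩
    refine ⟨g * y * g⁻¹, g * h, ?_⟩
    have h1 : a (g * y * g⁻¹) = g * τ y * g⁻¹ := by
      rw [hτ, ← map_inv, MulAut.mul_apply, MulAut.mul_apply, MulAut.conj_apply, MulAut.conj_apply, inv_inv]
      have e : g⁻¹ * (g * y * g⁻¹) * g = y := by group
      rw [e]
    rw [h1]
    calc g * h * ia * (g * h)⁻¹ = g * (h * ia * h⁻¹) * g⁻¹ := by group
      _ = g * ((τ y)⁻¹ * y) * g⁻¹ := by rw [hh]
      _ = _ := by group
  by_cases hai : ∃ s, a = MulAut.conj s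
  · obtain ⟨s, hs⟩ := hai
    have s2 : s * s = 1 := by
      rw [hs, ← map_mul] at ha2
      exact conj_one_iff.1 ha2
    have s1 : s ≠ 1 := by
      rintro rfl
      exact ha1 (by rw [hs, map_one])
    rcases SporRec.SuzCl.two s s2 s1 with ⟨g, hg⟩ | ⟨g, hg⟩
    · refine key (MulAut.conj ia) g SuzOut.n0⁻¹ (by rw [hs, ← hg, map_mul, map_mul, map_inv]) ?_
      have haa : ia⁻¹ = ia := inv_eq_of_mul_eq_one_left SporRec.SuzCl.aa
      have hC : SuzOut.n0 * ia * SuzOut.n0⁻¹ ∈ C1 := by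
        have := Q0_le SuzOut.n0_in
        rwa [SuzY.z0_eq] at this
      obtain ⟨h, hh⟩ := SporRec.SuzCl.comm ia (SuzOut.n0 * ia * SuzOut.n0⁻¹) ⟨1, by group⟩ ⟨SuzOut.n0, rfl⟩
        (fun h => SuzOut.n0_ne (by rw [SuzY.z0_eq]; exact h.symm)) (by
          have := mem_C1.1 hC
          rw [SuzY.z0_eq] at this
          exact this.symm)
      refine ⟨h, ?_⟩
      rw [hh, MulAut.conj_apply]
      calc ia * (SuzOut.n0 * ia * SuzOut.n0⁻¹) = ia * SuzOut.n0 * ia⁻¹ * SuzOut.n0⁻¹ := by rw [haa]; group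
        _ = _ := by group
    · exact key (MulAut.conj ie) g _ (by rw [hs, ← hg, map_mul, map_mul, map_inv]) Perm.dif_e_two
  · rcases SuzInvol.outer ha2 (fun s hs => hai ⟨s, hs⟩) with ⟨g, hg⟩ | ⟨g, hg⟩
    · exact key _ g _ hg ⟨1, by rw [Perm.dif_rho]; group⟩
    · exact key _ g _ hg ⟨1, by rw [Perm.dif_rhoe]; group⟩

/-- **(P2) for `2.Suz`.** -/
theorem sqDiff (hD : Dbl π c) : EvenCyc.SqDiff L := by
  intro α hα hα1
  obtain ⟨a, ha⟩ := exists_bar hD α
  have hαα : ∀ k, α (α k) = k := fun k => DFunLike.congr_fun hα k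
  have ha2 : a * a = 1 := by
    ext y; obtain ⟨k, rfl⟩ := hD.surj y
    show a (a (π k)) = π k
    rw [ha, ha, hαα]
  have ha1 : a ≠ 1 := by
    rintro rfl
    apply hα1
    apply eq_of_bar hD
    intro k
    rw [← ha]; rfl
  obtain ⟨y, g, hg⟩ := exists_dif ha2 ha1
  obtain ⟨x, rfl⟩ := hD.surj y
  have h1 : π ((α x)⁻¹ * x) = g * ia * g⁻¹ := by rw [map_mul, map_inv, ← ha, hg]
  refine ⟨x, ?_, Two.sq_of_a hD h1⟩
  intro hc
  have h2 : π ((α x)⁻¹ * x) = 1 := by
    apply SuzInvol.center_triv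
    intro y
    obtain ⟨k, rfl⟩ := hD.surj y
    rw [← map_mul, ← map_mul, (mem_center_iff.1 hc k).symm]
  rw [h1] at h2
  apply SporRec.SuzCl.a_ne
  calc ia = g⁻¹ * (g * ia * g⁻¹) * g := by group
    _ = 1 := by rw [h2]; group

/-! ### The row -/

theorem mem_center_iff_of_card (h2 : Nat.card ↥(center L) = 2) {c : L} (hc : c ∈ center L) (hc1 : c ≠ 1) (x : L) :
    x ∈ center L ↔ x = 1 ∨ x = c := by
  constructor
  · intro hx
    by_cases hx1 : x = 1
    · exact Or.inl hx1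
    · right
      obtain ⟨z, hz1, hz2⟩ := (Nat.card_eq_two_iff' (1 : center L)).1 h2
      have e1 := hz2 ⟨x, hx⟩ (fun h => hx1 (congrArg Subtype.val h))
      have e2 := hz2 ⟨c, hc⟩ (fun h => hc1 (congrArg Subtype.val h))
      exact congrArg Subtype.val (e1.trans e2.symm)
  · rintro (rfl | rfl)
    · exact one_mem _
    · exact hc

/-- the double cover -/
theorem exists_dbl (hp : commutator L = ⊤) (h2 : Nat.card ↥(center L) = 2) (hS : IsoSuz (L ⧸ center L)) :
    ∃ (π : L →* Suz) (c : L), Dbl π c := by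
  obtain ⟨e⟩ := hS
  obtain ⟨z, hz1, -⟩ := (Nat.card_eq_two_iff' (1 : center L)).1 h2
  have hc : (z : L) ∈ center L := z.2
  have hc1 : (z : L) ≠ 1 := fun h => hz1 (Subtype.ext h)
  have hm := mem_center_iff_of_card h2 hc hc1
  refine ⟨e.toMonoidHom.comp (QuotientGroup.mk' (center L)), z, ⟨⟨hc1, ?_, ?_, hp⟩,
    e.surjective.comp (QuotientGroup.mk'_surjective _), ?_⟩⟩
  · rcases (hm (z * z)).1 (mul_mem hc hc) with h | h
    · exact h
    · exact absurd (mul_eq_left.1 h) hc1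
  · intro x
    exact (mem_center_iff.1 hc x).symm
  · intro x
    show e (x : L ⧸ center L) = 1 ↔ _
    rw [e.map_eq_one_iff, QuotientGroup.eq_one_iff, hm]

/-- **The row `K = 2.Suz` of D4.** -/
theorem suz : Cut.Row0.{u} (fun K _ => D9.Cut.Two (fun X _ => IsoSuz X) K) := by
  rintro G _ C K S hr ⟨h2, hS⟩
  obtain ⟨π, c, hD⟩ := exists_dbl (Cut.quasisimple S).1.commutator_eq_top h2 hS
  have hcyc : IsCyclic ↥(center ↥K) := by
    haveI : Fact (Nat.Prime 2) := ⟨Nat.prime_two⟩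
    exact isCyclic_of_prime_card h2
  have hne : center ↥K ≠ ⊥ := by
    intro h
    rw [h, card_bot] at h2
    omega
  exact hr (EvenCyc.row C S hcyc hne (pairFree hD) (sqDiff hD))

end Cfsg.Agent.OddHalf.D4.Spor.TwoSuz

end

-- merged: Cfsg.Agent.OddHalf.D9.RankTwo.RowsFull
section

/-!
# `Core.Rows`: the groups of characteristic 2 type in the list of the theorem on TI subgroups
-/

set_option autoImplicit false

namespace Cfsg.Agent.OddHalf.D9.RankTwo.RowsFull

open Cfsg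

theorem rows : Core.Rows where
  m22 := Small.Mathieu.charTwo_M22
  m23 := Small.Mathieu.charTwo_M23
  m24 := Small.M24Char.charTwo_M24
  u3 F _ _ n hn hF := Small.RankOne.u3 F n (by omega) hF ⟨MulEquiv.refl _⟩
  sz F _ _ m hm hF := Small.RankOne.sz ⟨F, _, _, m, hm, hF, ⟨MulEquiv.refl _⟩⟩

end Cfsg.Agent.OddHalf.D9.RankTwo.RowsFull

end

-- merged: Cfsg.Agent.OddHalf.Table.RuInvCent
section

/-!
# Centralisers of involutions in the Rudvalis group

`cent_sq_a`: an element commuting with the squares of all elements of `C(g 13)` is `1` or `g 13`.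
`cent_sq_b`: there is `v` commuting with `b = g 0`, `v` and `b v` conjugate to `b`, such that every element commuting
with the squares of all elements of `C(b)` is in `{1, b, v, b v}`.

Method: the element preserves the fixed points of a square; if it fixes a point it fixes its orbit under the squares,
and the adjacencies to this orbit determine the base points.
-/

set_option autoImplicit false
set_option maxRecDepth 100000
set_option exponentiation.threshold 5000

namespace Cfsg.Agent.OddHalf.Table.RuInvCent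

open Cfsg.Agent.SporadicB Cfsg.Agent.SporadicB.RuData Cfsg.Agent.Lib.BitNet Cfsg.Agent.Lib.BitNetSimple
open Cfsg.Agent.OddHalf.Table.RuCent Cfsg.Agent.OddHalf.Table.RuInvConj
open Cfsg.Agent.Schreier

/-! ### fixed points of a word -/

/-- the image of a set of points under a word -/
noncomputable def img : List ℕ → ℕ → ℕ
  | [], M => M
  | l :: w, M => force (img w M) (appMF (net l))

theorem testBit_img (p : Fin 4060) (M : ℕ) : ∀ w : List ℕ,
    (img w M).testBit (((W w : RuOrder.H) : Equiv.Perm (Fin 4060)) p) = M.testBit p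
  | [] => rfl
  | l :: w => by
    rw [img, force_eq, appMF_eq, W_cons]
    change (appM (net l) (img w M)).testBit (app (net l) (((W w : RuOrder.H) : Equiv.Perm (Fin 4060)) p : ℕ)) = _
    rw [testBit_appM (ok_net l).valid, testBit_img p M w]

/-- the fixed points of a word -/
noncomputable def fixM (w : List ℕ) (k : ℕ) : ℕ :=
  Nat.rec U (fun j ih => force ih fun S => force (idxMask 12 j) fun P =>
    Nat.xor S (Nat.land S (Nat.xor P (img w P)))) k

theorem testBit_fixM {w : List ℕ} {p : Fin 4060}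
    (h : ((W w : RuOrder.H) : Equiv.Perm (Fin 4060)) p = p) : ∀ k, (fixM w k).testBit p = true
  | 0 => testBit_U p
  | k + 1 => by
    have e : fixM w (k + 1) = force (fixM w k) (fun S => force (idxMask 12 k) fun P =>
      Nat.xor S (Nat.land S (Nat.xor P (img w P)))) := rfl
    rw [e, force_eq, force_eq]
    change (fixM w k ^^^ (fixM w k &&& (idxMask 12 k ^^^ img w (idxMask 12 k)))).testBit p = true
    have h1 : (img w (idxMask 12 k)).testBit p = (idxMask 12 k).testBit p := by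
      conv_lhs => rw [← h]
      exact testBit_img p _ w
    rw [Nat.testBit_xor, Nat.testBit_and, Nat.testBit_xor, h1, testBit_fixM h k, Bool.xor_self]
    rfl

/-- points of a union of two sets -/
theorem eq_of_testBit_pow {a : ℕ} {p : Fin 4060} (h : (2 ^ a).testBit p = true) : (p : ℕ) = a := by
  rw [Nat.testBit_two_pow] at h
  have : a = (p : ℕ) := by simpa using h
  exact this.symm

/-! ### adjacencies to the images of a point -/

/-- the points of `S` with the same adjacencies as `w` to the points `c a`, `c` in the list -/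
noncomputable def cutW (a w : ℕ) (cs : List (List ℕ)) : ℕ → ℕ :=
  List.rec (fun S => S) (fun c _ ih S => force (ev c a) fun q =>
    force (bif tb (row q) w then Nat.land S (row q) else Nat.xor S (Nat.land S (row q))) ih) cs

theorem cutW_cons (a w : ℕ) (c : List ℕ) (cs : List (List ℕ)) (S : ℕ) : cutW a w (c :: cs) S =
    cutW a w cs (bif tb (row (ev c a)) w then Nat.land S (row (ev c a))
      else Nat.xor S (Nat.land S (row (ev c a)))) := by
  have e : cutW a w (c :: cs) S = force (ev c a) (fun q =>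
    force (bif tb (row q) w then Nat.land S (row q) else Nat.xor S (Nat.land S (row q))) (cutW a w cs)) := rfl
  rw [e, force_eq, force_eq]

theorem cutW_sound {l : RuOrder.H} {a : Fin 4060} (ha : (l : Equiv.Perm (Fin 4060)) a = a) (w : Fin 4060) :
    ∀ (cs : List (List ℕ)) (_ : ∀ c ∈ cs, l * W c = W c * l) (S : ℕ),
      S.testBit ((l : Equiv.Perm (Fin 4060)) w) = true →
      (cutW a w cs S).testBit ((l : Equiv.Perm (Fin 4060)) w) = true
  | [], _, _, hS => hS
  | c :: cs, hc, S, hS => by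
    rw [cutW_cons]
    refine cutW_sound ha w cs (fun c' hc' => hc c' (List.mem_cons_of_mem _ hc')) _ ?_
    have h1 : (l : Equiv.Perm (Fin 4060)) (((W c : RuOrder.H) : Equiv.Perm (Fin 4060)) a) =
        ((W c : RuOrder.H) : Equiv.Perm (Fin 4060)) a := by
      have h2 := congrArg (fun t : RuOrder.H => (t : Equiv.Perm (Fin 4060)) a) (hc c List.mem_cons_self)
      have h3 : (l : Equiv.Perm (Fin 4060)) (((W c : RuOrder.H) : Equiv.Perm (Fin 4060)) a) =
        ((W c : RuOrder.H) : Equiv.Perm (Fin 4060)) ((l : Equiv.Perm (Fin 4060)) a) := h2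
      rw [h3, ha]
    have h2 : (row (ev c a)).testBit ((l : Equiv.Perm (Fin 4060)) w) = (row (ev c a)).testBit w := by
      have h3 := l.2 (((W c : RuOrder.H) : Equiv.Perm (Fin 4060)) a) w
      rw [h1, W_apply] at h3
      exact h3
    rw [tb_eq]
    cases h3 : (row (ev c a)).testBit w
    · rw [cond_false]
      change (S ^^^ (S &&& row (ev c a))).testBit ((l : Equiv.Perm (Fin 4060)) w) = true
      rw [Nat.testBit_xor, Nat.testBit_and, hS, h2, h3]; rfl
    · rw [cond_true]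
      change (S &&& row (ev c a)).testBit ((l : Equiv.Perm (Fin 4060)) w) = true
      rw [Nat.testBit_and, hS, h2, h3]; rfl

/-- words in two words -/
def exu (u0 u1 : List ℕ) : List ℕ → List ℕ
  | [] => []
  | 0 :: c => u0 ++ exu u0 u1 c
  | _ :: c => u1 ++ exu u0 u1 c

theorem comm_exu {u0 u1 : List ℕ} {l : RuOrder.H} (h0 : l * W u0 = W u0 * l) (h1 : l * W u1 = W u1 * l) :
    ∀ c : List ℕ, l * W (exu u0 u1 c) = W (exu u0 u1 c) * l
  | [] => by rw [exu, W_nil, mul_one, one_mul]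
  | 0 :: c => by
    have e : exu u0 u1 (0 :: c) = u0 ++ exu u0 u1 c := rfl
    rw [e, W_append, ← mul_assoc, h0, mul_assoc, comm_exu h0 h1 c, mul_assoc]
  | (n + 1) :: c => by
    have e : exu u0 u1 ((n + 1) :: c) = u1 ++ exu u0 u1 c := rfl
    rw [e, W_append, ← mul_assoc, h1, mul_assoc, comm_exu h0 h1 c, mul_assoc]

theorem comm_map {u0 u1 : List ℕ} {l : RuOrder.H} (h0 : l * W u0 = W u0 * l) (h1 : l * W u1 = W u1 * l)
    (cs : List (List ℕ)) : ∀ c ∈ cs.map (exu u0 u1), l * W c = W c * l := by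
  intro c hc
  obtain ⟨c', _, rfl⟩ := List.mem_map.1 hc
  exact comm_exu h0 h1 c'

/-- an element commuting with the two words and fixing `a` fixes `w` -/
theorem fix_of_cutW {u0 u1 : List ℕ} {l : RuOrder.H} (h0 : l * W u0 = W u0 * l) (h1 : l * W u1 = W u1 * l)
    {a w : Fin 4060} (ha : (l : Equiv.Perm (Fin 4060)) a = a) {cs : List (List ℕ)}
    (h : Nat.beq (cutW a w (cs.map (exu u0 u1)) U) (Nat.pow 2 w) = true) :
    (l : Equiv.Perm (Fin 4060)) w = w := by
  have h2 := cutW_sound ha w (cs.map (exu u0 u1)) (comm_map h0 h1 cs) U (testBit_U _)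
  rw [Nat.eq_of_beq_eq_true h] at h2
  exact Fin.ext (eq_of_testBit_pow h2)

theorem eq_one_of_fix {l : RuOrder.H} (h1 : (l : Equiv.Perm (Fin 4060)) RuOrder.b1 = RuOrder.b1)
    (h2 : (l : Equiv.Perm (Fin 4060)) RuOrder.b2 = RuOrder.b2) (h3 : (l : Equiv.Perm (Fin 4060)) RuOrder.b3 = RuOrder.b3)
    (h4 : (l : Equiv.Perm (Fin 4060)) RuOrder.b4 = RuOrder.b4) : l = 1 :=
  Subtype.ext (eq_one_of_base l.2 h1 h2 h3 h4)

/-- if `l` commutes with `W w` and `W w` fixes `a` then `l a` is in `fixM w` -/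
theorem mem_fixM {w : List ℕ} {l : RuOrder.H} (h : l * W w = W w * l) {a : Fin 4060}
    (ha : Nat.beq (ev w a) a = true) {M : ℕ} (hM : Nat.beq (fixM w 12) M = true) :
    M.testBit ((l : Equiv.Perm (Fin 4060)) a) = true := by
  rw [← Nat.eq_of_beq_eq_true hM]
  apply testBit_fixM
  have h1 : ((W w : RuOrder.H) : Equiv.Perm (Fin 4060)) a = a := by
    apply Fin.ext
    rw [W_apply]
    exact Nat.eq_of_beq_eq_true ha
  have h2 : (l : Equiv.Perm (Fin 4060)) (((W w : RuOrder.H) : Equiv.Perm (Fin 4060)) a) =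
      ((W w : RuOrder.H) : Equiv.Perm (Fin 4060)) ((l : Equiv.Perm (Fin 4060)) a) :=
    congrArg (fun t : RuOrder.H => (t : Equiv.Perm (Fin 4060)) a) h
  rw [← h2, h1]

theorem apply_of_beq {w : List ℕ} {a b : Fin 4060} (h : Nat.beq (ev w a) b = true) :
    ((W w : RuOrder.H) : Equiv.Perm (Fin 4060)) a = b := by
  apply Fin.ext
  rw [W_apply]
  exact Nat.eq_of_beq_eq_true h

/-- `l` does not map `p` to `q` if some `c` commuting with `l` fixes `q` and not `p` -/
theorem swap_false {c : List ℕ} {l : RuOrder.H} (h : l * W c = W c * l) {p q : Fin 4060}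
    (hpq : (l : Equiv.Perm (Fin 4060)) p = q) (hq : Nat.beq (ev c q) q = true)
    (hp : Nat.beq (ev c p) p = false) : False := by
  have h4 : (l : Equiv.Perm (Fin 4060)) (((W c : RuOrder.H) : Equiv.Perm (Fin 4060)) p) =
      ((W c : RuOrder.H) : Equiv.Perm (Fin 4060)) ((l : Equiv.Perm (Fin 4060)) p) :=
    congrArg (fun t : RuOrder.H => (t : Equiv.Perm (Fin 4060)) p) h
  rw [hpq, apply_of_beq hq, ← hpq] at h4
  have h6 := (l : Equiv.Perm (Fin 4060)).injective h4
  have h7 := W_apply p c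
  rw [h6] at h7
  rw [← h7] at hp
  simp at hp

/-- squares of elements commuting with `s` -/
theorem comm_sq {l s : RuOrder.H} (h : ∀ x : RuOrder.H, x * s = s * x → l * (x * x) = (x * x) * l) {x s' : List ℕ}
    (hs : W s' = s) (hx : eqw (x ++ s') (s' ++ x) = true) : l * W (x ++ x) = W (x ++ x) * l := by
  have h1 := eqw_sound hx
  rw [W_append, W_append, hs] at h1
  rw [W_append]
  exact h _ h1

/-- points -/
def p149 : Fin 4060 := ⟨149, by norm_num⟩
def p4045 : Fin 4060 := ⟨4045, by norm_num⟩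
def p2152 : Fin 4060 := ⟨2152, by norm_num⟩
def p416 : Fin 4060 := ⟨416, by norm_num⟩
def p2434 : Fin 4060 := ⟨2434, by norm_num⟩
def p2334 : Fin 4060 := ⟨2334, by norm_num⟩
def p3886 : Fin 4060 := ⟨3886, by norm_num⟩

/-! ### 2A -/

def xa : List ℕ := [4, 7, 3, 7, 1, 2, 7, 5, 2, 2]
def xb : List ℕ := [5, 6, 7]
def za : List ℕ := s5 (RuSyl.gwd 13)

theorem W_za : W za = RuSyl.g 13 := W_s5 _

theorem a1 : eqw (xa ++ za) (za ++ xa) = true := by decide +kernel
theorem a2 : eqw (xb ++ za) (za ++ xb) = true := by decide +kernel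
theorem a3 : Nat.beq (fixM (xa ++ xa) 12) (Nat.lor (Nat.pow 2 149) (Nat.pow 2 4045)) = true := by decide +kernel
theorem a4 : Nat.beq (ev (xa ++ xa) p149) p149 = true := by decide +kernel
theorem a5 : Nat.beq (ev (exu (xa ++ xa) (xb ++ xb) [1, 0, 1, 1, 0, 0, 1]) p149) p149 = false := by decide +kernel
theorem a6 : Nat.beq (ev (exu (xa ++ xa) (xb ++ xb) [1, 0, 1, 1, 0, 0, 1]) p4045) p4045 = true := by decide +kernel
/-- words -/
def csa : List (List ℕ) := [[], [1, 1], [0, 0, 1, 1], [1, 1, 1], [0, 1, 1, 0, 0, 1], [1, 1, 0, 1],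
    [0, 1, 1, 0, 0, 1, 1], [1]]
theorem a7 : Nat.beq (cutW p149 RuOrder.b1 (csa.map (exu (xa ++ xa) (xb ++ xb))) U)
    (Nat.lor (Nat.pow 2 0) (Nat.pow 2 2152)) = true := by decide +kernel
theorem a8 : Nat.beq (cutW RuOrder.b1 RuOrder.b2 ([[1], [1, 1, 0], [1, 1, 0, 1, 0], [0, 1, 0, 1, 0, 1, 1, 1], [1, 0, 1, 0, 0],
    [0, 0, 1, 0, 1, 0], [0, 1, 0, 1, 1, 1]].map (exu (xa ++ xa) (xb ++ xb))) U) (Nat.pow 2 RuOrder.b2) = true := by
  decide +kernel
theorem a9 : Nat.beq (cutW RuOrder.b1 RuOrder.b3 ([[], [1, 0, 0], [0, 0, 1], [0, 0, 1, 1, 0], [1, 1, 0, 0, 1, 0, 1, 1, 0],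
    [0, 1, 1, 0, 0, 0], [0, 1, 1, 1]].map (exu (xa ++ xa) (xb ++ xb))) U) (Nat.pow 2 RuOrder.b3) = true := by
  decide +kernel
theorem a10 : Nat.beq (cutW RuOrder.b1 RuOrder.b4 ([[1], [1, 1, 0], [0, 0, 1, 0, 0], [0, 1, 0, 1, 0, 0, 0], [0, 1, 1, 1, 0, 1, 1, 0],
    [1, 0, 0, 1, 1, 0, 0, 1, 1], [0, 0, 1]].map (exu (xa ++ xa) (xb ++ xb))) U) (Nat.pow 2 RuOrder.b4) = true := by
  decide +kernel
theorem a11 : Nat.beq (ev za p2152) RuOrder.b1 = true := by decide +kernel
theorem a12 : eqw (za ++ za) [] = true := by decide +kernel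

theorem za_sq : RuSyl.g 13 * RuSyl.g 13 = 1 := by
  have h := eqw_sound a12
  rw [W_append, W_za, W_nil] at h
  exact h

theorem eq_one_a {l : RuOrder.H} (h0 : l * W (xa ++ xa) = W (xa ++ xa) * l)
    (h1 : l * W (xb ++ xb) = W (xb ++ xb) * l) (h : (l : Equiv.Perm (Fin 4060)) RuOrder.b1 = RuOrder.b1) : l = 1 :=
  eq_one_of_fix h
    (fix_of_cutW h0 h1 (a := RuOrder.b1) (w := RuOrder.b2) h a8)
    (fix_of_cutW h0 h1 (a := RuOrder.b1) (w := RuOrder.b3) h a9)
    (fix_of_cutW h0 h1 (a := RuOrder.b1) (w := RuOrder.b4) h a10)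

/-- **2A**: the centraliser of the squares of the elements of `C(g 13)` -/
theorem cent_sq_a (l : RuOrder.H)
    (h : ∀ x : RuOrder.H, x * RuSyl.g 13 = RuSyl.g 13 * x → l * (x * x) = (x * x) * l) :
    l = 1 ∨ l = RuSyl.g 13 := by
  have h0 := comm_sq h W_za a1
  have h1 := comm_sq h W_za a2
  have hz0 : RuSyl.g 13 * W (xa ++ xa) = W (xa ++ xa) * RuSyl.g 13 := by
    have h2 := eqw_sound a1
    rw [W_append, W_append, W_za] at h2
    rw [W_append, ← mul_assoc, ← h2, mul_assoc, ← h2, mul_assoc]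
  have hz1 : RuSyl.g 13 * W (xb ++ xb) = W (xb ++ xb) * RuSyl.g 13 := by
    have h2 := eqw_sound a2
    rw [W_append, W_append, W_za] at h2
    rw [W_append, ← mul_assoc, ← h2, mul_assoc, ← h2, mul_assoc]
  have hp : (l : Equiv.Perm (Fin 4060)) p149 = p149 := by
    have h2 := mem_fixM h0 (a := p149) a4 a3
    change (2 ^ 149 ||| 2 ^ 4045).testBit ((l : Equiv.Perm (Fin 4060)) p149) = true at h2
    rw [Nat.testBit_or, Bool.or_eq_true] at h2
    rcases h2 with h2 | h2
    · exact Fin.ext (eq_of_testBit_pow h2)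
    · exfalso
      have hpq : (l : Equiv.Perm (Fin 4060)) p149 = p4045 := Fin.ext (eq_of_testBit_pow h2)
      exact swap_false (comm_exu h0 h1 [1, 0, 1, 1, 0, 0, 1]) hpq a6 a5
  have h2 := cutW_sound hp RuOrder.b1 _ (comm_map h0 h1 csa) U (testBit_U _)
  rw [Nat.eq_of_beq_eq_true a7] at h2
  have h3 : (2 ^ 0 ||| 2 ^ 2152).testBit ((l : Equiv.Perm (Fin 4060)) RuOrder.b1) = true := h2
  rw [Nat.testBit_or, Bool.or_eq_true] at h3
  rcases h3 with h3 | h3
  · left
    exact eq_one_a h0 h1 (Fin.ext (eq_of_testBit_pow h3))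
  · right
    have h4 : ((RuSyl.g 13 * l : RuOrder.H) : Equiv.Perm (Fin 4060)) RuOrder.b1 = RuOrder.b1 := by
      have h6 : (l : Equiv.Perm (Fin 4060)) RuOrder.b1 = p2152 := Fin.ext (eq_of_testBit_pow h3)
      have h5 : ((RuSyl.g 13 : RuOrder.H) : Equiv.Perm (Fin 4060)) p2152 = RuOrder.b1 := by
        rw [← W_za]
        exact apply_of_beq a11
      change ((RuSyl.g 13 : RuOrder.H) : Equiv.Perm (Fin 4060)) ((l : Equiv.Perm (Fin 4060)) RuOrder.b1) = RuOrder.b1
      rw [h6]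
      exact h5
    have h5 : RuSyl.g 13 * l = 1 := by
      refine eq_one_a ?_ ?_ h4
      · rw [mul_assoc, h0, ← mul_assoc, hz0, mul_assoc]
      · rw [mul_assoc, h1, ← mul_assoc, hz1, mul_assoc]
    calc l = RuSyl.g 13 * (RuSyl.g 13 * l) := by rw [← mul_assoc, za_sq, one_mul]
      _ = RuSyl.g 13 := by rw [h5, mul_one]

/-! ### 2B -/

def xc : List ℕ := [0, 2, 1, 7, 4, 1, 5, 3, 3]
def xd : List ℕ := [0, 3, 5, 3, 3, 0, 5, 0]
/-- the word of `g 0` -/
def zb : List ℕ := [5]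
/-- conjugates `g 0` to `v` -/
def w1 : List ℕ := [1, 3, 6, 5, 0, 6, 1]
def w1' : List ℕ := [0, 6, 1, 5, 6, 2, 0]
/-- conjugates `g 0` to `g 0 v` -/
def w2 : List ℕ := [0, 6, 1, 5, 6, 2, 0]
def w2' : List ℕ := [1, 3, 6, 5, 0, 6, 1]
/-- the word of `v` -/
def zv : List ℕ := w1 ++ (zb ++ w1')

theorem W_zb : W zb = RuSyl.g 0 := by
  have h : zb = s5 (RuSyl.gwd 0) := rfl
  rw [h]; exact W_s5 _

theorem b1' : eqw (xc ++ zb) (zb ++ xc) = true := by decide +kernel
theorem b2' : eqw (xd ++ zb) (zb ++ xd) = true := by decide +kernel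
theorem b3' : eqw (w1 ++ w1') [] = true := by decide +kernel
theorem b4' : eqw (w2 ++ (zb ++ w2')) (zb ++ zv) = true := by decide +kernel
theorem b5' : eqw (zv ++ zb) (zb ++ zv) = true := by decide +kernel
theorem b6' : eqw (zv ++ (xc ++ xc)) ((xc ++ xc) ++ zv) = true := by decide +kernel
theorem b7' : eqw (zv ++ (xd ++ xd)) ((xd ++ xd) ++ zv) = true := by decide +kernel
theorem b8' : Nat.beq (fixM (xc ++ xc) 12)
    (Nat.lor (Nat.lor (Nat.pow 2 416) (Nat.pow 2 2434)) (Nat.lor (Nat.pow 2 2334) (Nat.pow 2 3886))) = true := by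
  decide +kernel
theorem b9' : Nat.beq (ev (xc ++ xc) p416) p416 = true := by decide +kernel
theorem b10' : Nat.beq (ev zb p416) p2434 = true := by decide +kernel
theorem b11' : Nat.beq (ev zv p416) p2334 = true := by decide +kernel
theorem b12' : Nat.beq (ev (zb ++ zv) p416) p3886 = true := by decide +kernel
theorem b13' : Nat.beq (cutW p416 RuOrder.b1 ([[], [1, 1], [1, 0, 0, 0, 0, 1], [1, 0, 0, 1, 1, 0, 1, 1],
    [0, 0, 1, 1, 0, 1, 1, 0, 0, 1], [0, 0, 0, 0, 1, 1], [1, 0, 0, 1]].map (exu (xc ++ xc) (xd ++ xd))) U)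
    (Nat.pow 2 RuOrder.b1) = true := by decide +kernel
theorem b14' : Nat.beq (cutW p416 RuOrder.b2 ([[0, 1], [0, 0, 0, 1], [0, 1, 1, 1], [0, 1, 0, 0, 0, 1, 1, 1, 1],
    [1, 1, 0, 0, 1, 1], [1, 1, 0, 1, 0, 1, 0, 1], [0, 0, 1, 0, 0, 1, 1]].map (exu (xc ++ xc) (xd ++ xd))) U)
    (Nat.pow 2 RuOrder.b2) = true := by decide +kernel
theorem b15' : Nat.beq (cutW p416 RuOrder.b3 ([[1], [0, 0, 0, 0, 1], [0, 0, 1, 1, 0, 1], [1, 1, 0, 1, 1, 1],
    [0, 0, 1, 1, 1, 1, 0, 1], [1, 1, 1, 0, 0, 0, 0, 1, 0, 1], [0, 0, 1, 1]].map (exu (xc ++ xc) (xd ++ xd))) U)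
    (Nat.pow 2 RuOrder.b3) = true := by decide +kernel
theorem b16' : Nat.beq (cutW p416 RuOrder.b4 ([[0, 1], [0, 0, 0, 1], [1, 0, 0, 1, 1], [0, 1, 1, 0, 1, 1, 0, 0, 1],
    [0, 0, 0, 0, 0, 0, 1], [1, 1, 0, 0, 0, 1, 1, 1, 0, 1], [0, 0, 1, 0, 1, 0, 1]].map
    (exu (xc ++ xc) (xd ++ xd))) U) (Nat.pow 2 RuOrder.b4) = true := by decide +kernel
theorem b17' : eqw (w2 ++ w2') [] = true := by decide +kernel

theorem eq_one_b {l : RuOrder.H} (h0 : l * W (xc ++ xc) = W (xc ++ xc) * l)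
    (h1 : l * W (xd ++ xd) = W (xd ++ xd) * l)
    (h : (l : Equiv.Perm (Fin 4060)) p416 = p416) : l = 1 :=
  eq_one_of_fix
    (fix_of_cutW h0 h1 (a := p416) (w := RuOrder.b1) h b13')
    (fix_of_cutW h0 h1 (a := p416) (w := RuOrder.b2) h b14')
    (fix_of_cutW h0 h1 (a := p416) (w := RuOrder.b3) h b15')
    (fix_of_cutW h0 h1 (a := p416) (w := RuOrder.b4) h b16')

/-- the second involution of the four-group -/
noncomputable def v : RuOrder.H := W zv

theorem v_comm : v * RuSyl.g 0 = RuSyl.g 0 * v := by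
  have h := eqw_sound b5'
  rw [W_append zv zb, W_append zb zv, W_zb] at h
  exact h

theorem isConj_v : IsConj (RuSyl.g 0) v := by
  have h := eqw_sound b3'
  rw [W_append, W_nil] at h
  have h1 : W w1' = (W w1)⁻¹ := (inv_eq_of_mul_eq_one_right h).symm
  refine isConj_iff.2 ⟨W w1, ?_⟩
  rw [v, zv, W_append w1, W_append zb, W_zb, h1, mul_assoc]

theorem isConj_bv : IsConj (RuSyl.g 0) (RuSyl.g 0 * v) := by
  have h := eqw_sound b17'
  rw [W_append, W_nil] at h
  have h1 : W w2' = (W w2)⁻¹ := (inv_eq_of_mul_eq_one_right h).symm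
  refine isConj_iff.2 ⟨W w2, ?_⟩
  have h2 := eqw_sound b4'
  rw [W_append w2, W_append zb w2', W_append zb zv, W_zb, h1] at h2
  rw [mul_assoc]
  exact h2

theorem eq_of_apply {l t : RuOrder.H} (h0 : l * W (xc ++ xc) = W (xc ++ xc) * l)
    (h1 : l * W (xd ++ xd) = W (xd ++ xd) * l) (t0 : t * W (xc ++ xc) = W (xc ++ xc) * t)
    (t1 : t * W (xd ++ xd) = W (xd ++ xd) * t)
    (h : (l : Equiv.Perm (Fin 4060)) p416 = (t : Equiv.Perm (Fin 4060)) p416) :
    l = t := by
  have h2 : t⁻¹ * l = 1 := by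
    refine eq_one_b ?_ ?_ ?_
    · have h3 : t⁻¹ * W (xc ++ xc) = W (xc ++ xc) * t⁻¹ := (Commute.inv_left (show Commute t _ from t0)).eq
      rw [mul_assoc, h0, ← mul_assoc, h3, mul_assoc]
    · have h3 : t⁻¹ * W (xd ++ xd) = W (xd ++ xd) * t⁻¹ := (Commute.inv_left (show Commute t _ from t1)).eq
      rw [mul_assoc, h1, ← mul_assoc, h3, mul_assoc]
    · change (t : Equiv.Perm (Fin 4060))⁻¹ ((l : Equiv.Perm (Fin 4060)) p416) = _
      rw [h]
      exact inv_self _ _
  exact (inv_mul_eq_one.1 h2).symm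

/-- **2B**: the centraliser of the squares of the elements of `C(g 0)` -/
theorem cent_sq_b (l : RuOrder.H)
    (h : ∀ x : RuOrder.H, x * RuSyl.g 0 = RuSyl.g 0 * x → l * (x * x) = (x * x) * l) :
    l = 1 ∨ l = RuSyl.g 0 ∨ l = v ∨ l = RuSyl.g 0 * v := by
  have h0 := comm_sq h W_zb b1'
  have h1 := comm_sq h W_zb b2'
  have z0 : RuSyl.g 0 * W (xc ++ xc) = W (xc ++ xc) * RuSyl.g 0 := by
    have h2 := eqw_sound b1'
    rw [W_append, W_append, W_zb] at h2
    rw [W_append, ← mul_assoc, ← h2, mul_assoc, ← h2, mul_assoc]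
  have z1 : RuSyl.g 0 * W (xd ++ xd) = W (xd ++ xd) * RuSyl.g 0 := by
    have h2 := eqw_sound b2'
    rw [W_append, W_append, W_zb] at h2
    rw [W_append, ← mul_assoc, ← h2, mul_assoc, ← h2, mul_assoc]
  have v0 : v * W (xc ++ xc) = W (xc ++ xc) * v := by
    have h2 := eqw_sound b6'
    rw [W_append zv (xc ++ xc), W_append (xc ++ xc) zv] at h2
    exact h2
  have v1 : v * W (xd ++ xd) = W (xd ++ xd) * v := by
    have h2 := eqw_sound b7'
    rw [W_append zv (xd ++ xd), W_append (xd ++ xd) zv] at h2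
    exact h2
  have h2 := mem_fixM h0 (a := p416) b9' b8'
  change ((2 ^ 416 ||| 2 ^ 2434) ||| (2 ^ 2334 ||| 2 ^ 3886)).testBit
    ((l : Equiv.Perm (Fin 4060)) p416) = true at h2
  rw [Nat.testBit_or, Nat.testBit_or, Nat.testBit_or, Bool.or_eq_true, Bool.or_eq_true, Bool.or_eq_true] at h2
  rcases h2 with (h2 | h2) | (h2 | h2)
  · left
    exact eq_one_b h0 h1 (Fin.ext (eq_of_testBit_pow h2))
  · right; left
    have h3 : (l : Equiv.Perm (Fin 4060)) p416 = p2434 := Fin.ext (eq_of_testBit_pow h2)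
    refine eq_of_apply h0 h1 z0 z1 ?_
    rw [h3, ← W_zb]
    exact (apply_of_beq b10').symm
  · right; right; left
    have h3 : (l : Equiv.Perm (Fin 4060)) p416 = p2334 := Fin.ext (eq_of_testBit_pow h2)
    refine eq_of_apply h0 h1 v0 v1 ?_
    rw [h3, v]
    exact (apply_of_beq b11').symm
  · right; right; right
    have h3 : (l : Equiv.Perm (Fin 4060)) p416 = p3886 := Fin.ext (eq_of_testBit_pow h2)
    refine eq_of_apply h0 h1 ?_ ?_ ?_
    · rw [mul_assoc, v0, ← mul_assoc, z0, mul_assoc]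
    · rw [mul_assoc, v1, ← mul_assoc, z1, mul_assoc]
    · have h4 : RuSyl.g 0 * v = W (zb ++ zv) := by rw [W_append zb zv, W_zb, v]
      rw [h3, h4]
      exact (apply_of_beq b12').symm

/-- the statement of the 2B facts -/
theorem exists_four : ∃ v : RuOrder.H, v * RuSyl.g 0 = RuSyl.g 0 * v ∧ IsConj (RuSyl.g 0) v ∧
    IsConj (RuSyl.g 0) (RuSyl.g 0 * v) ∧ ∀ l : RuOrder.H,
      (∀ x : RuOrder.H, x * RuSyl.g 0 = RuSyl.g 0 * x → l * (x * x) = (x * x) * l) →
      l = 1 ∨ l = RuSyl.g 0 ∨ l = v ∨ l = RuSyl.g 0 * v :=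
  ⟨v, v_comm, isConj_v, isConj_bv, cent_sq_b⟩

end Cfsg.Agent.OddHalf.Table.RuInvCent

end

-- merged: Cfsg.Agent.KFacts.RuDbl.Pairs
section

/-!
# The facts (P1), (P2) for `2.Ru`

For a finite perfect group `L` with centre of order 2 and `L / Z(L)` the Rudvalis group: every automorphism of `L` is
inner, `PairFree L` and `SqDiff L`.
-/

set_option autoImplicit false
set_option maxRecDepth 100000
set_option exponentiation.threshold 5000

namespace Cfsg.Agent.KFacts.RuDbl.Pairs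

open Subgroup Cfsg.Agent.SporadicB Cfsg.Agent.Schreier Cfsg.Agent.Schreier.RuSyl
open Cfsg.Agent.KFacts.RuDbl.Four Cfsg.Agent.KFacts.RuDbl.Rel Cfsg.Agent.KFacts.RuDbl.Main
open Cfsg.Agent.KFacts.MulTwo Cfsg.Agent.KFacts.MulDef Cfsg.Agent.KFacts.MulLift
open Cfsg.Agent.OddHalf.D9.J2.Facts (exists_bar eq_one_of_bar inner_of_bar)
open Cfsg.Agent.OddHalf.D4.EvenCyc (PairFree SqDiff)
open scoped commutatorElement

universe u

variable {L : Type u} [Group L] {π : L →* RuOrder.H} {c : L}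

theorem map_c (hd : Dbl π c) (hZ : ∀ x ∈ center L, x = 1 ∨ x = c) (α : MulAut L) : α c = c := by
  have h1 : α c ∈ center L := by
    rw [mem_center_iff]
    intro x
    obtain ⟨y, rfl⟩ := α.surjective x
    rw [← map_mul, ← map_mul, hd.cen]
  rcases hZ _ h1 with h | h
  · exact absurd ((map_eq_one_iff α α.injective).1 h) hd.ne
  · exact h

theorem bar_invol (hd : Dbl π c) (hZ : ∀ x ∈ center L, x = 1 ∨ x = c) {k : L}
    (h : MulAut.conj k * MulAut.conj k = 1) (h1 : MulAut.conj k ≠ 1) : π k * π k = 1 ∧ π k ≠ 1 := by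
  constructor
  · rw [← map_mul]
    have h2 : k * k ∈ center L := by
      rw [mem_center_iff]
      intro x
      have h3 := congrArg (fun γ : MulAut L => γ x) h
      have h4 : k * (k * x * k⁻¹) * k⁻¹ = x := h3
      calc x * (k * k) = (k * (k * x * k⁻¹) * k⁻¹) * (k * k) := by rw [h4]
        _ = _ := by group
    exact (hd.ker _).2 (hZ _ h2)
  · intro h2
    apply h1
    rcases (hd.ker k).1 h2 with h3 | h3
    · rw [h3, map_one]
    · ext x
      show k * x * k⁻¹ = x
      rw [h3, hd.cen]; group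

/-- the automorphisms of `L` are inner -/
theorem inner (hd : Dbl π c) (hZ : ∀ x ∈ center L, x = 1 ∨ x = c) (α : MulAut L) : ∃ k : L, α = MulAut.conj k := by
  obtain ⟨δ, hδ⟩ := exists_bar hd α (map_c hd hZ α)
  obtain ⟨g, hg⟩ := Cfsg.Agent.OddHalf.Table.OutRu.inner δ
  obtain ⟨k, rfl⟩ := hd.surj g
  refine ⟨k, inner_of_bar hd α k fun x => ?_⟩
  rw [← hδ, hg]; rfl

theorem pi_comm (hd : Dbl π c) {k l : L} (h : ∀ x, k * x = x * k → l * x = x * l) (y : RuOrder.H)
    (hy : y * π k = π k * y) : π l * (y * y) = (y * y) * π l := by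
  obtain ⟨x, rfl⟩ := hd.surj y
  have h1 : k * (x * x) = x * x * k := by
    rcases eq_or hd (x := x * k) (y := k * x) (by rw [map_mul, map_mul, hy]) with h1 | h1
    · rw [← mul_assoc, ← h1, mul_assoc, ← h1, mul_assoc]
    · calc k * (x * x) = k * x * x := by rw [mul_assoc]
        _ = k * x * x * (c * c) := by rw [hd.sq, mul_one]
        _ = (k * x * c) * x * c := by rw [mul_assoc (k * x) c x, hd.cen x]; simp only [mul_assoc]
        _ = x * k * x * c := by rw [← h1]
        _ = x * (k * x * c) := by simp only [mul_assoc]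
        _ = x * x * k := by rw [← h1, mul_assoc]
  rw [← map_mul, ← map_mul, h _ h1, map_mul]

/-- an involution commuting with the centraliser of `k` -/
theorem cent_of [Finite L] (hd : Dbl π c) {k l : L} (hk2 : π k * π k = 1) (hk1 : π k ≠ 1)
    (h : ∀ x, k * x = x * k → l * x = x * l) : π l = 1 ∨ π l = π k := by
  have hconj : ∀ g : L, (∀ x, (g⁻¹ * k * g) * x = x * (g⁻¹ * k * g) → (g⁻¹ * l * g) * x = x * (g⁻¹ * l * g)) := by
    intro g x hx
    have h1 := h (g * x * g⁻¹) (by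
      calc k * (g * x * g⁻¹) = g * ((g⁻¹ * k * g) * x) * g⁻¹ := by group
        _ = g * (x * (g⁻¹ * k * g)) * g⁻¹ := by rw [hx]
        _ = _ := by group)
    calc (g⁻¹ * l * g) * x = g⁻¹ * (l * (g * x * g⁻¹)) * g := by group
      _ = g⁻¹ * ((g * x * g⁻¹) * l) * g := by rw [h1]
      _ = _ := by group
  have hback : ∀ g : L, (π (g⁻¹ * l * g) = 1 ∨ π (g⁻¹ * l * g) = π (g⁻¹ * k * g)) → π l = 1 ∨ π l = π k := by
    intro g hg
    rcases hg with hg | hg
    · left
      rw [map_mul, map_mul, map_inv] at hg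
      calc π l = π g * ((π g)⁻¹ * π l * π g) * (π g)⁻¹ := by group
        _ = 1 := by rw [hg]; group
    · right
      rw [map_mul, map_mul, map_inv, map_mul, map_mul, map_inv] at hg
      exact mul_left_cancel (mul_right_cancel hg)
  rcases Cfsg.Agent.OddHalf.Table.RuInv.isConj_or hk2 hk1 with h1 | h1
  · obtain ⟨g, hg⟩ := isConj_iff.1 h1
    obtain ⟨g, rfl⟩ := hd.surj g
    have hk' : π (g⁻¹ * k * g) = RuSyl.g 13 := by rw [map_mul, map_mul, map_inv, ← hg]; group
    apply hback g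
    rw [hk']
    apply Cfsg.Agent.OddHalf.Table.RuInvCent.cent_sq_a
    intro x hx
    exact pi_comm hd (hconj g) x (by rw [hk', hx])
  · obtain ⟨g, hg⟩ := isConj_iff.1 h1
    obtain ⟨g, rfl⟩ := hd.surj g
    have hk' : π (g⁻¹ * k * g) = RuSyl.g 0 := by rw [map_mul, map_mul, map_inv, ← hg]; group
    apply hback g
    have h2 := hconj g
    generalize g⁻¹ * k * g = k' at hk' h2
    generalize g⁻¹ * l * g = l' at h2
    rw [hk']
    obtain ⟨v, v1, v2, v3, v4⟩ := Cfsg.Agent.OddHalf.Table.RuInvCent.exists_four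
    have hcomm : l' * k' = k' * l' := h2 k' rfl
    have h0 : IsConj (RuSyl.g 0) (π k') := by rw [hk']
    have hgg := sq_g (i := 0) (by norm_num)
    have hcc : ⁅k', l'⁆ = 1 := commutatorElement_eq_one_iff_mul_comm.2 hcomm.symm
    rcases v4 (π l') (fun x hx => pi_comm hd h2 x (by rw [hk', hx])) with h3 | h3 | h3 | h3
    · exact Or.inl h3
    · exact Or.inr h3
    · exact absurd ((comm_ne hd h0 (by rw [h3]; exact v2) (by rw [map_mul, hk', h3]; exact v3)).symm.trans hcc) hd.ne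
    · exact absurd ((comm_ne hd h0 (by rw [h3]; exact v3) (by
        rw [map_mul, hk', h3, ← mul_assoc, hgg, one_mul]; exact v2)).symm.trans hcc) hd.ne

/-- **(P1)** -/
theorem pairFree [Finite L] (hd : Dbl π c) (hZ : ∀ x ∈ center L, x = 1 ∨ x = c) : PairFree L := by
  intro α β hαα hββ hαβ hα1 hβ1 hne h1 h2
  obtain ⟨k, rfl⟩ := inner hd hZ α
  obtain ⟨l, rfl⟩ := inner hd hZ β
  obtain ⟨h3, h4⟩ := bar_invol hd hZ hαα hα1
  rcases cent_of hd h3 h4 (fun x hx => by
      have h5 : l * x * l⁻¹ = x := h1 x (by show k * x * k⁻¹ = x; rw [hx]; group)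
      exact mul_inv_eq_iff_eq_mul.1 h5) with h | h
  · exact (bar_invol hd hZ hββ hβ1).2 h
  · apply hne
    rw [inner_of_bar hd (MulAut.conj k) l fun x => by
      show π (k * x * k⁻¹) = _
      rw [map_mul, map_mul, map_inv, h]]

theorem g13_ne : RuSyl.g 13 ≠ 1 := fun h =>
  Cfsg.Agent.OddHalf.Table.RuInv.g_notMem (k := 13) (by norm_num) (h ▸ one_mem _)

theorem diff_eq {i k : ℕ} (h : eqw (gwd k ++ (gwd i ++ gwd 13)) (gwd i ++ gwd k) = true) :
    (g i * (g k)⁻¹ * (g i)⁻¹) * g k = g i * (g 13)⁻¹ * (g i)⁻¹ := by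
  have h1 := eqw_sound h
  rw [W_append, W_append, W_append] at h1
  have h2 : g k * (g i * g 13) = g i * g k := h1
  have h3 : g i * g 13 = (g k)⁻¹ * (g i * g k) := by rw [← h2]; group
  calc (g i * (g k)⁻¹ * (g i)⁻¹) * g k = g i * ((g k)⁻¹ * (g i * g k))⁻¹ := by group
    _ = g i * (g i * g 13)⁻¹ := by rw [h3]
    _ = _ := by group

/-- **(P2)** -/
theorem sqDiff [Finite L] (hd : Dbl π c) (hZ : ∀ x ∈ center L, x = 1 ∨ x = c) : SqDiff L := by
  intro α hαα hα1
  obtain ⟨k, rfl⟩ := inner hd hZ α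
  obtain ⟨h3, h4⟩ := bar_invol hd hZ hαα hα1
  have key : ∀ y : L, IsConj (g 13) (π y) → y ∉ center L ∧ y * y = 1 := by
    intro y hy
    refine ⟨fun h => ?_, goodA hd hy⟩
    have h1 : π y = 1 := (hd.ker y).2 (hZ y h)
    rw [h1] at hy
    exact g13_ne (isConj_one_left.1 hy)
  have hinv : (g 13)⁻¹ = g 13 :=
    inv_eq_of_mul_eq_one_left Cfsg.Agent.OddHalf.Table.RuInvCent.za_sq
  have main : ∀ i j : ℕ, eqw (gwd j ++ (gwd i ++ gwd 13)) (gwd i ++ gwd j) = true → IsConj (g i) (π k) →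
      ∃ x : L, (MulAut.conj k x)⁻¹ * x ∉ center L ∧ ((MulAut.conj k x)⁻¹ * x) * ((MulAut.conj k x)⁻¹ * x) = 1 := by
    intro i j h hc
    obtain ⟨m, hm⟩ := isConj_iff.1 hc
    obtain ⟨m, rfl⟩ := hd.surj m
    obtain ⟨z, hz⟩ := hd.surj (g j)
    refine ⟨m * z * m⁻¹, key _ ?_⟩
    have h5 : π ((MulAut.conj k (m * z * m⁻¹))⁻¹ * (m * z * m⁻¹)) = π m * (g i * (g 13)⁻¹ * (g i)⁻¹) * (π m)⁻¹ := by
      rw [← diff_eq h]
      show π ((k * (m * z * m⁻¹) * k⁻¹)⁻¹ * (m * z * m⁻¹)) = _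
      simp only [map_mul, map_inv]
      rw [← hm, hz]
      group
    rw [h5, hinv]
    exact isConj_iff.2 ⟨π m * g i, by group⟩
  rcases Cfsg.Agent.OddHalf.Table.RuInv.isConj_or h3 h4 with h | h
  · refine main 2 12 chkZ2 (IsConj.trans ?_ h)
    have := conjA' [2] (by decide)
    rw [W_ex, List.map_cons, List.map_nil, List.prod_cons, List.prod_nil, mul_one] at this
    exact this.symm
  · exact main 0 5 chkZ0 h

/-- **(P1) and (P2) for `2.Ru`.** -/
theorem main {L : Type u} [Group L] [Finite L] (hp : commutator L = ⊤) (h2 : Nat.card ↥(center L) = 2)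
    (e : L ⧸ center L ≃* Cfsg.Spor.Ru) : PairFree L ∧ SqDiff L := by
  obtain ⟨c, hc1, -⟩ := (Nat.card_eq_two_iff' (1 : center L)).1 h2
  have hc1' : (c : L) ≠ 1 := fun h => hc1 (Subtype.ext h)
  have hZ : ∀ x ∈ center L, x = 1 ∨ x = (c : L) := fun x hx =>
    (Cfsg.Agent.OddHalf.D9.J2.Row.mem_center_iff_of_card h2 c.2 hc1' x).1 hx
  let f : L ⧸ center L ≃* RuOrder.H := e.trans Cfsg.Agent.RuLat.Main.equiv
  have hd : Dbl (f.toMonoidHom.comp (QuotientGroup.mk' (center L))) (c : L) := by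
    refine ⟨⟨hc1', ?_, ?_, hp⟩, f.surjective.comp (QuotientGroup.mk'_surjective _), ?_⟩
    · rcases hZ _ (mul_mem c.2 c.2) with h | h
      · exact h
      · exact absurd (mul_eq_left.1 h) hc1'
    · intro x
      exact (mem_center_iff.1 c.2 x).symm
    · intro x
      constructor
      · intro hx
        have h3 : f (QuotientGroup.mk' (center L) x) = 1 := hx
        rw [map_eq_one_iff f f.injective] at h3
        exact hZ x ((QuotientGroup.eq_one_iff x).1 h3)
      · intro hx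
        have h3 : x ∈ center L := by
          rcases hx with rfl | rfl
          · exact one_mem _
          · exact c.2
        show f (QuotientGroup.mk' (center L) x) = 1
        rw [map_eq_one_iff f f.injective]
        exact (QuotientGroup.eq_one_iff x).2 h3
  exact ⟨pairFree hd hZ, sqDiff hd hZ⟩

end Cfsg.Agent.KFacts.RuDbl.Pairs

end

-- merged: Cfsg.Agent.OddHalf.D4.Final.Cov
section

/-!
# ODD half, D4: the rows with `Z(K) ≠ 1` (helper228, integrator)

`rowsCov`: the structure `D4.Cut.RowsCov` from S0205 (`KillAnyRow.FT`) and the reduction of the theorem on TI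
subgroups (`Core.MainTI`).
-/

set_option autoImplicit false

namespace Cfsg.Agent.OddHalf.D4.Final.Cov

open Subgroup Cfsg Cfsg.Agent.OddHalf.Iface Cfsg.Agent.OddHalf.D4 Cfsg.Agent.OddHalf.D9.Cut
  Cfsg.Agent.OddHalf.D4.EvenCyc

universe u

/-- a row from (P1) and (P2), cyclic centre -/
theorem row_cyc {P : (K : Type u) → [Group K] → Prop}
    (h : ∀ (K : Type u) [Group K] [Finite K], commutator K = ⊤ → P K →
      IsCyclic ↥(center K) ∧ center K ≠ ⊥ ∧ PairFree K ∧ SqDiff K) : Cut.Row0.{u} P := by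
  intro G _ C K S hr hP
  have := C.fin
  obtain ⟨h1, h2, h3, h4⟩ := h ↥K S.std.1.1.commutator_eq_top hP
  exact hr (EvenCyc.row C S h1 h2 h3 h4)

theorem cyc_of_two {K : Type u} [Group K] (h : Nat.card ↥(center K) = 2) :
    IsCyclic ↥(center K) ∧ center K ≠ ⊥ := by
  have : Fact (Nat.Prime 2) := ⟨Nat.prime_two⟩
  refine ⟨isCyclic_of_prime_card h, ?_⟩
  intro h1
  rw [h1, card_bot] at h
  omega

/-- a row from (P1) and (P2), centre of order 2 -/
theorem row_two {P : (X : Type u) → [Group X] → Prop}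
    (h : ∀ (K : Type u) [Group K] [Finite K], commutator K = ⊤ → Nat.card ↥(center K) = 2 → P (K ⧸ center K) →
      PairFree K ∧ SqDiff K) : Cut.Row0.{u} (fun K _ => Two P K) :=
  row_cyc fun K _ _ hK hP => ⟨(cyc_of_two hP.1).1, (cyc_of_two hP.1).2, h K hK hP.1 hP.2⟩

/-- `Ω₈⁺(2)` has no tied pair of involutions -/
theorem not_tied_o82 {X : Type u} [Group X] (h : XO82 X) : ¬ D9.Gamma.Tied X := by
  obtain ⟨F, i1, i2, hF, ⟨e⟩⟩ := h
  exact fun hX => D9.GamO8.not_tied hF (hX.of_equiv e)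

/-- `²E₆(2)` has no tied pair of involutions -/
theorem not_tied_2e62 {X : Type u} [Group X] (h : X2E62 X) : ¬ D9.Gamma.Tied X := by
  obtain ⟨F, i1, i2, hF, ⟨e⟩⟩ := h
  exact fun hX => D9.GamE6Inst.not_tied hF (hX.of_equiv e)

/-- **`2².Ω₈⁺(2)`** -/
theorem v_o82 (T : D9.RankTwo.Core.MainTI.{u}) : Cut.Row0.{u} (fun K _ => Cut.Vier (fun X _ => XO82 X) K) :=
  (D9.RankTwo.RowsD4.v_row T D9.RankTwo.RowsFull.rows (fun _ _ h => not_tied_o82 h)
    (fun _ _ _ hp h4 hX => KFacts.Mult.OEightInner.center_inner hp h4 hX)).row0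

/-- **`2².²E₆(2)`** -/
theorem v_2e62 (T : D9.RankTwo.Core.MainTI.{u}) : Cut.Row0.{u} (fun K _ => Cut.Vier (fun X _ => X2E62 X) K) :=
  (D9.RankTwo.RowsD4.v_row T D9.RankTwo.RowsFull.rows (fun _ _ h => not_tied_2e62 h)
    (fun _ _ _ hp h4 hX => KFacts.Mult.TwESixInner.center_inner hp h4 hX)).row0

/-- **The rows with `Z(K) ≠ 1`.** -/
theorem rowsCov (ft : D9.KillAnyRow.FT.{u}) (T : D9.RankTwo.Core.MainTI.{u}) : Cut.RowsCov.{u} where
  l34 := Cov.L34.row
  o82 := row_two fun K _ _ hK h2 hX => by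
    obtain ⟨e⟩ := D9.EEight.RowFinal.ident K inferInstance hK h2 hX
    exact ⟨EvenEEight.pairFree e D9.EEight.RowFinal.autConj, EvenEEight.sqDiff e D9.EEight.RowFinal.autConj⟩
  g24 := fun G _ C K S _ h => D9.G24.Final.g24_any ft G C K S h
  f42 := row_two fun K _ _ hK h2 hX => EvenF42.main hK hX (cyc_of_two h2).2
  sz8 := EvenSzRow.sz8
  m12 := D9.TwoM12.d4_row
  j2 := row_two fun K _ _ hK h2 hX => D9.J2.PFacts.main hK h2 hX
  suz := Spor.TwoSuz.suz
  ru := row_two fun _ _ _ hK h2 hX => by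
    obtain ⟨e⟩ := hX
    exact KFacts.RuDbl.Pairs.main hK h2 e
  co1 := row_two fun K _ _ hK h2 hX => ⟨Spor.TwoCo1.pairFree hK h2 hX, Spor.TwoCo1.sqDiff hK h2 hX⟩
  m22 := row_two fun K _ _ hK _ hX => ⟨M22.Main.pairFree hK hX, M22.Main.sqDiff hK hX⟩
  m22four := row_cyc fun K _ _ hK hP => by
    obtain ⟨h4, hc, hX⟩ := hP
    refine ⟨hc, ?_, M22.Main.pairFree hK hX, M22.Main.sqDiff hK hX⟩
    intro h
    rw [h, card_bot] at h4
    omega
  v_u62 := (D9.RankTwo.RowsU.v_u62 T D9.RankTwo.RowsFull.rows).row0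
  v_o82 := v_o82 T
  v_2e62 := v_2e62 T
  v_sz8 := (D9.RankTwo.RowsD4.v_sz8 T D9.RankTwo.RowsFull.rows).row0
  non_l34 := D9.RankTwo.RowsD4.non_l34 T D9.RankTwo.RowsFull.rows

end Cfsg.Agent.OddHalf.D4.Final.Cov

end

private theorem dce_407c2ef35e0b : _root_.True := by
  try have : _root_.True := by simp only [_root_.Cfsg.Agent.OddHalf.Table.RuInvCent.v.eq_1]
  try have : _root_.True := by simp only [_root_.Cfsg.Agent.OddHalf.Table.RuInvCent.img.eq_2]
  try have : _root_.True := by simp only [_root_.Cfsg.Agent.OddHalf.Table.RuInvCent.img.eq_def]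
  try have : _root_.True := by simp only [_root_.Cfsg.Agent.OddHalf.Table.RuInvCent.exu.eq_2]
  try have : _root_.True := by simp only [_root_.Cfsg.Agent.OddHalf.Table.RuInvCent.img.eq_1]
  try have : _root_.True := by simp only [_root_.Cfsg.Agent.OddHalf.Table.RuInvCent.zv.eq_1]
  try have : _root_.True := by simp only [_root_.Cfsg.Agent.OddHalf.Table.RuInvCent.exu.eq_1]
  try have : _root_.True := by simp only [_root_.Cfsg.Agent.OddHalf.Table.RuInvCent.exu.eq_3]
  try have : _root_.True := by simp only [_root_.Cfsg.Agent.KFacts.SuzLift.Perm.fixIn.eq_1]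
  try have : _root_.True := by simp only [_root_.Cfsg.Agent.OddHalf.Table.RuInvCent.exu.eq_def]
  exact _root_.True.intro
end

-- part: OddHalf/D7Tw/Long_mg
section
prune_inst 0x10240408221000000000026000180292000000000b000010c0040004861c4000002e2040200d00100808000000006002180080401000000000000000000000000a00008108a100200000002003180c00000000000000000000000000041000000000000
set_option linter.all false
open scoped Cfsg.Agent.FastGrp

-- part: OddHalf/D7Tw/Long
section
-- merged: Cfsg.Agent.OddHalf.D7Tw.WabY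
section

/-!
# The doubled root groups are abelian, `q > 2`: general form (helper622; copy of helper657's `D7Ex.Wab`)

`PreWY` : `D7Ex.PreW` with the centraliser hypothesis `K2` for a family `Y r s` of subsets of `C(W r) ∩ C(W s)` (twisted
types: `Φ` = the long roots, `Y r s` contains the short root groups). The proofs from (C) on are those of `PreW`.
-/

set_option autoImplicit false
set_option linter.unusedSectionVars false

namespace Cfsg.Agent.OddHalf.D7Tw

open Subgroup Cfsg.Agent.OddHalf.SL.Defs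
open Cfsg.Agent.OddHalf.D7Ex.PreW (d d_conj d_mul comm_of_d eq_t)

variable {L : Type*} [AddCommGroup L] {G : Type*} [Group G]

/-- The doubled root groups before one knows that they are abelian. -/
structure PreWY (t : G) (B : L → L → ℤ) (Φ : Set L) (X W : L → Subgroup G) (Y : L → L → Set G) : Prop where
  roots : Roots B Φ
  tt : t * t = 1
  tX : ∀ r ∈ Φ, ∀ x ∈ X r, t * x = x * t
  Xsq : ∀ r ∈ Φ, ∀ x ∈ X r, x * x = 1
  XW : ∀ r ∈ Φ, X r ≤ W r
  Wsq : ∀ r ∈ Φ, ∀ w ∈ W r, w * w ∈ X r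
  brk : ∀ r ∈ Φ, ∀ w ∈ W r, w⁻¹ * (t * w * t) ∈ X r
  cent : ∀ r ∈ Φ, ∀ w ∈ W r, t * w = w * t → w ∈ X r
  surj : ∀ r ∈ Φ, ∀ x ∈ X r, ∃ w ∈ W r, w⁻¹ * (t * w * t) = x
  WX : ∀ r ∈ Φ, ∀ a ∈ Φ, 0 ≤ B a r → ∀ w ∈ W r, ∀ x ∈ X a, w * x = x * w
  inf : ∀ r ∈ Φ, ∀ s ∈ Φ, B r s = 1 → ∀ x ∈ X r, x ∈ X s → x = 1
  neg : ∀ r ∈ Φ, ∀ s ∈ Φ, B r s = -1 → ∀ x ∈ X r, ∀ y ∈ X s, x * y * x⁻¹ * y⁻¹ ∈ X (r + s)
  sur : ∀ a ∈ Φ, ∀ b ∈ Φ, B a b = -1 → ∀ y ∈ X b, y ≠ 1 → ∀ z ∈ X (a + b), ∃ x ∈ X a, x * y * x⁻¹ * y⁻¹ = z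
  YW : ∀ r ∈ Φ, ∀ s ∈ Φ, B r s = 1 → ∀ c ∈ Y r s, (∀ w ∈ W r, w * c = c * w) ∧ (∀ w ∈ W s, w * c = c * w)
  Yd : ∀ r ∈ Φ, ∀ s ∈ Φ, B r s = 1 → ∀ c ∈ Y r s, ∀ g ∈ X (r - s), ∀ w ∈ W s,
    w * (g⁻¹ * c * g) = (g⁻¹ * c * g) * w
  K2 : ∀ r ∈ Φ, ∀ s ∈ Φ, B r s = 1 → ∀ c, c * t = t * c → (∀ k ∈ Y r s, c * k = k * c) →
    ∃ x ∈ X r, ∃ y ∈ X s, c = x * y ∨ c = t * (x * y)
  /-- the swap -/
  swap : ∀ r ∈ Φ, ∀ s ∈ Φ, B r s = 1 → ∀ x ∈ X r, ∀ y ∈ X s, x ≠ 1 → y ≠ 1 → ∃ n : G, n * t = t * n ∧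
    n * x * n⁻¹ = y ∧ n * y * n⁻¹ = x ∧ (∀ w ∈ W r, n * w * n⁻¹ ∈ W s) ∧ (∀ w ∈ W s, n * w * n⁻¹ ∈ W r)
  three : ∀ r ∈ Φ, ∀ x ∈ X r, ∃ y ∈ X r, y ≠ 1 ∧ y ≠ x

namespace PreWY

variable {t : G} {B : L → L → ℤ} {Φ : Set L} {X W : L → Subgroup G} {Y : L → L → Set G}

theorem d_eq_one (h : PreWY t B Φ X W Y) {r : L} (hr : r ∈ Φ) {w : G} (hw : w ∈ W r) (hd : d t w = 1) : w ∈ X r :=
  h.cent r hr w hw (eq_t h.tt hd)

theorem inv_X (h : PreWY t B Φ X W Y) {r : L} (hr : r ∈ Φ) {x : G} (hx : x ∈ X r) : x⁻¹ = x :=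
  inv_eq_of_mul_eq_one_left (h.Xsq r hr x hx)

/-- (B) -/
theorem stepB (h : PreWY t B Φ X W Y) {r s : L} (hr : r ∈ Φ) (hs : s ∈ Φ) (hrs : B r s = 1) {g u w : G}
    (hg : g ∈ X (r - s)) (hu : u ∈ W s) (hw : w ∈ W r) (hd : d t w = g * d t u * g⁻¹ * (d t u)⁻¹) :
    ∃ x ∈ X r, ∃ y ∈ X s, g * u * g⁻¹ = x * y * (u * w) ∨ g * u * g⁻¹ = t * (x * y) * (u * w) := by
  have R := h.roots
  have ha : r - s ∈ Φ := R.sub_mem hr hs hrs
  have hsr : B s r = 1 := by rw [R.symm]; exact hrs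
  have hgt : g * t = t * g := (h.tX _ ha g hg).symm
  have hdu : d t u ∈ X s := h.brk s hs u hu
  have hduw : d t u * w = w * d t u := (h.WX r hr s hs (by rw [hsr]; norm_num) w hw _ hdu).symm
  have hd1 : d t (g * u * g⁻¹) = d t (u * w) := by
    rw [d_conj hgt, d_mul h.tt hduw, hd]
    have h1 : d t u * (g * d t u * g⁻¹ * (d t u)⁻¹) = (g * d t u * g⁻¹ * (d t u)⁻¹) * d t u := by
      rw [← hd]
      exact h.WX r hr s hs (by rw [hsr]; norm_num) _ (by
        have := h.brk r hr w hw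
        exact h.XW r hr this) _ hdu |>.symm
    rw [h1]; group
  have hc1 := comm_of_d h.tt hd1
  obtain ⟨x, hx, y, hy, e⟩ := h.K2 r hr s hs hrs _ hc1 (by
    intro x hx
    -- `u w` commutes with `x`
    have c1 : u * x = x * u := (h.YW r hr s hs hrs x hx).2 u hu
    have c2 : w * x = x * w := (h.YW r hr s hs hrs x hx).1 w hw
    -- `g u g⁻¹` commutes with `x`
    have c3 : (g * u * g⁻¹) * x = x * (g * u * g⁻¹) := by
      have c4 : u * (g⁻¹ * x * g) = (g⁻¹ * x * g) * u := h.Yd r hr s hs hrs x hx g hg u hu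
      calc g * u * g⁻¹ * x = g * (u * (g⁻¹ * x * g)) * g⁻¹ := by group
        _ = g * ((g⁻¹ * x * g) * u) * g⁻¹ := by rw [c4]
        _ = _ := by group
    have c5 : (u * w)⁻¹ * x = x * (u * w)⁻¹ := by
      have : (u * w) * x = x * (u * w) := by rw [mul_assoc, c2, ← mul_assoc, c1, mul_assoc]
      rw [inv_mul_eq_iff_eq_mul, ← mul_assoc, this, mul_inv_cancel_right]
    rw [mul_assoc, c5, ← mul_assoc, c3, mul_assoc])
  refine ⟨x, hx, y, hy, ?_⟩
  rcases e with e | e
  · left; rw [← e]; group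
  · right; rw [← e]; group

/-- (C) -/
theorem stepC_aux (h : PreWY t B Φ X W Y) {r s : L} (hr : r ∈ Φ) (hs : s ∈ Φ) (hrs : B r s = 1) {u w : G}
    (hu : u ∈ W s) (hw : w ∈ W r) {g x y : G} (hg : g ∈ X (r - s)) (hx : x ∈ X r) (hy : y ∈ X s) :
    (g * u * g⁻¹ = x * y * (u * w) → w * u * w⁻¹ * u⁻¹ ∈ X r) ∧
    (g * u * g⁻¹ = t * (x * y) * (u * w) → ∃ x ∈ X r, w * u * w⁻¹ * u⁻¹ = x * d t u) := by
  have R := h.roots
  have ha : r - s ∈ Φ := R.sub_mem hr hs hrs
  have hsr : B s r = 1 := by rw [R.symm]; exact hrs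
  have h1 : B (r - s) s = -1 := by rw [R.sub_left, hrs, R.two s hs]; norm_num
  have hduX : d t u ∈ X s := h.brk s hs u hu
  have hdwX : d t w ∈ X r := h.brk r hr w hw
  -- commuting facts
  have hXrXs : ∀ x ∈ X r, ∀ y ∈ X s, x * y = y * x := fun x hx y hy =>
    h.WX r hr s hs (by rw [hsr]; norm_num) x (h.XW r hr hx) y hy
  have cu : ∀ x ∈ X r, u * x = x * u := fun x hx => h.WX s hs r hr (by rw [hrs]; norm_num) u hu x hx
  have cu' : ∀ x ∈ X s, u * x = x * u := fun x hx => h.WX s hs s hs (by rw [R.two s hs]; norm_num) u hu x hx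
  have cw : ∀ x ∈ X r, w * x = x * w := fun x hx => h.WX r hr r hr (by rw [R.two r hr]; norm_num) w hw x hx
  have cw' : ∀ x ∈ X s, w * x = x * w := fun x hx => h.WX r hr s hs (by rw [hsr]; norm_num) w hw x hx
  have hu2 := h.Wsq s hs u hu
  have hw2 := h.Wsq r hr w hw
  -- `g u² g⁻¹ = z u²`, `z ∈ X r`
  have hz := h.neg _ ha s hs h1 g hg (u * u) hu2
  rw [sub_add_cancel] at hz
  obtain ⟨z, hzd⟩ : ∃ z, z = g * (u * u) * g⁻¹ * (u * u)⁻¹ := ⟨_, rfl⟩
  rw [← hzd] at hz
  have hsq : (g * u * g⁻¹) * (g * u * g⁻¹) = z * (u * u) := by rw [hzd]; group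
  have hxx := h.Xsq r hr x hx
  have hyy := h.Xsq s hs y hy
  -- the square of `x y u w`
  have hq : (x * y * (u * w)) * (x * y * (u * w)) = (u * w) * (u * w) := by
    have c1 : (u * w) * x = x * (u * w) := by rw [mul_assoc, cw x hx, ← mul_assoc, cu x hx, mul_assoc]
    have c2 : (u * w) * y = y * (u * w) := by rw [mul_assoc, cw' y hy, ← mul_assoc, cu' y hy, mul_assoc]
    calc (x * y * (u * w)) * (x * y * (u * w)) = x * y * ((u * w) * x) * y * (u * w) := by group
      _ = x * (y * x) * ((u * w) * y) * (u * w) := by rw [c1]; group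
      _ = x * (x * y) * (y * (u * w)) * (u * w) := by rw [c2, hXrXs x hx y hy]
      _ = (x * x) * (y * y) * ((u * w) * (u * w)) := by group
      _ = _ := by rw [hxx, hyy, one_mul, one_mul]
  have hw2' : (w * w)⁻¹ ∈ X r := inv_mem hw2
  -- from `(u w)² = k u²`, `k` commuting with `u`, `w`: `[w, u] = k (w w)⁻¹`
  have key : ∀ k : G, k * u = u * k → (u * w) * (u * w) = k * (u * u) →
      w * u * w⁻¹ * u⁻¹ = k * (w * w)⁻¹ := by
    intro k hk e
    have e1 : w * u = k * u * w⁻¹ := by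
      have e2 : u * (w * u) = u * (k * u * w⁻¹) := by
        calc u * (w * u) = (u * w) * (u * w) * w⁻¹ := by group
          _ = (k * u) * u * w⁻¹ := by rw [e]; group
          _ = (u * k) * u * w⁻¹ := by rw [hk]
          _ = u * (k * u * w⁻¹) := by group
      exact mul_left_cancel e2
    calc w * u * w⁻¹ * u⁻¹ = k * (u * (w * w)⁻¹) * u⁻¹ := by rw [e1]; group
      _ = k * (w * w)⁻¹ := by rw [cu _ hw2']; group
  refine ⟨fun hB => ?_, fun hB => ?_⟩
  · rw [hB, hq] at hsq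
    rw [key z (cu z hz).symm hsq]
    exact mul_mem hz hw2'
  · have tinv : t⁻¹ = t := inv_eq_of_mul_eq_one_left h.tt
    -- `(t x y u w)² = (t (x y u w) t) (x y u w)`
    have htx : t * x = x * t := h.tX r hr x hx
    have hty : t * y = y * t := h.tX s hs y hy
    have htu : t * u * t = u * d t u := by unfold d; group
    have htw : t * w * t = w * d t w := by unfold d; group
    have hq2 : (t * (x * y) * (u * w)) * (t * (x * y) * (u * w)) =
        (d t u * d t w) * ((x * y * (u * w)) * (x * y * (u * w))) := by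
      have e1 : t * (x * y) = (x * y) * t := by rw [← mul_assoc, htx, mul_assoc, hty, ← mul_assoc]
      have e2 : (t * (x * y) * (u * w)) * t = x * y * ((t * u * t) * (t * w * t)) := by
        calc (t * (x * y) * (u * w)) * t = x * y * (t * u * 1 * w * t) := by rw [e1]; group
          _ = x * y * (t * u * (t * t) * w * t) := by rw [h.tt]
          _ = _ := by group
      have e3 : (t * u * t) * (t * w * t) = (d t u * d t w) * (u * w) := by
        rw [htu, htw]
        calc u * d t u * (w * d t w) = (u * d t u) * (d t w * w) := by rw [cw _ hdwX]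
          _ = (d t u * u) * (d t w * w) := by rw [cu' _ hduX]
          _ = d t u * (u * d t w) * w := by group
          _ = _ := by rw [cu _ hdwX]; group
      have e4 : x * y * (d t u * d t w) = (d t u * d t w) * (x * y) := by
        have c1 : x * d t u = d t u * x := hXrXs x hx _ hduX
        have c2 : x * d t w = d t w * x :=
          h.WX r hr r hr (by rw [R.two r hr]; norm_num) x (h.XW r hr hx) _ hdwX
        have c3 : y * d t u = d t u * y :=
          h.WX s hs s hs (by rw [R.two s hs]; norm_num) y (h.XW s hs hy) _ hduX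
        have c4 : y * d t w = d t w * y := (hXrXs _ hdwX y hy).symm
        calc x * y * (d t u * d t w) = x * (y * d t u) * d t w := by group
          _ = (x * d t u) * (y * d t w) := by rw [c3]; group
          _ = d t u * (x * d t w) * y := by rw [c1, c4]; group
          _ = _ := by rw [c2]; group
      calc (t * (x * y) * (u * w)) * (t * (x * y) * (u * w)) =
          ((t * (x * y) * (u * w)) * t) * ((x * y) * (u * w)) := by group
        _ = x * y * ((d t u * d t w) * (u * w)) * ((x * y) * (u * w)) := by rw [e2, e3]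
        _ = (x * y * (d t u * d t w)) * (u * w) * ((x * y) * (u * w)) := by group
        _ = _ := by rw [e4]; group
    rw [hB, hq2, hq] at hsq
    -- `(u w)² = (d u d w)⁻¹ z u²`
    have hzk : (d t u * d t w)⁻¹ * z * u = u * ((d t u * d t w)⁻¹ * z) := by
      have c1 : u * (d t u * d t w)⁻¹ = (d t u * d t w)⁻¹ * u := by
        rw [mul_inv_rev, ← mul_assoc, cu _ (inv_mem hdwX), mul_assoc, cu' _ (inv_mem hduX), mul_assoc]
      rw [← mul_assoc, c1, mul_assoc, ← cu z hz, mul_assoc]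
    have hsq' : (u * w) * (u * w) = (d t u * d t w)⁻¹ * z * (u * u) := by
      rw [mul_assoc _ z, ← hsq]; group
    refine ⟨d t w * z * (w * w)⁻¹, mul_mem (mul_mem hdwX hz) hw2', ?_⟩
    rw [key _ hzk hsq', mul_inv_rev, h.inv_X hr hdwX, h.inv_X hs hduX]
    have c5 := hXrXs _ (mul_mem hz hw2') _ hduX
    calc d t w * d t u * z * (w * w)⁻¹ = d t w * (d t u * (z * (w * w)⁻¹)) := by group
      _ = d t w * ((z * (w * w)⁻¹) * d t u) := by rw [c5]
      _ = _ := by group

/-- (C) -/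
theorem stepC (h : PreWY t B Φ X W Y) {r s : L} (hr : r ∈ Φ) (hs : s ∈ Φ) (hrs : B r s = 1) {u w : G}
    (hu : u ∈ W s) (hw : w ∈ W r) (hdu : d t u ≠ 1) :
    w * u * w⁻¹ * u⁻¹ ∈ X r ∨ ∃ x ∈ X r, w * u * w⁻¹ * u⁻¹ = x * d t u := by
  have R := h.roots
  have ha : r - s ∈ Φ := R.sub_mem hr hs hrs
  have h1 : B (r - s) s = -1 := by rw [R.sub_left, hrs, R.two s hs]; norm_num
  have hduX : d t u ∈ X s := h.brk s hs u hu
  have hdwX : d t w ∈ X r := h.brk r hr w hw
  obtain ⟨g, hg, e⟩ := h.sur _ ha s hs h1 (d t u) hduX hdu (d t w) (by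
    rw [sub_add_cancel]; exact hdwX)
  obtain ⟨x, hx, y, hy, hB⟩ := h.stepB hr hs hrs hg hu hw e.symm
  have h2 := h.stepC_aux hr hs hrs hu hw hg hx hy
  rcases hB with hB | hB
  · exact Or.inl (h2.1 hB)
  · exact Or.inr (h2.2 hB)

/-- `[W r, W s] = 1` -/
theorem comm60 (h : PreWY t B Φ X W Y) {r s : L} (hr : r ∈ Φ) (hs : s ∈ Φ) (hrs : B r s = 1) {u w : G}
    (hu : u ∈ W s) (hw : w ∈ W r) : w * u = u * w := by
  have R := h.roots
  have hsr : B s r = 1 := by rw [R.symm]; exact hrs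
  have hXrXs : ∀ x ∈ X r, ∀ y ∈ X s, x * y = y * x := fun x hx y hy =>
    h.WX r hr s hs (by rw [hsr]; norm_num) x (h.XW r hr hx) y hy
  -- the possible values
  have val : ∀ u ∈ W s, ∀ w ∈ W r, d t u ≠ 1 → d t w ≠ 1 →
      w * u * w⁻¹ * u⁻¹ = 1 ∨ w * u * w⁻¹ * u⁻¹ = d t w * d t u := by
    intro u hu w hw hdu hdw
    have hduX : d t u ∈ X s := h.brk s hs u hu
    have hdwX : d t w ∈ X r := h.brk r hr w hw
    have c1 := h.stepC hr hs hrs hu hw hdu
    have c2 := h.stepC hs hr hsr hw hu hdw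
    have e0 : u * w * u⁻¹ * w⁻¹ = (w * u * w⁻¹ * u⁻¹)⁻¹ := by group
    rw [e0] at c2
    obtain ⟨c, hc⟩ : ∃ c, c = w * u * w⁻¹ * u⁻¹ := ⟨_, rfl⟩
    rw [← hc] at c1 c2 ⊢
    -- the swap
    obtain ⟨n, hnt, hn1, hn2, hnr, hns⟩ := h.swap r hr s hs hrs _ hdwX _ hduX hdw hdu
    have hcc : n * c * n⁻¹ = c⁻¹ := by
      -- `n w n⁻¹ = u y`, `n u n⁻¹ = w x`
      have d1 : d t (n * w * n⁻¹) = d t u := by rw [d_conj hnt]; exact hn1
      have d2 : d t (n * u * n⁻¹) = d t w := by rw [d_conj hnt]; exact hn2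
      have hy : (n * w * n⁻¹) * u⁻¹ ∈ X s :=
        h.cent s hs _ (mul_mem (hnr w hw) (inv_mem hu)) (comm_of_d h.tt d1).symm
      have hx : (n * u * n⁻¹) * w⁻¹ ∈ X r :=
        h.cent r hr _ (mul_mem (hns u hu) (inv_mem hw)) (comm_of_d h.tt d2).symm
      obtain ⟨y, hy'⟩ : ∃ y, y = (n * w * n⁻¹) * u⁻¹ := ⟨_, rfl⟩
      obtain ⟨x, hx'⟩ : ∃ x, x = (n * u * n⁻¹) * w⁻¹ := ⟨_, rfl⟩
      rw [← hy'] at hy
      rw [← hx'] at hx
      have ew : n * w * n⁻¹ = y * u := by rw [hy']; group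
      have eu : n * u * n⁻¹ = x * w := by rw [hx']; group
      have cux : u * x = x * u := h.WX s hs r hr (by rw [hrs]; norm_num) u hu x hx
      have cwx : w * x = x * w := h.WX r hr r hr (by rw [R.two r hr]; norm_num) w hw x hx
      have cwy : w * y = y * w := h.WX r hr s hs (by rw [hsr]; norm_num) w hw y hy
      have cuy : u * y = y * u := h.WX s hs s hs (by rw [R.two s hs]; norm_num) u hu y hy
      have cxy : x * y = y * x := hXrXs x hx y hy
      calc n * c * n⁻¹ = (n * w * n⁻¹) * (n * u * n⁻¹) * (n * w * n⁻¹)⁻¹ * (n * u * n⁻¹)⁻¹ := by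
            rw [hc]; group
        _ = (y * u) * (x * w) * (y * u)⁻¹ * (x * w)⁻¹ := by rw [ew, eu]
        _ = y * (u * x) * w * (u⁻¹ * y⁻¹) * (x * w)⁻¹ := by group
        _ = y * x * u * w * u⁻¹ * y⁻¹ * (x * w)⁻¹ := by rw [cux]; group
        _ = (x * y) * u * w * u⁻¹ * y⁻¹ * (w⁻¹ * x⁻¹) := by rw [← cxy]; group
        _ = x * (y * (u * w * u⁻¹)) * y⁻¹ * w⁻¹ * x⁻¹ := by group
        _ = x * ((u * w * u⁻¹) * y) * y⁻¹ * w⁻¹ * x⁻¹ := by
          have : y * (u * w * u⁻¹) = (u * w * u⁻¹) * y := by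
            calc y * (u * w * u⁻¹) = (y * u) * w * u⁻¹ := by group
              _ = u * (y * w) * u⁻¹ := by rw [← cuy]; group
              _ = u * w * (y * u) * u⁻¹ * u⁻¹ := by rw [← cwy]; group
              _ = u * w * (u * y) * u⁻¹ * u⁻¹ := by rw [← cuy]
              _ = u * w * u * (y * (u⁻¹ * u⁻¹)) := by group
              _ = u * w * u * ((u⁻¹ * u⁻¹) * y) := by
                rw [h.WX s hs s hs (by rw [R.two s hs]; norm_num) _ (mul_mem (inv_mem hu) (inv_mem hu)) y hy]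
              _ = _ := by group
          rw [this]
        _ = (x * (u * w * u⁻¹ * w⁻¹)) * x⁻¹ := by group
        _ = ((u * w * u⁻¹ * w⁻¹) * x) * x⁻¹ := by
          have : x * (u * w * u⁻¹ * w⁻¹) = (u * w * u⁻¹ * w⁻¹) * x := by
            have c1 : x * u = u * x := cux.symm
            have c2 : x * w = w * x := cwx.symm
            have c3 : x * u⁻¹ = u⁻¹ * x :=
              (h.WX s hs r hr (by rw [hrs]; norm_num) _ (inv_mem hu) x hx).symm
            have c4 : x * w⁻¹ = w⁻¹ * x :=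
              (h.WX r hr r hr (by rw [R.two r hr]; norm_num) _ (inv_mem hw) x hx).symm
            calc x * (u * w * u⁻¹ * w⁻¹) = (x * u) * w * u⁻¹ * w⁻¹ := by group
              _ = u * (x * w) * u⁻¹ * w⁻¹ := by rw [c1]; group
              _ = u * w * (x * u⁻¹) * w⁻¹ := by rw [c2]; group
              _ = u * w * u⁻¹ * (x * w⁻¹) := by rw [c3]; group
              _ = _ := by rw [c4]; group
          rw [this]
        _ = c⁻¹ := by rw [hc]; group
    -- `c ∈ {1, x, y, xy}`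
    have hcr : c ∈ X r ∨ ∃ a ∈ X r, c = a * d t u := c1
    have hcs : c ∈ X s ∨ ∃ b ∈ X s, c = b * d t w := by
      rcases c2 with h2 | ⟨b, hb, e⟩
      · left; exact (inv_mem_iff).1 h2
      · right
        refine ⟨b⁻¹, inv_mem hb, ?_⟩
        have : c = (b * d t w)⁻¹ := by rw [← e, inv_inv]
        rw [this, mul_inv_rev, h.inv_X hr hdwX]
        exact hXrXs _ hdwX _ (inv_mem hb)
    have hcc' : ∀ v : G, v * v = 1 → c = v → n * v * n⁻¹ = v := by
      intro v hv e
      rw [← e, hcc, e]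
      exact inv_eq_of_mul_eq_one_left hv
    rcases hcr with h1 | ⟨a, ha, h1⟩
    · rcases hcs with h2 | ⟨b, hb, h2⟩
      · left; exact h.inf r hr s hs hrs c h1 h2
      · -- `c = d w`
        have hb1 : b = 1 := by
          apply h.inf r hr s hs hrs b _ hb
          have : b = c * (d t w)⁻¹ := by rw [h2]; group
          rw [this]; exact mul_mem h1 (inv_mem hdwX)
        rw [hb1, one_mul] at h2
        exfalso
        have h3 := hcc' _ (h.Xsq r hr _ hdwX) h2
        rw [hn1] at h3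
        exact hdu (h.inf r hr s hs hrs _ (h3 ▸ hdwX) hduX)
    · rcases hcs with h2 | ⟨b, hb, h2⟩
      · -- `c = d u`
        have ha1 : a = 1 := by
          apply h.inf r hr s hs hrs a ha
          have : a = c * (d t u)⁻¹ := by rw [h1]; group
          rw [this]; exact mul_mem h2 (inv_mem hduX)
        rw [ha1, one_mul] at h1
        exfalso
        have h3 := hcc' _ (h.Xsq s hs _ hduX) h1
        rw [hn2] at h3
        exact hdu (h.inf r hr s hs hrs _ (h3 ▸ hdwX) hduX)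
      · right
        -- `a d u = b d w`
        have h3 : (d t w)⁻¹ * a = b * (d t u)⁻¹ := by
          have h4 : a * d t u = b * d t w := h1.symm.trans h2
          have h5 : a = b * d t w * (d t u)⁻¹ := by rw [← h4]; group
          have h7 : (d t w)⁻¹ * b = b * (d t w)⁻¹ := hXrXs _ (inv_mem hdwX) _ hb
          calc (d t w)⁻¹ * a = ((d t w)⁻¹ * b) * (d t w * (d t u)⁻¹) := by rw [h5]; group
            _ = b * (d t u)⁻¹ := by rw [h7]; group
        have h4 : (d t w)⁻¹ * a = 1 := h.inf r hr s hs hrs _ (mul_mem (inv_mem hdwX) ha)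
          (h3 ▸ mul_mem hb (inv_mem hduX))
        rw [h1, ← inv_mul_eq_one.1 h4]
  by_cases hdu : d t u = 1
  · exact h.WX r hr s hs (by rw [hsr]; norm_num) w hw u (h.d_eq_one hs hu hdu)
  by_cases hdw : d t w = 1
  · exact (h.WX s hs r hr (by rw [hrs]; norm_num) u hu w (h.d_eq_one hr hw hdw)).symm
  have hduX : d t u ∈ X s := h.brk s hs u hu
  have hdwX : d t w ∈ X r := h.brk r hr w hw
  obtain ⟨y, hy, hy1, hyx⟩ := h.three r hr _ hdwX
  obtain ⟨w', hw', e'⟩ := h.surj r hr y hy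
  have e'' : d t w' = y := e'
  have cdu : ∀ v ∈ W r, v * d t u = d t u * v := fun v hv => h.WX r hr s hs (by rw [hsr]; norm_num) v hv _ hduX
  have cX : ∀ v ∈ W r, ∀ x ∈ X r, v * x = x * v := fun v hv x hx =>
    h.WX r hr r hr (by rw [R.two r hr]; norm_num) v hv x hx
  have hd2 : d t (w * w') = d t w * y := by
    rw [d_mul h.tt (cX w' hw' _ hdwX).symm, e'']
  have hd2' : d t (w * w') ≠ 1 := by
    rw [hd2]
    intro h1
    apply hyx
    have h2 : y = (d t w)⁻¹ := eq_inv_of_mul_eq_one_right h1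
    rw [h2, h.inv_X hr hdwX]
  have hy1' : d t w' ≠ 1 := by rw [e'']; exact hy1
  have v1 := val u hu w hw hdu hdw
  have v2 := val u hu w' hw' hdu hy1'
  have v3 := val u hu (w * w') (mul_mem hw hw') hdu hd2'
  have hc : w * (w' * u * w'⁻¹ * u⁻¹) = (w' * u * w'⁻¹ * u⁻¹) * w := by
    rcases v2 with h2 | h2
    · rw [h2, mul_one, one_mul]
    · rw [h2, e'', ← mul_assoc, cX w hw y hy, mul_assoc, cdu w hw, ← mul_assoc]
  have e3 : (w * w') * u * (w * w')⁻¹ * u⁻¹ = (w' * u * w'⁻¹ * u⁻¹) * (w * u * w⁻¹ * u⁻¹) := by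
    calc (w * w') * u * (w * w')⁻¹ * u⁻¹ = w * (w' * u * w'⁻¹ * u⁻¹) * (u * w⁻¹ * u⁻¹) := by group
      _ = _ := by rw [hc]; group
  rw [e3, hd2] at v3
  rw [e''] at v2
  have hdudu := h.Xsq s hs _ hduX
  have c12 : ∀ x ∈ X r, d t u * x = x * d t u := fun x hx => (hXrXs x hx _ hduX).symm
  suffices hh : w * u * w⁻¹ * u⁻¹ = 1 by
    calc w * u = (w * u * w⁻¹ * u⁻¹) * (u * w) := by group
      _ = u * w := by rw [hh, one_mul]
  rcases v1 with v1 | v1
  · exact v1
  exfalso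
  rcases v2 with v2 | v2
  · rw [v1, v2, one_mul] at v3
    rcases v3 with v3 | v3
    · -- `d w d u = 1`
      have h1 : d t w = (d t u)⁻¹ := eq_inv_of_mul_eq_one_left v3
      exact hdw (h.inf r hr s hs hrs _ hdwX (h1 ▸ inv_mem hduX))
    · have h1 := mul_right_cancel v3
      exact hy1 (left_eq_mul.1 h1)
  · rw [v1, v2] at v3
    have e4 : y * d t u * (d t w * d t u) = d t w * y := by
      calc y * d t u * (d t w * d t u) = y * (d t u * d t w) * d t u := by group
        _ = y * (d t w * d t u) * d t u := by rw [c12 _ hdwX]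
        _ = (y * d t w) * (d t u * d t u) := by group
        _ = y * d t w := by rw [hdudu, mul_one]
        _ = d t w * y := cX y (h.XW r hr hy) _ hdwX
    rw [e4] at v3
    rcases v3 with v3 | v3
    · exact hd2' (by rw [hd2]; exact v3)
    · exact hdu (left_eq_mul.1 v3)

/-- `W r` is abelian. -/
theorem ab (h : PreWY t B Φ X W Y) {r s : L} (hr : r ∈ Φ) (hs : s ∈ Φ) (hrs : B r s = 1) {v w : G}
    (hv : v ∈ W r) (hw : w ∈ W r) : v * w = w * v := by
  have R := h.roots
  have hsr : B s r = 1 := by rw [R.symm]; exact hrs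
  have ha : r - s ∈ Φ := R.sub_mem hr hs hrs
  have cX : ∀ v ∈ W r, ∀ x ∈ X r, v * x = x * v := fun v hv x hx =>
    h.WX r hr r hr (by rw [R.two r hr]; norm_num) v hv x hx
  have hdwX : d t w ∈ X r := h.brk r hr w hw
  by_cases hdw : d t w = 1
  · exact cX v hv w (h.d_eq_one hr hw hdw)
  -- `u ∈ W s` with `d u ≠ 1`
  obtain ⟨y, hy, hy1, -⟩ := h.three s hs 1 (one_mem _)
  obtain ⟨u, hu, e⟩ := h.surj s hs y hy
  have e' : d t u = y := e
  have h1 : B (r - s) s = -1 := by rw [R.sub_left, hrs, R.two s hs]; norm_num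
  obtain ⟨g, hg, e2⟩ := h.sur _ ha s hs h1 y hy hy1 (d t w) (by rw [sub_add_cancel]; exact hdwX)
  rw [← e'] at e2
  obtain ⟨x, hx, z, hz, hB⟩ := h.stepB hr hs hrs hg hu hw e2.symm
  have cg : v * g = g * v := h.WX r hr _ ha (by rw [R.sub_left, R.two r hr, hsr]; norm_num) v hv g hg
  have cu : v * u = u * v := h.comm60 hr hs hrs hu hv
  have cgi : v * g⁻¹ = g⁻¹ * v :=
    h.WX r hr _ ha (by rw [R.sub_left, R.two r hr, hsr]; norm_num) v hv _ (inv_mem hg)
  have cx : v * x = x * v := cX v hv x hx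
  have cz : v * z = z * v := h.WX r hr s hs (by rw [hsr]; norm_num) v hv z hz
  have c1 : v * (g * u * g⁻¹) = (g * u * g⁻¹) * v := by
    calc v * (g * u * g⁻¹) = (v * g) * u * g⁻¹ := by group
      _ = g * (v * u) * g⁻¹ := by rw [cg]; group
      _ = g * u * (v * g⁻¹) := by rw [cu]; group
      _ = _ := by rw [cgi]; group
  have cxz : v * (x * z) = (x * z) * v := by rw [← mul_assoc, cx, mul_assoc, cz, mul_assoc]
  rcases hB with hB | hB
  · rw [hB] at c1
    have c2 : x * z * u * (v * w) = x * z * u * (w * v) := by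
      calc x * z * u * (v * w) = x * z * (u * v) * w := by group
        _ = (x * z * v) * u * w := by rw [← cu]; group
        _ = v * (x * z * (u * w)) := by rw [← cxz]; group
        _ = x * z * (u * w) * v := c1
        _ = _ := by group
    exact mul_left_cancel c2
  · -- `τ = t` : impossible, square (B)
    exfalso
    have hcomm : w * u = u * w := h.comm60 hr hs hrs hu hw
    obtain ⟨a, ha', e3⟩ := (h.stepC_aux hr hs hrs hu hw hg hx hz).2 hB
    have e4 : w * u * w⁻¹ * u⁻¹ = 1 := by rw [hcomm]; group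
    rw [e4] at e3
    have h2 : a = (d t u)⁻¹ := eq_inv_of_mul_eq_one_left e3.symm
    have hduX : d t u ∈ X s := h.brk s hs u hu
    have h3 := h.inf r hr s hs hrs a ha' (h2 ▸ inv_mem hduX)
    apply hy1
    rw [← e']
    rw [h3, one_mul] at e3
    exact e3.symm

end PreWY

end Cfsg.Agent.OddHalf.D7Tw

end

-- merged: Cfsg.Agent.OddHalf.D7Tw.Long
section

/-!
# `²E₆(q)`: the doubled long root groups (helper622)

`R : RGD cs isCartan 2 T n X` of type `F₄` in a group `G`, `D : Facts.Dat R`, `DV : YO R t rho V`: the doubled root groups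
along the orbit of `ρ` (= the long roots = `Phi`, type `D₄`).

* `XL X x = X (c x)`, `YY cs X r s` : all `X a`, `⟨a, r⟩ ≥ 0`, `⟨a, s⟩ ≥ 0`, `a` long or short;
* `YW`, `Yd`, `Ym` : the hypotheses of `SL.General.PreY` on `YY`;
* `preWY` : `D7Tw.PreWY`, `wab` : the `V r` are abelian for `|X r| > 2`;
* `preY` : `SL.General.PreY` from `H1`, `H0`, `Hm`.
-/

set_option autoImplicit false
set_option linter.unusedSectionVars false

namespace Cfsg.Agent.OddHalf.D7Tw.Long

open CoxeterSystem Cfsg.Agent.ChevalleyStructure.CoxeterGeom Cfsg.Agent.Tits.Roots Cfsg.Agent.Tits.Core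
  Cfsg.Agent.Tits.RootComb Cfsg.Agent.Nodes.Reps Cfsg.Agent.Nodes.BNOf Cfsg.Agent.Nodes.Coroot
  Cfsg.Agent.Nodes.Bruhat Cfsg.Agent.Nodes.OppDec
  Cfsg.Agent.KFacts.RgdSL Cfsg.Agent.KFacts.RgdTI Cfsg.Agent.KFacts.RgdOdd Cfsg.Agent.KFacts.RgdEx
  Cfsg.Agent.Nodes.RGDTwE6 Cfsg.Agent.KFacts.TwESix.Comb Cfsg.Agent.KFacts.TwESix.CombRho
  Cfsg.Agent.KFacts.TwESix.Facts Cfsg.Agent.OddHalf.SL.Defs
  Cfsg.Agent.OddHalf.D7Tw Cfsg.Agent.OddHalf.D7Tw.Orbit Cfsg.Agent.OddHalf.D7Tw.DFour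
open scoped commutatorElement

variable {W G : Type*} [Group W] [Group G] {cs : CoxeterSystem CoxeterMatrix.F₄ W} {T : Subgroup G} {n : Fin 4 → G}
  {X : (Fin 4 → ℤ) → Subgroup G}

/-- the groups along the long roots -/
def XL (X : (Fin 4 → ℤ) → Subgroup G) (x : Fin 4 → ℤ) : Subgroup G := X (c x)

/-- all root groups `X a` with `⟨a, r⟩ ≥ 0`, `⟨a, s⟩ ≥ 0` -/
def YY (cs : CoxeterSystem CoxeterMatrix.F₄ W) (X : (Fin 4 → ℤ) → Subgroup G) (r s : Fin 4 → ℤ) : Set G :=
  {k | ∃ a, IsRoot cs isCartan a ∧ 0 ≤ bf a (c r) ∧ 0 ≤ bf a (c s) ∧ k ∈ X a}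

theorem mem_O {r : Fin 4 → ℤ} (hr : IsRoot cs isCartan r) (hl : bf r r = 4) : r ∈ O cs isCartan rho := by
  obtain ⟨w, hw⟩ := exists_rep_long cs hr hl
  obtain ⟨w', hw'⟩ := exists_rep_long cs (rho_root cs) rho_long
  refine ⟨w * w'⁻¹, ?_⟩
  rw [rep_mul_apply, ← hw', rep_inv_apply, hw]

theorem c_mem_O {x : Fin 4 → ℤ} (hx : x ∈ Phi) : c x ∈ O cs isCartan rho := mem_O (root cs hx) (long hx)

/-- the long roots, `⟨a, b⟩ < 0` -/
theorem neg_cases : ∀ a ∈ rts, ∀ b ∈ rts, bf b b = 4 → bf a b < 0 → bf a b = -2 ∨ a = -b := by (delta Cfsg.Agent.KFacts.TwESix.Comb.bf; set_option synthInstance.maxSize 100000 in exact Cfsg.Agent.Lib.Refl.of (by decide +kernel))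

variable {R : RGD cs isCartan 2 T n X}

theorem card_ne {x y : Fin 4 → ℤ} (hx : x ∈ Phi) (hy : y ∈ Phi) (hxy : B x y = 1) : c x ≠ c y := by
  intro h
  have := c_inj h
  rw [this, roots.two y hy] at hxy
  omega

section YO

variable {t : G} {V : (Fin 4 → ℤ) → Subgroup G} (D : Dat R) (DV : YO R t rho V)

include DV

theorem V_comm {r a : Fin 4 → ℤ} (hr : r ∈ Phi) (ha : IsRoot cs isCartan a) (h0 : 0 ≤ bf a (c r)) {w k : G}
    (hw : w ∈ V (c r)) (hk : k ∈ X a) : w * k = k * w :=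
  DV.WX (c r) (c_mem_O hr) a ha ((ge_iff cs (root cs hr) (long hr)).2 h0) w hw k hk

theorem YW : ∀ r ∈ Phi, ∀ s ∈ Phi, ∀ k ∈ YY cs X r s,
    (∀ w ∈ XL V r, w * k = k * w) ∧ (∀ w ∈ XL V s, w * k = k * w) := by
  rintro r hr s hs k ⟨a, ha, har, has, hk⟩
  exact ⟨fun w hw => V_comm DV hr ha har hw hk, fun w hw => V_comm DV hs ha has hw hk⟩

theorem Ym : ∀ r ∈ Phi, ∀ s ∈ Phi, B r s = -1 → ∀ k ∈ YY cs X r s, ∀ w ∈ XL V (r + s), w * k = k * w := by
  rintro r hr s hs hrs k ⟨a, ha, har, has, hk⟩ w hw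
  refine V_comm DV (roots.add r hr s hs hrs) ha ?_ hw hk
  rw [map_add, bf_add_right]; omega

include D

theorem Yd : ∀ r ∈ Phi, ∀ s ∈ Phi, B r s = 1 → ∀ k ∈ YY cs X r s, ∀ g ∈ XL X (r - s), ∀ w ∈ XL V s,
    w * (g⁻¹ * k * g) = (g⁻¹ * k * g) * w := by
  rintro r hr s hs hrs k ⟨a, ha, har, has, hk⟩ g hg w hw
  have : Finite W := finiteW cs
  have hd : r - s ∈ Phi := roots.sub_mem hr hs hrs
  have hdr := root cs hd
  have hdl := long hd
  have hg' : g ∈ X (c (r - s)) := hg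
  have hw' : w ∈ V (c s) := hw
  have e1 : bf a (c (r - s)) = bf a (c r) - bf a (c s) := by rw [map_sub, bf_sub_right]
  have e2 : bf (c (r - s)) (c s) = -2 := by
    rw [bf_c, roots.sub_left, hrs, roots.two s hs]; norm_num
  have e3 : bf (c (r - s)) (c r) = 2 := by
    rw [bf_c, roots.sub_left, roots.two r hr, roots.symm s r, hrs]; norm_num
  by_cases h0 : 0 ≤ bf a (c (r - s))
  · have h1 : k * g = g * k := comm_long D ha hdr hdl h0 hk hg'
    have h2 : g⁻¹ * k * g = k := by rw [mul_assoc, h1]; group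
    rw [h2]
    exact V_comm DV hs ha has hw' hk
  rcases neg_cases a ((mem_rts cs).1 ha) _ ((mem_rts cs).1 hdr) hdl (by omega) with h4 | h4
  swap
  · rw [h4, bf_neg_left, e3] at har
    omega
  have h5 : 2 ≤ bf a (c s) := by omega
  -- the roots between `a` and `d`
  have key : ∀ z, Btwn cs isCartan a (c (r - s)) z → 0 ≤ bf z (c s) := by
    intro z hz
    rcases _root_.Cfsg.Agent.KFacts.TwESix.Comb.norm cs ha with hn | hn
    · have h6 : z = a + c (r - s) := btwn_a2 cs ha hdr (by rw [hn, hdl]) (by rw [h4, hn]; norm_num) hz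
      rw [h6, bf_add_left, e2]; omega
    · rcases btwn_135 cs hdl hn (by rw [bf_comm]; exact h4) hz.symm with h6 | h6
      · rw [h6, bf_add_left, e2]; omega
      · rw [h6, bf_add_left, e2, bf_smul_left]; omega
  have hne : a ≠ c (r - s) := by
    rintro h6
    rw [h6, hdl] at h4
    omega
  have hne' : a ≠ -(c (r - s)) := by
    rintro h6
    rw [h6, bf_neg_left, hdl] at h4
    omega
  have h6 := R.comm a (c (r - s)) ha hdr hne hne' k⁻¹ (inv_mem hk) g⁻¹ (inv_mem hg')
  have h7 : _root_.Cfsg.Agent.Nodes.Reps.btw cs isCartan X a (c (r - s)) ≤ Subgroup.centralizer {w} := by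
    refine iSup_le fun z => ?_
    intro y hy
    rw [Subgroup.mem_centralizer_singleton_iff]
    exact (V_comm DV hs z.2.1 (key z.1 z.2) hw' hy).symm
  have h8 := h7 h6
  rw [Subgroup.mem_centralizer_singleton_iff, commutatorElement_def, inv_inv, inv_inv] at h8
  have h9 : w * k = k * w := V_comm DV hs ha has hw' hk
  have e : g⁻¹ * k * g = k * (k⁻¹ * g⁻¹ * k * g) := by group
  rw [e]
  calc w * (k * (k⁻¹ * g⁻¹ * k * g)) = (w * k) * (k⁻¹ * g⁻¹ * k * g) := by group
    _ = k * (w * (k⁻¹ * g⁻¹ * k * g)) := by rw [h9]; group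
    _ = k * (k⁻¹ * g⁻¹ * k * g) * w := by rw [← h8]; group

/-- the element `k` swapping `x ∈ X r` and `y ∈ X s` -/
theorem swap (tN : ∀ w k, Rp cs R.nsys w k → t * k = k * t) : ∀ r ∈ Phi, ∀ s ∈ Phi, B r s = 1 →
    ∀ x ∈ XL X r, ∀ y ∈ XL X s, x ≠ 1 → y ≠ 1 → ∃ n : G, n * t = t * n ∧
    n * x * n⁻¹ = y ∧ n * y * n⁻¹ = x ∧ (∀ w ∈ XL V r, n * w * n⁻¹ ∈ XL V s) ∧
    (∀ w ∈ XL V s, n * w * n⁻¹ ∈ XL V r) := by
  intro r hr s hs hrs x hx y hy hx1 hy1
  have : Finite W := finiteW cs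
  have hsr : B s r = 1 := by rw [roots.symm]; exact hrs
  have hA : A2 cs isCartan (c r - c s) (c s) := by
    rw [← map_sub]
    exact a2_of cs (roots.sub_mem hr hs hrs) hs (by rw [roots.sub_left, hrs, roots.two s hs]; norm_num)
  have hA' : A2 cs isCartan (c s - c r) (c r) := by
    rw [← map_sub]
    exact a2_of cs (roots.sub_mem hs hr hsr) hr (by rw [roots.sub_left, hsr, roots.two r hr]; norm_num)
  refine DV.swap (rho_root cs) tN (c_mem_O hr) (c_mem_O hs) hA hA' (fun x hx => sq R (root cs hr) hx)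
    (fun x hx => sq R (root cs hs) hx) (fun u hu v hv => ?_) (fun u hu hu' => ?_) hx hy hx1 hy1
  · exact comm_long D (root cs hr) (root cs hs) (long hs) (by rw [bf_c, hrs]; norm_num) hu hv
  · have h7 := X_inf_X R (root cs hr) (root cs hs) (card_ne hr hs hrs)
    have h8 : u ∈ X (c r) ⊓ X (c s) := ⟨hu, hu'⟩
    rwa [h7, Subgroup.mem_bot] at h8

/-- **The hypotheses of `PreWY.ab`.** -/
theorem preWY (tt : t * t = 1) (tX : ∀ a, IsRoot cs isCartan a → ∀ x ∈ X a, t * x = x * t)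
    (tN : ∀ w k, Rp cs R.nsys w k → t * k = k * t)
    (K2 : ∀ r ∈ Phi, ∀ s ∈ Phi, B r s = 1 → ∀ k, k * t = t * k → (∀ y ∈ YY cs X r s, k * y = y * k) →
      ∃ x ∈ XL X r, ∃ y ∈ XL X s, k = x * y ∨ k = t * (x * y))
    (three : ∀ r ∈ Phi, ∀ x ∈ XL X r, ∃ y ∈ XL X r, y ≠ 1 ∧ y ≠ x) :
    PreWY t B Phi (XL X) (XL V) (YY cs X) where
  roots := roots
  tt := tt
  tX := fun r hr x hx => tX _ (root cs hr) x hx
  Xsq := fun r hr x hx => sq R (root cs hr) hx
  XW := fun r hr => DV.XW _ (c_mem_O hr)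
  Wsq := fun r hr => DV.sq _ (c_mem_O hr)
  brk := fun r hr => DV.brk _ (c_mem_O hr)
  cent := fun r hr => DV.cent _ (c_mem_O hr)
  surj := fun r hr => DV.surj _ (c_mem_O hr)
  WX := fun r hr a ha h0 w hw x hx => V_comm DV hr (root cs ha) (by rw [bf_c]; omega) hw hx
  inf := fun r hr s hs hrs u hu hu' => by
    have : Finite W := finiteW cs
    have h7 := X_inf_X R (root cs hr) (root cs hs) (card_ne hr hs hrs)
    have h8 : u ∈ X (c r) ⊓ X (c s) := ⟨hu, hu'⟩
    rwa [h7, Subgroup.mem_bot] at h8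
  neg := fun r hr s hs hrs x hx y hy => by
    have : Finite W := finiteW cs
    have h := (a2_of cs hr hs hrs).comm_mem R hx hy
    rw [commutatorElement_def, ← map_add] at h
    exact h
  sur := fun a ha b hb hab y hy hy1 z hz => by
    have : Finite W := finiteW cs
    have hz' : z⁻¹ ∈ X (c b + c a) := by
      rw [add_comm, ← map_add]; exact inv_mem hz
    obtain ⟨v, hv, e⟩ := (a2_of cs ha hb hab).symm.comm_surj R hy hy1 hz'
    refine ⟨v, hv, ?_⟩
    have h1 : ⁅v, y⁆ = z := by rw [← commutatorElement_inv, e, inv_inv]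
    rw [← h1, commutatorElement_def]
  YW := fun r hr s hs _ k hk => YW DV r hr s hs k hk
  Yd := Yd D DV
  K2 := K2
  swap := swap D DV tN
  three := three

/-- **The doubled root groups are abelian.** -/
theorem wab (tt : t * t = 1) (tX : ∀ a, IsRoot cs isCartan a → ∀ x ∈ X a, t * x = x * t)
    (tN : ∀ w k, Rp cs R.nsys w k → t * k = k * t)
    (K2 : ∀ r ∈ Phi, ∀ s ∈ Phi, B r s = 1 → ∀ k, k * t = t * k → (∀ y ∈ YY cs X r s, k * y = y * k) →
      ∃ x ∈ XL X r, ∃ y ∈ XL X s, k = x * y ∨ k = t * (x * y))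
    (three : ∀ r ∈ Phi, ∀ x ∈ XL X r, ∃ y ∈ XL X r, y ≠ 1 ∧ y ≠ x) :
    ∀ r ∈ Phi, ∀ v ∈ XL V r, ∀ w ∈ XL V r, v * w = w * v := by
  intro r hr v hv w hw
  obtain ⟨s, hs, hrs⟩ := lg_one r hr
  exact (preWY D DV tt tX tN K2 three).ab hr hs hrs hv hw

/-- **`SL.General.PreY`** for the doubled long root groups. -/
theorem preY (tt : t * t = 1) (tX : ∀ a, IsRoot cs isCartan a → ∀ x ∈ X a, t * x = x * t)
    (tN : ∀ w k, Rp cs R.nsys w k → t * k = k * t) {K : Subgroup G} (htK : t ∉ K)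
    (hXK : ∀ a, IsRoot cs isCartan a → X a ≤ K)
    (three : ∀ r ∈ Phi, ∀ x ∈ XL X r, ∃ y ∈ XL X r, y ≠ 1 ∧ y ≠ x)
    (H1 : ∀ r ∈ Phi, ∀ s ∈ Phi, B r s = 1 → ∀ k, k * t = t * k → (∀ y ∈ YY cs X r s, k * y = y * k) →
      ∃ x ∈ XL X r, ∃ y ∈ XL X s, k = x * y ∨ k = t * (x * y))
    (H0 : ∀ r ∈ Phi, ∀ s ∈ Phi, B r s = 0 → ∀ k, k * t = t * k → (∀ y ∈ YY cs X r s, k * y = y * k) →
      (∀ a ∈ Phi, B a r = 1 → B a s = -1 → ∀ y ∈ XL X a, k * y = y * k) →
      (∀ a ∈ Phi, B a r = -1 → B a s = 1 → ∀ y ∈ XL X a, k * y = y * k) →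
      ∃ x ∈ XL X r, ∃ y ∈ XL X s, k = x * y ∨ k = t * (x * y))
    (Hm : ∀ r ∈ Phi, ∀ s ∈ Phi, B r s = -1 → ∀ k, k * t = t * k → (∀ y ∈ YY cs X r s, k * y = y * k) →
      (∀ y ∈ XL X r, k * y = y * k) → (∀ y ∈ XL X s, k * y = y * k) →
      ∃ x ∈ XL X r, ∃ y ∈ XL X s, ∃ m ∈ XL X (r + s), k = x * y * m ∨ k = t * (x * y * m)) :
    Cfsg.Agent.OddHalf.SL.General.PreY t B Phi (XL X) (XL V) (YY cs X) where
  roots := roots
  tt := tt
  tX := fun r hr x hx => tX _ (root cs hr) x hx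
  tK := fun h => htK ((iSup₂_le fun r hr => hXK _ (root cs hr) : (⨆ r ∈ Phi, XL X r) ≤ K) h)
  Xsq := fun r hr x hx => sq R (root cs hr) hx
  Xne := fun r hr h => by
    obtain ⟨u, hu, hu1⟩ := _root_.Cfsg.Agent.KFacts.TwESix.Facts.exists_ne_one R (root cs hr)
    have h2 : u ∈ XL X r := hu
    rw [h, Subgroup.mem_bot] at h2
    exact hu1 h2
  XW := fun r hr => DV.XW _ (c_mem_O hr)
  Wab := wab D DV tt tX tN H1 three
  brk := fun r hr => DV.brk _ (c_mem_O hr)
  cent := fun r hr => DV.cent _ (c_mem_O hr)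
  surj := fun r hr => DV.surj _ (c_mem_O hr)
  WX := fun r hr a ha h0 w hw x hx => V_comm DV hr (root cs ha) (by rw [bf_c]; omega) hw hx
  Xneg := (preWY D DV tt tX tN H1 three).neg
  Xnd := fun r hr s hs hrs x hx y hy hxy => by
    have : Finite W := finiteW cs
    by_contra hc
    push Not at hc
    exact (a2_of cs hr hs hrs).comm_ne_one R hx hc.1 hy hc.2 (commutatorElement_eq_one_iff_mul_comm.2 hxy)
  tri := fun r hr s hs hrs g hg hg1 => by
    have : Finite W := finiteW cs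
    have hd : r - s ∈ Phi := roots.sub_mem hr hs hrs
    have hsr : B s r = 1 := by rw [roots.symm]; exact hrs
    have hd' : s - r ∈ Phi := roots.sub_mem hs hr hsr
    have h1 : cpr cs isCartan (c s) (c r - c s) = -1 := by
      rw [← map_sub, cpr_cc cs s hd, roots.sub_right, hsr, roots.two s hs]; norm_num
    have h2 : 0 ≤ cpr cs isCartan (c s - c r) (c s) := by
      rw [← map_sub, cpr_cc cs (s - r) hs, roots.sub_left, hrs, roots.two s hs]; norm_num
    obtain ⟨k, hk, h3⟩ := DV.tri (c_mem_O hr) (c_mem_O hs) (by rw [← map_sub]; exact root cs hd) h1 h2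
      (g := g) (by rw [← map_sub]; exact hg) hg1
    exact ⟨k, by rw [← map_sub] at hk; exact hk, h3⟩
  YW := YW DV
  Yd := Yd D DV
  Ym := Ym DV
  H1 := H1
  H0 := H0
  Hm := Hm
  orth := lg_orth

end YO

end Cfsg.Agent.OddHalf.D7Tw.Long

end
end

-- part: OddHalf/D5/SixAut/FusHS
section
/-!
# ODD D5, `n = 6`, (C3b), P2: case (ii) of `n = 8`: (HSx) (helper310)
-/

set_option autoImplicit false
set_option linter.unusedSectionVars false

namespace Cfsg.Agent.OddHalf.D5.SixAut.FusHS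

open Subgroup Equiv
open EPerm EPerm2 EOne FusE FusN PTwoDefs FusEight

variable {G : Type*} [Group G] {x r : G} {ι : Perm (Fin 6) →* G}

/-- trivial on `U₁/⟨f⟩` -/
def TF (ι : Perm (Fin 6) →* G) (n : G) : Prop :=
  ∀ w, InV w → Perm.sign w = 1 → A n (ι w) = ι w ∨ A n (ι w) = ι w * ι pf

section

variable (h : AutSpl x ι r)
include h

theorem TF_of {n : G} (h1 : A n (ι pz) = ι pz ∨ A n (ι pz) = ι pz * ι pf)
    (h2 : A n (ι pv1) = ι pv1 ∨ A n (ι pv1) = ι pv1 * ι pf) : TF ι n := by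
  intro w hw hs
  rcases V_even w hw hs with rfl | rfl | rfl | rfl
  · left; rw [map_one, map_one]
  · exact h1
  · exact h2
  · rw [map_mul ι, map_mul]
    rcases h1 with e | e <;> rcases h2 with e' | e' <;> rw [e, e']
    · left; rfl
    · right; rw [mul_assoc]
    · right
      rw [mul_assoc, ← vf h, ← mul_assoc]
    · left
      calc ι pz * ι pf * (ι pv1 * ι pf) = ι pz * (ι pf * (ι pv1 * ι pf)) := by group
        _ = ι pz * (ι pf * (ι pf * ι pv1)) := by rw [vf h]
        _ = ι pz * ((ι pf * ι pf) * ι pv1) := by group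
        _ = _ := by rw [ff h, one_mul]

theorem conj_V [Finite G] {a w : Perm (Fin 6)} (ha : a * pf = pf * a) (hw : InV w) : InV (a * w * a⁻¹) := by
  have := A_mem (ι_NE h ha) (AutSpl'.mem h hw)
  rwa [A_ι, AutSpl'.mem_iff h] at this

theorem sign_conj (a w : Perm (Fin 6)) : Perm.sign (a * w * a⁻¹) = Perm.sign w := by
  rw [Perm.sign_mul, Perm.sign_mul, Perm.sign_inv, mul_comm, ← mul_assoc, Int.units_mul_self, one_mul]

theorem TF_conj [Finite G] {n : G} (hn : TF ι n) {a : Perm (Fin 6)} (ha : a * pf = pf * a) :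
    TF ι (ι a * n * (ι a)⁻¹) := by
  have ha' : a⁻¹ * pf = pf * a⁻¹ := by
    rw [inv_mul_eq_iff_eq_mul, ← mul_assoc, ha, mul_inv_cancel_right]
  intro w hw hs
  have h1 : InV (a⁻¹ * w * a) := by
    have := conj_V h ha' hw
    rwa [inv_inv] at this
  have h2 : Perm.sign (a⁻¹ * w * a) = 1 := by
    have := sign_conj h a⁻¹ w
    rw [inv_inv] at this
    rw [this, hs]
  have h3 : A (ι a) (ι (a⁻¹ * w * a)) = ι w := by rw [A_ι]; congr 1; group
  have h4 : A (ι a) (ι pf) = ι pf := by rw [A_ι, ha, mul_inv_cancel_right]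
  rw [A_conj, A_ι_inv]
  rcases hn _ h1 h2 with e | e
  · left; rw [e, h3]
  · right; rw [e, map_mul, h3, h4]

variable (hF : ∀ n ∈ NE x ι, A n (ι pf) = ι pf)
include hF

theorem adjust' [Finite G] (H : Eight x ι) {n : G} (hn : n ∈ NE x ι) :
    ∃ c ∈ NE x ι, A c x = A n x ∧ TF ι c := by
  have key : ∀ v, InV v → Perm.sign v = 1 → v ≠ 1 → ∃ e, InV e ∧ Perm.sign e = 1 ∧ e ≠ 1 ∧
      (A n (ι e) = ι v ∨ A n (ι e) = ι v * ι pf) := by
    intro v hv hsv h1
    obtain ⟨a, ha, e⟩ := nU h H (inv_mem hn) hv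
    have e' : A n (ι a) = ι v := A_eq_inv e
    rcases V_cases a ha with hs | ⟨w, hw, hs, rfl⟩
    · refine ⟨a, ha, hs, ?_, Or.inl e'⟩
      rintro rfl
      rw [map_one, map_one] at e'
      exact h1 (h.one_iff.1 e'.symm)
    · have hwe : A n (ι w) = ι v * ι pf := by
        rw [map_mul ι, map_mul, hF n hn] at e'
        have h2 : A n (ι w) = ι pf * ι v := by rw [← e', ← mul_assoc, ff h, one_mul]
        rw [h2]
        exact AutSpl'.comm h (fE h) (AutSpl'.mem h hv)
      refine ⟨w, hw, hs, ?_, Or.inr hwe⟩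
      rintro rfl
      rw [map_one, map_one] at hwe
      rw [← map_mul] at hwe
      have h3 := h.one_iff.1 hwe.symm
      have h4 : Perm.sign (v * pf) = -1 := by rw [Perm.sign_mul, hsv, one_mul]; decide +kernel
      rw [h3, Perm.sign_one] at h4
      exact absurd h4 (by decide)
  obtain ⟨e₁, i1, s1, n1, h1⟩ := key pz V_z (by decide +kernel) (by decide +kernel)
  obtain ⟨e₂, i2, s2, n2, h2⟩ := key pv1 V_v1 (by decide +kernel) (by decide +kernel)
  have n3 : e₁ ≠ e₂ := by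
    rintro rfl
    rw [← map_mul] at h1 h2
    rcases h1 with h1 | h1 <;> rcases h2 with h2 | h2 <;>
    · have := h.inj (h1.symm.trans h2)
      revert this; decide +kernel
  obtain ⟨s, hs1, hs2, hs3⟩ := three i1 i2 s1 s2 n1 n2 n3
  refine ⟨n * ι s, mul_mem hn (ι_NE h hs1), ?_, TF_of h ?_ ?_⟩
  · rw [A_mul, A_ι_x h]
  · rw [A_mul, A_ι, hs2]; exact h1
  · rw [A_mul, A_ι, hs3]; exact h2

theorem uniq' [Finite G] {c c' : G} (hc : c ∈ NE x ι) (hc' : c' ∈ NE x ι) (hx : A c x = A c' x) (h1 : TF ι c)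
    (h2 : TF ι c') {e : G} (he : e ∈ E1 x ι) : A c e = A c' e := by
  have hg : A (c⁻¹ * c') x = x := by rw [A_mul, ← hx, A_inv]
  obtain ⟨a, ha, hga⟩ := stab h (mul_mem (inv_mem hc) hc') hg
  have hgι : ∀ w, A (c⁻¹ * c') (ι w) = ι (a * w * a⁻¹) := by
    intro w
    rcases hga with e | e
    · rw [e, A_ι]
    · rw [e, A_mul, A_ι, A_x_ι h]
  have hcF : A c⁻¹ (ι pf) = ι pf := hF _ (inv_mem hc)
  have key : ∀ w, InV w → Perm.sign w = 1 → A c (ι w) = A c' (ι w) := by
    intro w hw hs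
    have k1 : A c⁻¹ (ι w) = ι w ∨ A c⁻¹ (ι w) = ι w * ι pf := by
      rcases h1 w hw hs with e | e
      · exact Or.inl (A_inv_eq e)
      · right
        have h3 := A_inv_eq e
        rw [map_mul, hcF] at h3
        calc A c⁻¹ (ι w) = A c⁻¹ (ι w) * (ι pf * ι pf) := by rw [ff h, mul_one]
          _ = ι w * ι pf := by rw [← mul_assoc, h3]
    have k2 : A (c⁻¹ * c') (ι w) = ι w ∨ A (c⁻¹ * c') (ι w) = ι w * ι pf := by
      rw [A_mul]
      rcases h2 w hw hs with e | e <;> rw [e]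
      · exact k1
      · rw [map_mul, hcF]
        rcases k1 with e' | e' <;> rw [e']
        · right; rfl
        · left; rw [mul_assoc, ff h, mul_one]
    have k3 : A (c⁻¹ * c') (ι w) = ι w := by
      rcases k2 with e | e
      · exact e
      · exfalso
        rw [hgι, ← map_mul] at e
        have h3 := congrArg Perm.sign (h.inj e)
        rw [sign_conj h, Perm.sign_mul, hs, one_mul] at h3
        revert h3; decide +kernel
    rw [A_mul] at k3
    exact A_eq_inv k3
  exact uniq h hx (key _ V_z (by decide +kernel)) (key _ V_v1 (by decide +kernel)) he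

theorem hsx [Finite G] (H : Eight x ι) (hV : ¬ VInv x ι) : HSx x ι := by
  have cN := ι_NE h c_f
  have sN := ι_NE h v2_f
  have hVF : ι pv1 * ι pf ≠ ι pv1 := by
    intro e
    have := mul_eq_left.1 e
    rw [h.one_iff] at this
    revert this; decide +kernel
  have hZF : ι pz * ι pf ≠ ι pz := by
    intro e
    have := mul_eq_left.1 e
    rw [h.one_iff] at this
    revert this; decide +kernel
  have dzF : A (ι pc) (ι pv1 * ι pf) = ι pz * ι pf := by rw [map_mul, d_v h, d_f h]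
  -- `b`
  obtain ⟨n, hn, hnx⟩ := fus' h (AutSpl'.mem' h V_pf) (H.yes _ V_pf)
  obtain ⟨b, hb, hbx, hbT⟩ := adjust' h hF H hn
  rw [hnx] at hbx
  have ub : ∀ {e}, e ∈ E1 x ι → A (ι pc * b * (ι pc)⁻¹) e = A b e := fun he =>
    uniq' h hF (mul_mem (mul_mem cN hb) (inv_mem cN)) hb
      (by rw [A_conj, A_ι_x_inv h, hbx, map_mul (A (ι pc)), A_ι_x h, d_f h]) (TF_conj h hbT c_f) hbT he
  have ub1 := ub (zE h)
  have ub2 := ub (vE h)
  rw [A_conj, d_z' h] at ub1
  rw [A_conj, d_v' h, map_mul ι, map_mul (A b)] at ub2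
  have hbv : A b (ι pv1) = ι pv1 := by
    rcases hbT pv1 V_v1 (by decide +kernel) with e | e
    · exact e
    · exfalso
      rw [e, dzF] at ub1
      rw [← ub1, e] at ub2
      have h3 : ι pz * ι pf * (ι pv1 * ι pf) = ι (pz * pv1) := by
        rw [map_mul ι]
        calc ι pz * ι pf * (ι pv1 * ι pf) = ι pz * (ι pf * (ι pv1 * ι pf)) := by group
          _ = ι pz * (ι pf * (ι pf * ι pv1)) := by rw [vf h]
          _ = ι pz * ((ι pf * ι pf) * ι pv1) := by group
          _ = _ := by rw [ff h, one_mul]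
      rw [h3, d_zv h] at ub2
      exact hVF ub2.symm
  have hbz : A b (ι pz) = ι pz := by rw [← ub1, hbv, d_v h]
  -- `c`
  obtain ⟨m, hm, hmx⟩ := fus' h (AutSpl'.mem' h V_z) (H.yes _ V_z)
  obtain ⟨c, hc, hcx, hcT⟩ := adjust' h hF H hm
  rw [hmx] at hcx
  have uc : A (ι pv2 * c * (ι pv2)⁻¹) (ι pv1) = A c (ι pv1) :=
    uniq' h hF (mul_mem (mul_mem sN hc) (inv_mem sN)) hc
      (by rw [A_conj, A_ι_x_inv h, hcx, map_mul (A (ι pv2)), A_ι_x h, s_z h]) (TF_conj h hcT v2_f) hcT (vE h)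
  rw [A_conj, s_v' h, map_mul ι, map_mul (A c)] at uc
  have hcz : A c (ι pz) = ι pz := by
    rcases hcT pz V_z (by decide +kernel) with e | e
    · exact e
    · exfalso
      rw [e] at uc
      rcases hcT pv1 V_v1 (by decide +kernel) with e' | e'
      · rw [e'] at uc
        have h3 : ι pz * ι pf * ι pv1 = ι (pz * pv1) * ι pf := by rw [map_mul, mul_assoc, ← vf h, ← mul_assoc]
        rw [h3, map_mul (A (ι pv2)), s_zv h, s_f h] at uc
        exact hVF uc
      · rw [e'] at uc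
        have h3 : ι pz * ι pf * (ι pv1 * ι pf) = ι (pz * pv1) := by
          rw [map_mul ι]
          calc ι pz * ι pf * (ι pv1 * ι pf) = ι pz * (ι pf * (ι pv1 * ι pf)) := by group
            _ = ι pz * (ι pf * (ι pf * ι pv1)) := by rw [vf h]
            _ = ι pz * ((ι pf * ι pf) * ι pv1) := by group
            _ = _ := by rw [ff h, one_mul]
        rw [h3, s_zv h] at uc
        exact hVF uc.symm
  have hcv : A c (ι pv1) = ι pv1 * ι pf := by
    rcases hcT pv1 V_v1 (by decide +kernel) with e | e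
    · exfalso
      apply hV
      -- elements centralising `U₁` which are transitive on `x U₁`
      have hP : ∀ w, InV w → Perm.sign w = 1 → ∃ g ∈ NE x ι, A g x = x * ι w ∧ A g (ι pz) = ι pz ∧
          A g (ι pv1) = ι pv1 := by
        intro w hw hs
        have hzv : A c (ι (pz * pv1)) = ι (pz * pv1) := by rw [map_mul ι, map_mul, hcz, e]
        rcases V_even w hw hs with rfl | rfl | rfl | rfl
        · refine ⟨1, one_mem _, ?_, ?_, ?_⟩ <;> rw [A_def, one_mul, inv_one, mul_one]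
          rw [map_one, mul_one]
        · exact ⟨c, hc, hcx, hcz, e⟩
        · refine ⟨(ι pc)⁻¹ * c * (ι pc)⁻¹⁻¹, mul_mem (mul_mem (inv_mem cN) hc) (inv_mem (inv_mem cN)), ?_, ?_, ?_⟩
          · rw [A_conj, inv_inv, A_ι_x h, hcx, map_mul (A (ι pc)⁻¹), A_ι_x_inv h, d_z' h]
          · rw [A_conj, inv_inv, d_z h, hzv]
            exact A_inv_eq (d_z h)
          · rw [A_conj, inv_inv, d_v h, hcz, d_z' h]
        · refine ⟨ι pc * c * (ι pc)⁻¹, mul_mem (mul_mem cN hc) (inv_mem cN), ?_, ?_, ?_⟩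
          · rw [A_conj, A_ι_x_inv h, hcx, map_mul (A (ι pc)), A_ι_x h, d_z h]
          · rw [A_conj, d_z' h, e, d_v h]
          · rw [A_conj, d_v' h, hzv, d_zv h]
      have hQ : ∀ a, InV a → ∃ g ∈ NE x ι, A g x = x * ι a ∧ A g (ι pz) = ι pz ∧ A g (ι pv1) = ι pv1 := by
        intro a ha
        rcases V_cases a ha with hs | ⟨w, hw, hs, rfl⟩
        · exact hP a ha hs
        · obtain ⟨g, hg, h1, h2, h3⟩ := hP w hw hs
          refine ⟨g * b, mul_mem hg hb, ?_, ?_, ?_⟩
          · have h4 := AutSpl'.comm h (fE h) (AutSpl'.mem h hw)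
            rw [A_mul, hbx, map_mul, h1, hF g hg, map_mul, h4, mul_assoc]
          · rw [A_mul, hbz, h2]
          · rw [A_mul, hbv, h3]
      intro n hn w hw hs
      obtain ⟨a, ha, hnx⟩ : ∃ a, InV a ∧ A n x = x * ι a := by
        obtain ⟨a, ha, e | e⟩ := AutSpl'.form h (A_mem hn (AutSpl'.x_mem h))
        · exact absurd ⟨n, e⟩ (H.no a ha)
        · exact ⟨a, ha, e⟩
      obtain ⟨g, hg, h1, h2, h3⟩ := hQ a ha
      have hk : A (g⁻¹ * n) x = x := by rw [A_mul, hnx, ← h1, A_inv]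
      obtain ⟨s, hs1, hks⟩ := stab h (mul_mem (inv_mem hg) hn) hk
      have hkι : A (g⁻¹ * n) (ι w) = ι (s * w * s⁻¹) := by
        rcases hks with e | e
        · rw [e, A_ι]
        · rw [e, A_mul, A_ι, A_x_ι h]
      have h5 := conj_V h hs1 hw
      have h6 : Perm.sign (s * w * s⁻¹) = 1 := by rw [sign_conj h, hs]
      refine ⟨s * w * s⁻¹, h5, h6, ?_⟩
      rw [A_mul] at hkι
      rw [← A_eq_inv hkι]
      rcases V_even _ h5 h6 with e | e | e | e <;> rw [e]
      · rw [map_one, map_one]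
      · exact h2
      · exact h3
      · rw [map_mul ι, map_mul, h2, h3]
    · exact e
  -- `m`
  obtain ⟨s, hs1, hs2, hs3⟩ := three V_v1 V_z (by decide +kernel) (by decide +kernel) (by decide +kernel)
    (by decide +kernel) (by decide +kernel)
  have sN' := ι_NE h hs1
  have s1 : A (ι s) (ι pz) = ι pv1 := by rw [A_ι, hs2]
  have s2 : A (ι s) (ι pv1) = ι pz := by rw [A_ι, hs3]
  have s3 : A (ι s)⁻¹ (ι pz) = ι pv1 := A_inv_eq s2
  have s4 : A (ι s)⁻¹ (ι pv1) = ι pz := A_inv_eq s1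
  have s5 : A (ι s) (ι pf) = ι pf := hF _ sN'
  have q1 : A (ι s * c * (ι s)⁻¹) x = x * ι pv1 := by
    rw [A_conj, A_ι_x_inv h, hcx, map_mul (A (ι s)), A_ι_x h, s1]
  have q2 : A (ι s * c * (ι s)⁻¹) (ι pz) = ι pz * ι pf := by
    rw [A_conj, s3, hcv, map_mul (A (ι s)), s2, s5]
  have q3 : A (ι s * c * (ι s)⁻¹) (ι pv1) = ι pv1 := by
    rw [A_conj, s4, hcz, s1]
  have q0 : ι s * c * (ι s)⁻¹ ∈ NE x ι := mul_mem (mul_mem sN' hc) (inv_mem sN')
  have w1 : A (ι pc * c * (ι pc)⁻¹) x = x * ι (pz * pv1) := by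
    rw [A_conj, A_ι_x_inv h, hcx, map_mul (A (ι pc)), A_ι_x h, d_z h]
  have w2 : A (ι pc * c * (ι pc)⁻¹) (ι pz) = ι pz * ι pf := by
    rw [A_conj, d_z' h, hcv, dzF]
  have w0 : ι pc * c * (ι pc)⁻¹ ∈ NE x ι := mul_mem (mul_mem cN hc) (inv_mem cN)
  refine ⟨⟨b, A_eq_iff.1 (hF b hb), A_eq_iff.1 hbz, A_eq_iff.1 hbv, hbx⟩,
    ⟨c, A_eq_iff.1 (hF c hc), A_eq_iff.1 hcz, hcv, hcx⟩,
    ⟨_, A_eq_iff.1 (hF _ q0), A_eq_iff.1 q3, q2, q1⟩, ?_, fun g hg => A_eq_iff.1 (hF g hg), card_NE h H⟩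
  -- `tr`
  intro g hg hgF hgZ hgV
  have hgT : TF ι g := TF_of h (Or.inl (A_eq_iff.2 hgZ)) (Or.inl (A_eq_iff.2 hgV))
  have key : ∀ w, InV w → Perm.sign w = 1 → w ≠ 1 → ∃ k ∈ NE x ι, A k x = x * ι w ∧ TF ι k ∧
      (A k (ι pz) ≠ ι pz ∨ A k (ι pv1) ≠ ι pv1) := by
    intro w hw hs h1
    rcases V_even w hw hs with rfl | rfl | rfl | rfl
    · exact absurd rfl h1
    · exact ⟨c, hc, hcx, hcT, Or.inr (by rw [hcv]; exact hVF)⟩
    · exact ⟨_, q0, q1, TF_conj h hcT hs1, Or.inl (by rw [q2]; exact hZF)⟩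
    · exact ⟨_, w0, w1, TF_conj h hcT c_f, Or.inl (by rw [w2]; exact hZF)⟩
  have kill : ∀ w, InV w → Perm.sign w = 1 → w ≠ 1 → A g x ≠ x * ι w ∧ A g x ≠ x * (ι pf * ι w) := by
    intro w hw hs h1
    obtain ⟨k, hk, hkx, hkT, hk1⟩ := key w hw hs h1
    constructor
    · intro hgx
      have u1 := uniq' h hF hg hk (hgx.trans hkx.symm) hgT hkT (zE h)
      have u2 := uniq' h hF hg hk (hgx.trans hkx.symm) hgT hkT (vE h)
      rw [A_eq_iff.2 hgZ] at u1
      rw [A_eq_iff.2 hgV] at u2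
      rcases hk1 with e | e
      · exact e u1.symm
      · exact e u2.symm
    · intro hgx
      have h4 := AutSpl'.comm h (fE h) (AutSpl'.mem h hw)
      have hx2 : A (k * b) x = x * (ι pf * ι w) := by rw [A_mul, hbx, map_mul, hkx, hF k hk, h4, mul_assoc]
      have hT2 : TF ι (k * b) := by
        apply TF_of h
        · rw [A_mul, hbz]; exact hkT _ V_z (by decide +kernel)
        · rw [A_mul, hbv]; exact hkT _ V_v1 (by decide +kernel)
      have u1 := uniq' h hF hg (mul_mem hk hb) (hgx.trans hx2.symm) hgT hT2 (zE h)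
      have u2 := uniq' h hF hg (mul_mem hk hb) (hgx.trans hx2.symm) hgT hT2 (vE h)
      rw [A_eq_iff.2 hgZ, A_mul, hbz] at u1
      rw [A_eq_iff.2 hgV, A_mul, hbv] at u2
      rcases hk1 with e | e
      · exact e u1.symm
      · exact e u2.symm
  obtain ⟨a, ha, hgx⟩ : ∃ a, InV a ∧ A g x = x * ι a := by
    obtain ⟨a, ha, e | e⟩ := AutSpl'.form h (A_mem hg (AutSpl'.x_mem h))
    · exact absurd ⟨g, e⟩ (H.no a ha)
    · exact ⟨a, ha, e⟩
  rcases V_cases a ha with hs | ⟨w, hw, hs, rfl⟩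
  · by_cases h1 : a = 1
    · left
      have := hgx
      rw [h1, map_one, mul_one] at this
      exact this
    · exact absurd hgx (kill a ha hs h1).1
  · by_cases h1 : w = 1
    · right
      have := hgx
      rw [h1, mul_one] at this
      exact this
    · rw [map_mul ι] at hgx
      exact absurd hgx (kill w hw hs h1).2

end

/-- **`n = 8`** -/
theorem dbl_or_hsx [Finite G] (h : AutSpl x ι r) (H : Eight x ι) : DBL x ι ∨ HSx x ι := by
  by_cases hV : VInv x ι
  · exact Or.inl (dbl h H hV)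
  · exact Or.inr (hsx h (fix_f h H hV) H hV)

end Cfsg.Agent.OddHalf.D5.SixAut.FusHS
end

-- part: OddHalf/D5/SixAut/ModFour
section
/-!
# ODD D5, `n = 6`, (C3b), P2: `x^G ∩ E₁ = x V₁` is impossible (helper310)

`H = C_{N(E₁)}(⟨z, F⟩)`, `F ∈ {f, x f}`, has order 128; `|x^G| ≡ 46 + 36 k (mod 4)` and `|C(x)| = 2880`, so that `H` is a
Sylow 2-subgroup, with `z`, `F` in its centre.
-/

set_option autoImplicit false
set_option linter.unusedSectionVars false

namespace Cfsg.Agent.OddHalf.D5.SixAut.ModFour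

open Subgroup Equiv
open EPerm EPerm2 EOne FusE FusN FusEight

variable {G : Type*} [Group G] {x r : G} {ι : Perm (Fin 6) →* G}

/-- `x^G ∩ E₁ = x V₁` -/
structure Four (x : G) (ι : Perm (Fin 6) →* G) : Prop where
  even : D x (x * ι pz)
  nz : ∀ g, A g x ≠ ι pz
  nf : ¬ D x (ι pf)
  nxf : ¬ D x (x * ι pf)

theorem card_ev : (Finset.univ.filter fun a : Perm (Fin 6) => InV a ∧ Perm.sign a = 1).card = 4 := by
  have : (Finset.univ.filter fun a : Perm (Fin 6) => InV a ∧ Perm.sign a = 1) =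
      (vL.filter fun a => Perm.sign a = 1).toFinset := by
    ext a
    simp only [Finset.mem_filter, Finset.mem_univ, true_and, List.mem_toFinset, List.mem_filter, decide_eq_true_eq,
      mem_vL]
  rw [this]
  simp only [↓Cfsg.Agent.PermCode.M, Cfsg.Agent.PermCode.P6.R, Cfsg.Agent.PermCode.B]
  decide +kernel

theorem card_cfz : (Finset.univ.filter fun a : Perm (Fin 6) => a * pf = pf * a ∧ a * pz = pz * a).card = 16 := by
  simp only [↓Cfsg.Agent.PermCode.M, Cfsg.Agent.PermCode.P6.R, Cfsg.Agent.PermCode.B]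
  decide +kernel

section

variable (h : AutSpl x ι r)
include h

theorem no (H : Four x ι) {a : Perm (Fin 6)} (ha : InV a) : ¬ D x (ι a) := by
  by_cases hs : Perm.sign a = 1
  · exact not_D_even h H.nz ha hs
  · rw [D_odd h ha hs]; exact H.nf

theorem yes [Finite G] (H : Four x ι) {a : Perm (Fin 6)} (ha : InV a) : D x (x * ι a) ↔ Perm.sign a = 1 := by
  constructor
  · intro hD
    by_contra hs
    rw [D_odd' h ha hs] at hD
    exact H.nxf hD
  · exact D_even h H.even ha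

theorem vinv [Finite G] (H : Four x ι) : VInv x ι := by
  have key : ∀ n ∈ NE x ι, ∀ b, InV b → Perm.sign b = 1 →
      ∃ b', InV b' ∧ Perm.sign b' = 1 ∧ A n (x * ι b) = x * ι b' := by
    intro n hn b hb hs
    have hD : D x (A n (x * ι b)) := by rw [D_A]; exact D_even h H.even hb hs
    obtain ⟨b', hb', e | e⟩ := AutSpl'.form h (A_mem hn (AutSpl'.mem' h hb))
    · exfalso
      rw [e] at hD
      exact no h H hb' hD
    · refine ⟨b', hb', ?_, e⟩
      rw [e, yes h H hb'] at hD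
      exact hD
  intro n hn w hw hws
  obtain ⟨b, hb, sb, e⟩ := key n hn 1 V_one (map_one _)
  obtain ⟨b', hb', sb', e'⟩ := key n hn w hw hws
  rw [map_one, mul_one] at e
  refine ⟨b * b', V_mul hb hb', by rw [Perm.sign_mul, sb, sb', one_mul], ?_⟩
  have h1 : ι w = x * (x * ι w) := by rw [← mul_assoc, h.xx, one_mul]
  rw [h1, map_mul, e, e', map_mul]
  have h2 := h.comm' b
  calc x * ι b * (x * ι b') = x * (ι b * x) * ι b' := by group
    _ = (x * x) * (ι b * ι b') := by rw [h2]; group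
    _ = _ := by rw [h.xx, one_mul]

theorem exF [Finite G] (H : Four x ι) : ∃ F, (F = ι pf ∨ F = x * ι pf) ∧
    ∀ w, InV w → Perm.sign w = 1 → ∃ k ∈ NE x ι, A k (ι pz) = ι pz ∧ A k F = F ∧ A k x = x * ι w := by
  obtain ⟨n, hn, hnx⟩ := fus' h (AutSpl'.mem' h V_z) H.even
  obtain ⟨c, hc, hcx, hcz, hcv⟩ := adjust h (vinv h H) hn
  rw [hnx] at hcx
  have hF : ∃ F, (F = ι pf ∨ F = x * ι pf) ∧ A c F = F := by
    rcases lemC h hcx hcz hcv with e | e
    · exact ⟨_, Or.inl rfl, e⟩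
    · refine ⟨_, Or.inr rfl, ?_⟩
      rw [map_mul, hcx, e, map_mul]
      calc x * ι pz * (ι pf * ι pz) = x * (ι pz * ι pf) * ι pz := by group
        _ = x * ι pf * (ι pz * ι pz) := by rw [zf h]; group
        _ = x * ι pf := by rw [zz h, mul_one]
  obtain ⟨F, hF, hcF⟩ := hF
  have hd : A (ι pc) F = F := by
    rcases hF with rfl | rfl
    · exact d_f h
    · rw [map_mul, A_ι_x h, d_f h]
  have hd' : A (ι pc)⁻¹ F = F := A_inv_eq hd
  have hdN : ι pc ∈ NE x ι := ι_NE h c_f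
  have hzv : A c (ι (pz * pv1)) = ι (pz * pv1) := by rw [map_mul ι, map_mul, hcz, hcv]
  have A1 : ∀ e, A (1 : G) e = e := fun e => by rw [A_def, one_mul, inv_one, mul_one]
  refine ⟨F, hF, ?_⟩
  intro w hw hs
  rcases V_even w hw hs with rfl | rfl | rfl | rfl
  · exact ⟨1, one_mem _, A1 _, A1 _, by rw [A1, map_one, mul_one]⟩
  · exact ⟨c, hc, hcz, hcF, hcx⟩
  · refine ⟨(ι pc)⁻¹ * c * ι pc, mul_mem (mul_mem (inv_mem hdN) hc) hdN, ?_, ?_, ?_⟩
    · rw [A_mul, A_mul, d_z h, hzv]; exact A_inv_eq (d_z h)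
    · rw [A_mul, A_mul, hd, hcF, hd']
    · rw [A_mul, A_mul, A_ι_x h, hcx, map_mul, A_ι_x_inv h, d_z' h]
  · refine ⟨ι pc * c * (ι pc)⁻¹, mul_mem (mul_mem hdN hc) (inv_mem hdN), ?_, ?_, ?_⟩
    · rw [A_conj, d_z' h, hcv, d_v h]
    · rw [A_conj, hd', hcF, hd]
    · rw [A_conj, A_ι_x_inv h, hcx, map_mul, A_ι_x h, d_z h]

/-- the order of a subgroup `{1, x} ι(P)` -/
theorem card_pair [Finite G] (P : Perm (Fin 6) → Prop) [DecidablePred P] (K : Subgroup G)
    (hK : ∀ g, g ∈ K ↔ ∃ a, P a ∧ (g = ι a ∨ g = x * ι a)) :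
    Nat.card K = 2 * (Finset.univ.filter P).card := by
  have e : Bool × {a : Perm (Fin 6) // P a} ≃ K := Equiv.ofBijective
    (fun p => ⟨(if p.1 then x else 1) * ι p.2.1, by
      rw [hK]
      refine ⟨p.2.1, p.2.2, ?_⟩
      split_ifs
      · exact Or.inr rfl
      · exact Or.inl (one_mul _)⟩) (by
    constructor
    · rintro ⟨b, p, hp⟩ ⟨c, q, hq⟩ e
      have h1 : (if b then x else 1) * ι p = (if c then x else 1) * ι q := congrArg Subtype.val e
      cases b <;> cases c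
      · simp only [Bool.false_eq_true, if_false, one_mul] at h1
        have := h.inj h1
        subst this; rfl
      · simp only [Bool.false_eq_true, if_false, one_mul, if_true] at h1
        exact absurd h1 (h.ne_x p q)
      · simp only [Bool.false_eq_true, if_false, one_mul, if_true] at h1
        exact absurd h1.symm (h.ne_x q p)
      · simp only [if_true] at h1
        have := h.xι_inj h1
        subst this; rfl
    · rintro ⟨g, hg⟩
      obtain ⟨a, ha, hp | hp⟩ := (hK g).1 hg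
      · exact ⟨(false, ⟨a, ha⟩), Subtype.ext (by simp [hp])⟩
      · exact ⟨(true, ⟨a, ha⟩), Subtype.ext (by simp [hp])⟩)
  rw [← Nat.card_congr e, Nat.card_prod, Nat.card_eq_fintype_card (α := {a // P a}), Fintype.card_subtype]
  simp only [_root_.Nat.card_eq_fintype_card, _root_.Fintype.card_bool]

/-- `C_{N(E₁)}(⟨z, F⟩)` -/
theorem card_H [Finite G] (H : Four x ι) {F : G} (hF : F = ι pf ∨ F = x * ι pf)
    (hc : ∀ w, InV w → Perm.sign w = 1 → ∃ k ∈ NE x ι, A k (ι pz) = ι pz ∧ A k F = F ∧ A k x = x * ι w) :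
    Nat.card ((NE x ι ⊓ centralizer {ι pz} ⊓ centralizer {F} : Subgroup G)) = 128 := by
  have h1 := Cfsg.Agent.OddHalf.D6.Six.Parity.card_orbit x (NE x ι ⊓ centralizer {ι pz} ⊓ centralizer {F})
  have hmem : ∀ k, k ∈ (NE x ι ⊓ centralizer {ι pz} ⊓ centralizer {F} : Subgroup G) ↔
      k ∈ NE x ι ∧ A k (ι pz) = ι pz ∧ A k F = F := by
    intro k
    rw [mem_inf, mem_inf, mem_centralizer_singleton_iff, mem_centralizer_singleton_iff, A_eq_iff, A_eq_iff, and_assoc]
  have h2 : {d : G | ∃ k ∈ (NE x ι ⊓ centralizer {ι pz} ⊓ centralizer {F} : Subgroup G), k * x * k⁻¹ = d} =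
      {d : G | ∃ a, (InV a ∧ Perm.sign a = 1) ∧ x * ι a = d} := by
    ext d
    constructor
    · rintro ⟨k, hk, rfl⟩
      obtain ⟨hk, -, -⟩ := (hmem k).1 hk
      obtain ⟨a, ha, e | e⟩ := AutSpl'.form h (A_mem hk (AutSpl'.x_mem h))
      · exact absurd ⟨k, e⟩ (no h H ha)
      · exact ⟨a, ⟨ha, (yes h H ha).1 ⟨k, e⟩⟩, e.symm⟩
    · rintro ⟨a, ⟨ha, hs⟩, rfl⟩
      obtain ⟨k, hk, k1, k2, k3⟩ := hc a ha hs
      exact ⟨k, (hmem k).2 ⟨hk, k1, k2⟩, k3⟩
  have h3 : {d : G | ∃ a, (InV a ∧ Perm.sign a = 1) ∧ x * ι a = d}.ncard = 4 := by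
    have : {d : G | ∃ a, (InV a ∧ Perm.sign a = 1) ∧ x * ι a = d} =
        (fun a => x * ι a) '' ((Finset.univ.filter fun a => InV a ∧ Perm.sign a = 1 : Finset (Perm (Fin 6))) : Set _) := by
      ext d
      simp only [Set.mem_image, _root_.Set.mem_ofPred_eq, _root_.Finset.coe_filter, _root_.Finset.mem_univ, _root_.true_and]
    rw [this, Set.ncard_image_of_injective _ (fun a b e => h.xι_inj e), Set.ncard_coe_finset, card_ev]
  have h4 : Nat.card (((NE x ι ⊓ centralizer {ι pz} ⊓ centralizer {F}) ⊓ centralizer {x} : Subgroup G)) = 32 := by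
    rw [card_pair h (fun a => a * pf = pf * a ∧ a * pz = pz * a), card_cfz]
    intro g
    rw [mem_inf, hmem, mem_centralizer_singleton_iff, ← A_eq_iff]
    constructor
    · rintro ⟨⟨g1, g2, -⟩, g3⟩
      obtain ⟨a, ha, e⟩ := stab h g1 g3
      refine ⟨a, ⟨ha, ?_⟩, e⟩
      rcases e with rfl | rfl
      · exact h.comm_ι.1 (A_eq_iff.1 g2)
      · rw [A_mul, A_ι] at g2
        have := A_inv_eq g2
        rw [show A x⁻¹ (ι pz) = ι pz from A_inv_eq (A_x_ι h pz)] at this
        exact mul_inv_eq_iff_eq_mul.1 (h.inj this).symm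
    · rintro ⟨a, ⟨ha, hz⟩, e⟩
      have k1 : A (ι a) x = x := A_ι_x h a
      have k2 : A (ι a) (ι pz) = ι pz := by rw [A_ι, hz, mul_inv_cancel_right]
      have k3 : A (ι a) (ι pf) = ι pf := by rw [A_ι, ha, mul_inv_cancel_right]
      have k4 : A (ι a) F = F := by
        rcases hF with rfl | rfl
        · exact k3
        · rw [map_mul, k1, k3]
      rcases e with rfl | rfl
      · exact ⟨⟨ι_NE h ha, k2, k4⟩, k1⟩
      · have x1 : A x x = x := A_eq_iff.2 rfl
        have x4 : A x F = F := by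
          rcases hF with rfl | rfl
          · exact A_x_ι h _
          · rw [map_mul, x1, A_x_ι h]
        exact ⟨⟨mul_mem (x_NE h) (ι_NE h ha), by rw [A_mul, k2, A_x_ι h], by rw [A_mul, k4, x4]⟩, by
          rw [A_mul, k1, x1]⟩
  rw [h2, h3, h4] at h1
  exact h1

/-! ### `|x^G ∩ C(x)|` -/

theorem card_C [Finite G] : Nat.card (centralizer ({x} : Set G)) = 2880 := by
  have n1 : ∀ a b, ι a * r ≠ x * ι b := by
    intro a b e
    apply h.ne_xr b a
    rw [e, ← mul_assoc, h.xx, one_mul]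
  have n2 : ∀ a b, ι a * r ≠ x * (ι b * r) := by
    intro a b e
    rw [← mul_assoc] at e
    exact h.ne_x a b (mul_right_cancel e)
  have n3 : ∀ a b, x * ι a ≠ x * (ι b * r) := fun a b e => h.ne_r a b (mul_left_cancel e)
  have e : (Bool × Bool) × Perm (Fin 6) ≃ centralizer ({x} : Set G) := Equiv.ofBijective
    (fun p => ⟨(if p.1.1 then x else 1) * (ι p.2 * if p.1.2 then r else 1), by
      rw [mem_centralizer_singleton_iff]
      apply h.mem_cent
      refine ⟨p.2, ?_⟩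
      split_ifs
      · exact Or.inr (Or.inr (Or.inr rfl))
      · rw [mul_one]; exact Or.inr (Or.inl rfl)
      · rw [one_mul]; exact Or.inr (Or.inr (Or.inl rfl))
      · rw [mul_one, one_mul]; exact Or.inl rfl⟩) (by
    constructor
    · rintro ⟨⟨b, b'⟩, p⟩ ⟨⟨c, c'⟩, q⟩ e
      have h1 : (if b then x else 1) * (ι p * if b' then r else 1) = (if c then x else 1) * (ι q * if c' then r else 1) :=
        congrArg Subtype.val e
      have hfin : b = c → b' = c' → p = q → (((b, b'), p) : (Bool × Bool) × Perm (Fin 6)) = ((c, c'), q) := by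
        rintro rfl rfl rfl; rfl
      cases b <;> cases c <;> cases b' <;> cases c' <;>
        simp only [Bool.false_eq_true, if_false, one_mul, mul_one, if_true] at h1
      · exact hfin rfl rfl (h.inj h1)
      · exact absurd h1 (h.ne_r _ _)
      · exact absurd h1.symm (h.ne_r _ _)
      · exact hfin rfl rfl (h.inj (mul_right_cancel h1))
      · exact absurd h1 (h.ne_x _ _)
      · exact absurd h1 (h.ne_xr _ _)
      · exact absurd h1 (n1 _ _)
      · exact absurd h1 (n2 _ _)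
      · exact absurd h1.symm (h.ne_x _ _)
      · exact absurd h1.symm (n1 _ _)
      · exact absurd h1.symm (h.ne_xr _ _)
      · exact absurd h1.symm (n2 _ _)
      · exact hfin rfl rfl (h.xι_inj h1)
      · exact absurd h1 (n3 _ _)
      · exact absurd h1.symm (n3 _ _)
      · exact hfin rfl rfl (h.inj (mul_right_cancel (mul_left_cancel h1)))
    · rintro ⟨g, hg⟩
      obtain ⟨a, hp | hp | hp | hp⟩ := h.cent g (mem_centralizer_singleton_iff.1 hg)
      · exact ⟨((false, false), a), Subtype.ext (by simp [hp])⟩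
      · exact ⟨((true, false), a), Subtype.ext (by simp [hp])⟩
      · exact ⟨((false, true), a), Subtype.ext (by simp [hp])⟩
      · exact ⟨((true, true), a), Subtype.ext (by simp [hp])⟩)
  rw [← Nat.card_congr e, Nat.card_prod, Nat.card_prod, Nat.card_eq_fintype_card (α := Perm (Fin 6)),
    Fintype.card_perm, Fintype.card_fin]
  simp
  rfl

theorem D_sq {d : G} (hD : D x d) : d * d = 1 := by
  obtain ⟨g, rfl⟩ := hD
  rw [← map_mul, h.xx, map_one]

theorem no_all [Finite G] (H : Four x ι) (a : Perm (Fin 6)) : ¬ D x (ι a) := by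
  intro hD
  have h1 : a * a = 1 := h.one_iff.1 (by rw [map_mul]; exact D_sq h hD)
  have key : ∀ b, b * b = 1 → InV b → Cfsg.Agent.OddHalf.D6.Six.sup a = Cfsg.Agent.OddHalf.D6.Six.sup b → False := by
    intro b hb hV hs
    obtain ⟨s, hs⟩ := isConj_iff.1 (Cfsg.Agent.OddHalf.D6.Six.conj_of_sup h1 hb hs)
    apply no h H hV
    rw [← hs, ← A_ι, D_A]
    exact hD
  rcases Cfsg.Agent.OddHalf.D6.Six.sup_cases h1 with e | e | e | e
  · exact key 1 (one_mul 1) V_one (e.trans rfl)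
  · exact key pf (by decide +kernel) V_pf (e.trans Cfsg.Agent.OddHalf.D6.Six.sup_c1.symm)
  · exact key pz (by decide +kernel) V_z (e.trans Cfsg.Agent.OddHalf.D6.Six.sup_c2.symm)
  · exact key (pz * pf) (by decide +kernel) (V_mul V_z V_pf) (e.trans Cfsg.Agent.OddHalf.D6.Six.sup_c3.symm)

theorem inn_count [Finite G] (H : Four x ι) : {a | D x (x * ι a)}.ncard = 46 := by
  rw [Cfsg.Agent.OddHalf.D6.Six.ncard_class (fun a => D x (x * ι a)), if_pos, if_neg, if_pos, if_neg]
  · show ¬ D x (x * ι (pz * pf))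
    rw [yes h H (V_mul V_z V_pf)]
    decide +kernel
  · exact H.even
  · exact H.nxf
  · rw [map_one, mul_one]; exact D_self x
  · intro p hD
    apply h.one_iff.1
    have h1 := D_sq h hD
    rw [map_mul]
    calc ι p * ι p = (x * x) * (ι p * ι p) := by rw [h.xx, one_mul]
      _ = x * (x * ι p) * ι p := by group
      _ = x * (ι p * x) * ι p := by rw [h.comm]
      _ = x * ι p * (x * ι p) := by group
      _ = 1 := h1
  · intro p q hpq hD
    obtain ⟨s, rfl⟩ := isConj_iff.1 hpq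
    have : A (ι s) (x * ι p) = x * ι (s * p * s⁻¹) := by rw [map_mul, A_ι_x h, A_ι]
    rw [← this, D_A]
    exact hD

theorem out_mem {a : Perm (Fin 6)} (hD : D x (ι a * r)) : a * θ a = 1 := by
  have h1 := D_sq h hD
  rw [h.sq_r] at h1
  rcases h.rr with e | e
  · rw [e, mul_one] at h1
    exact h.one_iff.1 h1
  · exfalso
    rw [e] at h1
    apply h.ne (a * θ a)
    rw [eq_inv_of_mul_eq_one_left h1, h.x_inv]

theorem out_iff {a : Perm (Fin 6)} (ha : a * θ a = 1) : D x (ι a * r) ↔ D x r := by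
  obtain ⟨s, rfl⟩ := outer_conj a ha
  have : A (ι s) r = ι (s * (θ s)⁻¹) * r := by
    rw [A_def, map_mul, mul_assoc, mul_assoc]
    congr 1
    rw [← map_inv ι s, h.rι, map_inv]
  rw [← this, D_A]

theorem out_count [Finite G] : {a | D x (ι a * r)}.ncard = 0 ∨ {a | D x (ι a * r)}.ncard = 36 := by
  by_cases hr : D x r
  · right
    have : {a | D x (ι a * r)} = ((Finset.univ.filter fun a : Perm (Fin 6) => a * θ a = 1 : Finset _) : Set _) := by
      ext a
      simp only [Set.mem_ofPred_eq, Finset.coe_filter, Finset.mem_univ, true_and]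
      exact ⟨out_mem h, fun e => (out_iff h e).2 hr⟩
    rw [this, Set.ncard_coe_finset, outer_card]
  · left
    have : {a | D x (ι a * r)} = ∅ := by
      ext a
      simp only [Set.mem_ofPred_eq, Set.mem_empty_iff_false, iff_false]
      intro hD
      exact hr ((out_iff h (out_mem h hD)).1 hD)
    rw [this, Set.ncard_empty]

theorem out_count' [Finite G] :
    {a | D x (x * (ι a * r))}.ncard = 0 ∨ {a | D x (x * (ι a * r))}.ncard = 36 := by
  have : ∀ a, x * (ι a * r) = ι a * (x * r) := by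
    intro a
    rw [← mul_assoc, h.comm, mul_assoc]
  simp only [this]
  exact out_count h.xr

theorem count [Finite G] (H : Four x ι) : ∃ e, {d : G | IsConj x d ∧ d * x = x * d}.ncard = 46 + 36 * e := by
  have h1 : {d : G | IsConj x d ∧ d * x = x * d} = ((fun a => x * ι a) '' {a | D x (x * ι a)} ∪
      (fun a => ι a * r) '' {a | D x (ι a * r)}) ∪ (fun a => x * (ι a * r)) '' {a | D x (x * (ι a * r))} := by
    ext d
    simp only [Set.mem_ofPred_eq, Set.mem_union, Set.mem_image]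
    have hDd : IsConj x d ↔ D x d := isConj_iff
    rw [hDd]
    constructor
    · rintro ⟨hD, hd⟩
      obtain ⟨a, rfl | rfl | rfl | rfl⟩ := h.cent d hd
      · exact absurd hD (no_all h H a)
      · exact Or.inl (Or.inl ⟨a, hD, rfl⟩)
      · exact Or.inl (Or.inr ⟨a, hD, rfl⟩)
      · exact Or.inr ⟨a, hD, rfl⟩
    · rintro ((⟨a, hD, rfl⟩ | ⟨a, hD, rfl⟩) | ⟨a, hD, rfl⟩)
      · exact ⟨hD, h.mem_cent _ ⟨a, Or.inr (Or.inl rfl)⟩⟩
      · exact ⟨hD, h.mem_cent _ ⟨a, Or.inr (Or.inr (Or.inl rfl))⟩⟩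
      · exact ⟨hD, h.mem_cent _ ⟨a, Or.inr (Or.inr (Or.inr rfl))⟩⟩
  rw [h1, Set.ncard_union_eq, Set.ncard_union_eq, Set.ncard_image_of_injective, Set.ncard_image_of_injective,
    Set.ncard_image_of_injective, inn_count h H]
  · rcases out_count h with e | e <;> rcases out_count' h with e' | e' <;> rw [e, e']
    · exact ⟨0, rfl⟩
    · exact ⟨1, rfl⟩
    · exact ⟨1, rfl⟩
    · exact ⟨2, rfl⟩
  · exact fun a b e => h.inj (mul_right_cancel (mul_left_cancel e))
  · exact fun a b e => h.inj (mul_right_cancel e)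
  · exact fun a b e => h.xι_inj e
  · rw [Set.disjoint_left]
    rintro _ ⟨a, -, rfl⟩ ⟨b, -, e⟩
    apply h.ne_xr a b
    have e : ι b * r = x * ι a := e
    rw [e, ← mul_assoc, h.xx, one_mul]
  · rw [Set.disjoint_left]
    rintro _ (⟨a, -, rfl⟩ | ⟨a, -, rfl⟩) ⟨b, -, e⟩
    · exact h.ne_r a b (mul_left_cancel e).symm
    · have e : x * (ι b * r) = ι a * r := e
      rw [← mul_assoc] at e
      exact h.ne_x a b (mul_right_cancel e).symm

/-- **`x^G ∩ E₁ = x V₁` is impossible** -/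
theorem false_of [Finite G] (H : Four x ι) (hG : ∀ (m : G →* ℤˣ) (g : G), m g = 1)
    (hZ : ∀ S : Sylow 2 G, Nat.card (center S) ≤ 2) : False := by
  obtain ⟨F, hF, hc⟩ := exF h H
  have hcard := card_H h H hF hc
  obtain ⟨k, hk⟩ := Cfsg.Agent.OddHalf.D6.Six.Parity.four_dvd hG h.xx
  obtain ⟨e, he⟩ := count h H
  have hcG := Cfsg.Agent.OddHalf.D6.Six.Parity.card_conj x
  rw [hk, he, card_C h] at hcG
  have hzz : (NE x ι ⊓ centralizer {ι pz} ⊓ centralizer {F} : Subgroup G) ≤ centralizer {ι pz} :=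
    inf_le_left.trans inf_le_right
  have hFF : (NE x ι ⊓ centralizer {ι pz} ⊓ centralizer {F} : Subgroup G) ≤ centralizer {F} := inf_le_right
  have hzF : ι pz * F = F * ι pz := by
    rcases hF with rfl | rfl
    · exact zf h
    · rw [← mul_assoc, h.comm', mul_assoc, zf h, mul_assoc]
  have hzH : ι pz ∈ (NE x ι ⊓ centralizer {ι pz} ⊓ centralizer {F} : Subgroup G) := by
    refine ⟨⟨ι_NE h (V_f _ V_z), mem_centralizer_singleton_iff.2 rfl⟩, mem_centralizer_singleton_iff.2 hzF⟩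
  have hFH : F ∈ (NE x ι ⊓ centralizer {ι pz} ⊓ centralizer {F} : Subgroup G) := by
    refine ⟨⟨?_, mem_centralizer_singleton_iff.2 hzF.symm⟩, mem_centralizer_singleton_iff.2 rfl⟩
    rcases hF with rfl | rfl
    · exact ι_NE h rfl
    · exact mul_mem (x_NE h) (ι_NE h rfl)
  generalize (NE x ι ⊓ centralizer {ι pz} ⊓ centralizer {F} : Subgroup G) = K at *
  obtain ⟨Q, hQ⟩ := (IsPGroup.of_card (p := 2) (n := 7) hcard).exists_le_sylow
  have hQK : K = Q := by
    apply Subgroup.eq_of_le_of_card_ge hQ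
    obtain ⟨n, hn⟩ := IsPGroup.iff_card.1 Q.isPGroup'
    have h1 : 2 ^ n ∣ Nat.card G := by rw [← hn]; exact Subgroup.card_subgroup_dvd_card _
    have h2 : Nat.card G = 128 * (45 * (23 + 18 * e + 2 * k)) := by rw [hcG]; ring
    rw [h2] at h1
    have h3 : Nat.Coprime (2 ^ n) (45 * (23 + 18 * e + 2 * k)) := by
      apply Nat.Coprime.pow_left
      rw [Nat.coprime_two_left, Nat.odd_iff]
      omega
    have h4 := Nat.le_of_dvd (by norm_num) (h3.dvd_of_dvd_mul_right h1)
    rw [hcard]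
    show Nat.card (Q : Subgroup G) ≤ 128
    rw [hn]; exact h4
  have h1 := hZ Q
  have hzQ : ι pz ∈ (Q : Subgroup G) := by rw [← hQK]; exact hzH
  have hFQ : F ∈ (Q : Subgroup G) := by rw [← hQK]; exact hFH
  have c1 : (⟨ι pz, hzQ⟩ : (Q : Subgroup G)) ∈ center (Q : Subgroup G) := by
    rw [mem_center_iff]
    rintro ⟨g, hg⟩
    rw [← hQK] at hg
    exact Subtype.ext (mem_centralizer_singleton_iff.1 (hzz hg))
  have c2 : (⟨F, hFQ⟩ : (Q : Subgroup G)) ∈ center (Q : Subgroup G) := by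
    rw [mem_center_iff]
    rintro ⟨g, hg⟩
    rw [← hQK] at hg
    exact Subtype.ext (mem_centralizer_singleton_iff.1 (hFF hg))
  have n1 : ι pz ≠ 1 := by
    rw [Ne, h.one_iff]; decide +kernel
  have n2 : F ≠ 1 := by
    rcases hF with rfl | rfl
    · rw [Ne, h.one_iff]; decide +kernel
    · intro e
      exact ne_mul h pf 1 (e.trans (map_one _).symm)
  have n3 : ι pz ≠ F := by
    rcases hF with rfl | rfl
    · intro e
      have := h.inj e
      revert this; decide +kernel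
    · exact h.ne_x _ _
  classical
  have : Fintype (center (Q : Subgroup G)) := Fintype.ofFinite _
  let s : Finset (center (Q : Subgroup G)) := {1, ⟨_, c1⟩, ⟨_, c2⟩}
  have hs : s.card = 3 := by
    rw [Finset.card_eq_three]
    refine ⟨1, ⟨_, c1⟩, ⟨_, c2⟩, ?_, ?_, ?_, rfl⟩
    · intro e; exact n1 (congrArg (fun t : center (Q : Subgroup G) => ((t : (Q : Subgroup G)) : G)) e).symm
    · intro e; exact n2 (congrArg (fun t : center (Q : Subgroup G) => ((t : (Q : Subgroup G)) : G)) e).symm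
    · intro e; exact n3 (congrArg (fun t : center (Q : Subgroup G) => ((t : (Q : Subgroup G)) : G)) e)
  have h5 := Finset.card_le_univ s
  rw [hs, ← Nat.card_eq_fintype_card] at h5
  have h6 : Nat.card (center (Q : Subgroup G)) ≤ 2 := h1
  omega

end

end Cfsg.Agent.OddHalf.D5.SixAut.ModFour
end

-- part: OddHalf/D5/SixAut/HsxFrame
section
/-!
# ODD D5, `K = A₆`, `C(x)/⟨x⟩ = Aut(A₆)`, case (HSx): the configuration `HX` from `AutSpl` (helper383)
-/

set_option autoImplicit false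
set_option linter.unusedSectionVars false

namespace Cfsg.Agent.OddHalf.D5.SixAut

open Equiv

namespace HsxFrame

open DblNorm

variable {G : Type*} [Group G] {x r : G} {ι : Perm (Fin 6) →* G}

theorem v2_pc : pv2 * pc = pc⁻¹ * pv2 := by decide +kernel
theorem v2_pc' : pv2 * pc⁻¹ = pc * pv2 := by decide +kernel
theorem v2_f : pv2 * pf = pf * pv2 := by decide +kernel
theorem v2_v1 : pv2 * pv1 = pv1 * (pv2 * pz) := by decide +kernel
theorem f_pc : pc⁻¹ * pf * pc = pf := by decide +kernel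
theorem fix_CL : ∀ q : Perm (Fin 6), CU q → q * pv2 = pv2 * q → θ q = q → q = 1 ∨ q = pz := by (delta CU; simp only [↓Cfsg.Agent.PermCode.M, Cfsg.Agent.PermCode.P6.R, Cfsg.Agent.PermCode.B]; decide +kernel)

variable (h : AutSpl x ι r)
include h

theorem w_w : ι pv2 * ι pv2 = 1 := by rw [← map_mul, v22, map_one]

theorem f_ne1 : ι pf ≠ 1 := fun e => f_ne (h.one_iff.1 e)
theorem z_ne1 : ι pz ≠ 1 := fun e => z_ne (h.one_iff.1 e)

/-- conjugating with `v₂` -/
theorem mv_v2 {b : G} (m : Mv x ι b pf) : Mv x ι (ι pv2 * b * ι pv2) pf := by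
  have key : ∀ q, CU q → ι pv2 * b * ι pv2 * ι q = ι q * (ι pv2 * b * ι pv2) := by
    intro q hq
    have e1 : ι pv2 * ι q = ι (pv2 * q * pv2) * ι pv2 := by
      rw [← map_mul, ← map_mul, mul_assoc _ pv2, v22, mul_one]
    have e2 : ι pv2 * ι (pv2 * q * pv2) = ι q * ι pv2 := by
      rw [← map_mul, ← map_mul]
      congr 1
      calc pv2 * (pv2 * q * pv2) = (pv2 * pv2) * q * pv2 := by group
        _ = q * pv2 := by rw [v22, one_mul]
    calc ι pv2 * b * ι pv2 * ι q = ι pv2 * b * (ι pv2 * ι q) := by group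
      _ = ι pv2 * (b * ι (pv2 * q * pv2)) * ι pv2 := by rw [e1]; group
      _ = (ι pv2 * ι (pv2 * q * pv2)) * b * ι pv2 := by rw [m.comm (CU_v2 q hq)]; group
      _ = ι q * (ι pv2 * b * ι pv2) := by rw [e2]; group
  refine ⟨key _ CU_f, key _ CU_z, key _ CU_v1, ?_⟩
  have wi : (ι pv2)⁻¹ = ι pv2 := inv_eq_of_mul_eq_one_left (w_w h)
  have wx : ι pv2 * x * ι pv2 = x := by rw [← h.comm, mul_assoc, w_w h, mul_one]
  calc ι pv2 * b * ι pv2 * x * (ι pv2 * b * ι pv2)⁻¹
      = ι pv2 * (b * (ι pv2 * x * (ι pv2)⁻¹) * b⁻¹) * (ι pv2)⁻¹ := by group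
    _ = ι pv2 * (b * x * b⁻¹) * ι pv2 := by rw [wi, wx]
    _ = (ι pv2 * x * ι pv2) * (ι pv2 * ι pf * ι pv2) := by
        rw [m.x]
        calc ι pv2 * (x * ι pf) * ι pv2 = ι pv2 * x * 1 * ι pf * ι pv2 := by group
          _ = ι pv2 * x * (ι pv2 * ι pv2) * ι pf * ι pv2 := by rw [w_w h]
          _ = _ := by group
    _ = x * ι pf := by
        rw [wx, ← map_mul, ← map_mul, v2_f, mul_assoc, v22, mul_one]

/-- **`[b, v₂] = f`** -/
theorem v2b {b : G} (mb : Mv x ι b pf) (bc : b * ι pc = ι pc * b) (bb : b * b = 1)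
    (hz : ∀ g, ¬ Mv x ι g pz) : ι pv2 * b = b * (ι pv2 * ι pf) := by
  have mg := mv_v2 h mb
  have gc : ι pv2 * b * ι pv2 * ι pc = ι pc * (ι pv2 * b * ι pv2) := by
    have bc' : b * ι pc⁻¹ = ι pc⁻¹ * b := by
      rw [map_inv, eq_inv_mul_iff_mul_eq, ← mul_assoc, ← bc, mul_inv_cancel_right]
    calc ι pv2 * b * ι pv2 * ι pc = ι pv2 * b * ι (pv2 * pc) := by rw [map_mul]; group
      _ = ι pv2 * (b * ι pc⁻¹) * ι pv2 := by rw [v2_pc, map_mul]; group
      _ = ι (pv2 * pc⁻¹) * b * ι pv2 := by rw [bc', map_mul]; group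
      _ = ι pc * (ι pv2 * b * ι pv2) := by rw [v2_pc', map_mul]; group
  have gg : ι pv2 * b * ι pv2 * (ι pv2 * b * ι pv2) = 1 := by
    calc ι pv2 * b * ι pv2 * (ι pv2 * b * ι pv2) = ι pv2 * b * (ι pv2 * ι pv2) * b * ι pv2 := by group
      _ = ι pv2 * (b * b) * ι pv2 := by rw [w_w h]; group
      _ = 1 := by rw [bb, mul_one, w_w h]
  obtain ⟨q, hq, e⟩ := mv_quot h mb mg
  rcases e with e | e
  · have qc : q * pc = pc * q := by
      apply h.comm_ι.1
      have e1 : ι q = b⁻¹ * (ι pv2 * b * ι pv2) := by rw [e, inv_mul_cancel_left]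
      rw [e1, mul_assoc, gc, ← mul_assoc]
      have : b⁻¹ * ι pc = ι pc * b⁻¹ := by
        rw [inv_mul_eq_iff_eq_mul, ← mul_assoc, bc, mul_inv_cancel_right]
      rw [this, mul_assoc]
    rcases CU_cent_c q hq qc with rfl | rfl
    · exfalso
      rw [map_one, mul_one] at e
      have wb : ι pv2 * b = b * ι pv2 := by
        calc ι pv2 * b = (ι pv2 * b * ι pv2) * ι pv2 := by rw [mul_assoc _ (ι pv2), w_w h, mul_one]
          _ = b * ι pv2 := by rw [e]
      -- `b b^r` moves `x` to `x z`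
      have c1 := r_comm h mb.z
      rw [θ_z] at c1
      have c2 := r_comm h mb.f
      rw [θ_f] at c2
      have c3 := r_comm h wb.symm
      rw [θ_v2] at c3
      have c4 := r_x h mb.x
      rw [θ_f] at c4
      have mc : Mv x ι (r * b * r⁻¹) (pf * pz) := ⟨comm_f h c2 c1, c1, c3, c4⟩
      have := mb.mul mc (CU_mul CU_f CU_z)
      have e5 : pf * (pf * pz) = pz := by rw [← mul_assoc, ff, one_mul]
      rw [e5] at this
      exact hz _ this
    · calc ι pv2 * b = (ι pv2 * b * ι pv2) * ι pv2 := by rw [mul_assoc _ (ι pv2), w_w h, mul_one]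
        _ = b * (ι pf * ι pv2) := by rw [e, mul_assoc]
        _ = b * (ι pv2 * ι pf) := by rw [← map_mul, ← v2_f, map_mul]
  · exfalso
    rw [e] at gg
    apply f_ne1 h
    have bi : b⁻¹ = b := inv_eq_of_mul_eq_one_left bb
    have e1 : b * x * b = x * ι pf := by rw [← mb.x, bi]
    have e2 := mb.comm hq
    have e3 : ι q * ι q = 1 := by rw [← map_mul, CU_sq q hq, map_one]
    calc ι pf = x * x * ι pf := by rw [h.xx, one_mul]
      _ = x * (x * ι pf) := by group
      _ = x * (b * x * b) * (ι q * ι q) := by rw [e1, e3, mul_one]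
      _ = x * (b * x) * (b * ι q) * ι q := by group
      _ = x * (b * (x * ι q)) * b * ι q := by rw [e2]; group
      _ = x * (b * (x * ι q) * (b * (x * ι q))) * x⁻¹ := by
          have : ι q * x⁻¹ = x⁻¹ * ι q := by rw [h.x_inv, h.comm]
          calc x * (b * (x * ι q)) * b * ι q = x * (b * (x * ι q)) * b * x * (x⁻¹ * ι q) := by group
            _ = x * (b * (x * ι q)) * b * x * (ι q * x⁻¹) := by rw [this]
            _ = x * (b * (x * ι q) * (b * (x * ι q))) * x⁻¹ := by group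
      _ = 1 := by rw [gg, mul_one, mul_inv_cancel]

/-- **`[b, b^r] ∈ ⟨z⟩`** -/
theorem cb {b : G} (mb : Mv x ι b pf) (bb : b * b = 1) (wb : ι pv2 * b = b * (ι pv2 * ι pf)) :
    r * b * r⁻¹ * b = b * (r * b * r⁻¹) ∨ r * b * r⁻¹ * b = b * (r * b * r⁻¹ * ι pz) := by
  set c := r * b * r⁻¹ with hc
  have bi : b⁻¹ = b := inv_eq_of_mul_eq_one_left bb
  have cc : c * c = 1 := by
    calc c * c = r * (b * b) * r⁻¹ := by rw [hc]; group
      _ = 1 := by rw [bb, mul_one, mul_inv_cancel]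
  have cz := r_comm h mb.z
  rw [θ_z, ← hc] at cz
  have c2 := r_comm h mb.f
  rw [θ_f, ← hc] at c2
  have cf : c * ι pf = ι pf * c := comm_f h c2 cz
  have cw := r_comm h mb.v1
  rw [θ_v1, ← hc] at cw
  have cx := r_x h mb.x
  rw [θ_f, ← hc] at cx
  have ffι : ι pf * ι pf = 1 := by rw [← map_mul, ff, map_one]
  have zzι : ι pz * ι pz = 1 := by rw [← map_mul, zz, map_one]
  have fzι : ι pf * ι pz = ι pz * ι pf := by rw [← map_mul, fz, map_mul]
  -- `v₁ c v₁ = c f z`
  have vc : ι pv1 * c = c * (ι pv1 * (ι pf * ι pz)) := by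
    have e1 : r * (ι pv2 * b) * r⁻¹ = ι pv1 * c := by
      calc r * (ι pv2 * b) * r⁻¹ = (r * ι pv2 * r⁻¹) * (r * b * r⁻¹) := by group
        _ = ι pv1 * c := by rw [h.conj, θ_v2]
    have e2 : r * (b * (ι pv2 * ι pf)) * r⁻¹ = c * (ι pv1 * (ι pf * ι pz)) := by
      calc r * (b * (ι pv2 * ι pf)) * r⁻¹ = (r * b * r⁻¹) * ((r * ι pv2 * r⁻¹) * (r * ι pf * r⁻¹)) := by group
        _ = c * (ι pv1 * (ι pf * ι pz)) := by rw [h.conj, h.conj, θ_v2, θ_f, map_mul]
    rw [← e1, wb, e2]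
  set k := b * c * (b * c) with hk
  have kz : k * ι pz = ι pz * k := by
    have h1 : Commute b (ι pz) := mb.z
    have h2 : Commute c (ι pz) := cz
    exact ((h1.mul_left h2).mul_left (h1.mul_left h2)).eq
  have kf : k * ι pf = ι pf * k := by
    have h1 : Commute b (ι pf) := mb.f
    have h2 : Commute c (ι pf) := cf
    exact ((h1.mul_left h2).mul_left (h1.mul_left h2)).eq
  have bcx : b * c * x * (b * c)⁻¹ = x * ι pz := by
    calc b * c * x * (b * c)⁻¹ = b * (c * x * c⁻¹) * b⁻¹ := by group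
      _ = (b * x * b⁻¹) * (b * ι pf * b⁻¹) * (b * ι pz * b⁻¹) := by rw [cx, map_mul]; group
      _ = x * (ι pf * ι pf) * ι pz := by
          rw [mb.x, mb.f, mb.z, mul_inv_cancel_right, mul_inv_cancel_right]; group
      _ = x * ι pz := by rw [ffι, mul_one]
  have bcz : b * c * ι pz * (b * c)⁻¹ = ι pz := by
    have h1 : Commute b (ι pz) := mb.z
    have h2 : Commute c (ι pz) := cz
    rw [(h1.mul_left h2).eq, mul_inv_cancel_right]
  have kx : k * x = x * k := by
    rw [← mul_inv_eq_iff_eq_mul]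
    calc k * x * k⁻¹ = b * c * (b * c * x * (b * c)⁻¹) * (b * c)⁻¹ := by rw [hk]; group
      _ = b * c * (x * ι pz) * (b * c)⁻¹ := by rw [bcx]
      _ = (b * c * x * (b * c)⁻¹) * (b * c * ι pz * (b * c)⁻¹) := by group
      _ = x := by rw [bcx, bcz, mul_assoc, zzι, mul_one]
  obtain ⟨q, qz, qf, e⟩ := cent_l h kx kz kf
  -- commuting with `v₁`, `v₂`
  have kv : ι pv1 * k = k * ι pv1 := by
    have h1 : ι pv1 * b = b * ι pv1 := mb.v1.symm
    have h2 : ι pf * ι pz * (b * c) = b * c * (ι pf * ι pz) := by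
      have a1 : Commute b (ι pz) := mb.z
      have a2 : Commute c (ι pz) := cz
      have a3 : Commute b (ι pf) := mb.f
      have a4 : Commute c (ι pf) := cf
      exact ((a3.mul_left a4).mul_right (a1.mul_left a2)).eq.symm
    have h3 : ι pf * ι pz * (ι pf * ι pz) = 1 := by
      calc ι pf * ι pz * (ι pf * ι pz) = ι pf * (ι pz * ι pf) * ι pz := by group
        _ = (ι pf * ι pf) * (ι pz * ι pz) := by rw [← fzι]; group
        _ = 1 := by rw [ffι, zzι, one_mul]
    have h4 : ι pv1 * (b * c) = b * c * (ι pv1 * (ι pf * ι pz)) := by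
      calc ι pv1 * (b * c) = b * (ι pv1 * c) := by rw [← mul_assoc, h1, mul_assoc]
        _ = _ := by rw [vc]; group
    calc ι pv1 * k = (ι pv1 * (b * c)) * (b * c) := by rw [hk]; group
      _ = b * c * ι pv1 * (ι pf * ι pz * (b * c)) := by rw [h4]; group
      _ = b * c * (ι pv1 * (b * c)) * (ι pf * ι pz) := by rw [h2]; group
      _ = k * ι pv1 * (ι pf * ι pz * (ι pf * ι pz)) := by rw [h4, hk]; group
      _ = k * ι pv1 := by rw [h3, mul_one]
  have kw : ι pv2 * k = k * ι pv2 := by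
    have h2 : ι pf * (b * c) = b * c * ι pf := by
      have a3 : Commute b (ι pf) := mb.f
      have a4 : Commute c (ι pf) := cf
      exact (a3.mul_left a4).eq.symm
    have h4 : ι pv2 * (b * c) = b * c * (ι pv2 * ι pf) := by
      calc ι pv2 * (b * c) = b * (ι pv2 * (ι pf * c)) := by rw [← mul_assoc, wb]; group
        _ = b * (ι pv2 * c) * ι pf := by rw [← cf]; group
        _ = b * c * (ι pv2 * ι pf) := by rw [← cw]; group
    calc ι pv2 * k = (ι pv2 * (b * c)) * (b * c) := by rw [hk]; group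
      _ = b * c * ι pv2 * (ι pf * (b * c)) := by rw [h4]; group
      _ = b * c * (ι pv2 * (b * c)) * ι pf := by rw [h2]; group
      _ = k * ι pv2 * (ι pf * ι pf) := by rw [h4, hk]; group
      _ = k * ι pv2 := by rw [ffι, mul_one]
  have strip : ∀ a, ι a * k = k * ι a → q * a = a * q := by
    intro a ha
    rcases e with e | e
    · rw [e] at ha
      exact h.comm_ι.1 ha.symm
    · rw [e] at ha
      have h1 : ι a * (x * ι q) = x * (ι a * ι q) := by
        rw [← mul_assoc, ← h.comm, mul_assoc]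
      rw [h1, mul_assoc] at ha
      exact h.comm_ι.1 (mul_left_cancel ha).symm
  have qU : CU q := ⟨qf, qz, strip _ kv⟩
  have q2 := strip _ kw
  have qq : ι q * ι q = 1 := by rw [← map_mul, CU_sq q qU, map_one]
  have bk : b * k * b⁻¹ = k⁻¹ := by
    rw [bi]
    calc b * k * b = (b * b) * (c * b * (c * b)) := by rw [hk]; group
      _ = c⁻¹ * b⁻¹ * (c⁻¹ * b⁻¹) := by
          rw [bb, one_mul, bi, inv_eq_of_mul_eq_one_left cc]
      _ = k⁻¹ := by rw [hk]; group
  have bq : b * ι q * b⁻¹ = ι q := by rw [mb.comm qU, mul_inv_cancel_right]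
  rcases e with e | e
  · have rc : r * c * r⁻¹ = b ∨ r * c * r⁻¹ = b * ι pf := by
      have e1 : r * c * r⁻¹ = (r * r) * b * (r * r)⁻¹ := by rw [hc]; group
      rcases h.rr with e2 | e2
      · left; rw [e1, e2]; group
      · right
        rw [e1, e2, h.x_inv]
        have e3 : b * x * b = x * ι pf := by rw [← mb.x, bi]
        calc x * b * x = (b * b) * x * b * x := by rw [bb, one_mul]
          _ = b * (b * x * b) * x := by group
          _ = b * (x * (ι pf * x)) := by rw [e3]; group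
          _ = b * (x * x * ι pf) := by rw [h.comm']; group
          _ = b * ι pf := by rw [h.xx, one_mul]
    have rk : r * k * r⁻¹ = k⁻¹ := by
      have e1 : r * k * r⁻¹ = c * (r * c * r⁻¹) * (c * (r * c * r⁻¹)) := by rw [hk, hc]; group
      have e2 : k⁻¹ = c * b * (c * b) := by
        rw [hk, mul_inv_rev, mul_inv_rev, bi, inv_eq_of_mul_eq_one_left cc]
      rw [e1, e2]
      rcases rc with e3 | e3
      · rw [e3]
      · rw [e3]
        calc c * (b * ι pf) * (c * (b * ι pf)) = c * b * (ι pf * c) * b * ι pf := by group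
          _ = c * b * c * (ι pf * b) * ι pf := by rw [← cf]; group
          _ = c * b * (c * b) * (ι pf * ι pf) := by rw [← mb.f]; group
          _ = _ := by rw [ffι, mul_one]
    rw [e, h.conj, inv_eq_of_mul_eq_one_left qq] at rk
    rcases fix_CL q qU q2 (h.inj rk) with e3 | e3
    · left
      rw [e3, map_one] at e
      have e4 : c * b = (b * c)⁻¹ := by rw [mul_inv_rev, bi, inv_eq_of_mul_eq_one_left cc]
      rw [e4]
      exact (eq_inv_of_mul_eq_one_left (hk.symm.trans e)).symm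
    · right
      rw [e3] at e
      have e4 : c * b = (b * c)⁻¹ := by rw [mul_inv_rev, bi, inv_eq_of_mul_eq_one_left cc]
      have e5 : b * c = ι pz * (b * c)⁻¹ := by
        rw [eq_mul_inv_iff_mul_eq]; exact hk.symm.trans e
      have e6 : (b * c)⁻¹ * ι pz = ι pz * (b * c)⁻¹ := by
        have a1 : Commute b (ι pz) := mb.z
        have a2 : Commute c (ι pz) := cz
        exact ((a1.mul_left a2).inv_left).eq
      calc c * b = (b * c)⁻¹ * (ι pz * ι pz) := by rw [zzι, mul_one, e4]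
        _ = (ι pz * (b * c)⁻¹) * ι pz := by rw [← mul_assoc, e6]
        _ = b * (c * ι pz) := by rw [← e5]; group
  · exfalso
    apply f_ne1 h
    have ki : k⁻¹ = k := by
      rw [e]
      apply inv_eq_of_mul_eq_one_left
      calc x * ι q * (x * ι q) = x * (ι q * x) * ι q := by group
        _ = (x * x) * (ι q * ι q) := by rw [h.comm']; group
        _ = 1 := by rw [h.xx, qq, one_mul]
    rw [ki, e] at bk
    have e2 : b * (x * ι q) * b⁻¹ = x * ι pf * ι q := by
      calc b * (x * ι q) * b⁻¹ = (b * x * b⁻¹) * (b * ι q * b⁻¹) := by group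
        _ = x * ι pf * ι q := by rw [mb.x, bq]
    rw [e2] at bk
    have e3 : x * ι pf = x := mul_right_cancel bk
    exact mul_eq_left.1 e3

theorem inT0 {g : G} (hx : g * x = x * g) (hf : g * ι pf = ι pf * g) (hz : g * ι pz = ι pz * g) :
    InT0 x (ι pz) (ι pf) (ι pv1) (ι pv2) g := by
  obtain ⟨q, qz, qf, e⟩ := cent_l h hx hz hf
  obtain ⟨i, j, k, l, e1⟩ := cent_zf q qz qf
  have key : ∃ a c d : G, (a = 1 ∨ a = ι pv1) ∧ (c = 1 ∨ c = ι pv2) ∧ InL (ι pz) (ι pf) d ∧ ι q = a * (c * d) := by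
    have comm : ∀ a c : Perm (Fin 6), (a = 1 ∨ a = pv1) → (c = 1 ∨ c = pv2) → ∀ d : Perm (Fin 6),
        (d = 1 ∨ d = pf ∨ d = pz ∨ d = pf * pz) → d * (a * c) = a * (c * d) := by
      have a1 : ∀ d : Perm (Fin 6), (d = 1 ∨ d = pf ∨ d = pz ∨ d = pf * pz) → d * pv1 = pv1 * d ∧ d * pv2 = pv2 * d := by
        simp only [↓Cfsg.Agent.PermCode.M, Cfsg.Agent.PermCode.P6.R, Cfsg.Agent.PermCode.B]
        decide +kernel
      intro a c ha hc d hd
      obtain ⟨b1, b2⟩ := a1 d hd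
      rcases ha with rfl | rfl <;> rcases hc with rfl | rfl
      · group
      · rw [one_mul, one_mul, b2]
      · rw [mul_one, one_mul, b1]
      · rw [← mul_assoc, b1, mul_assoc, b2]
    have e2 : q = (pf ^ (i : ℕ) * pz ^ (j : ℕ)) * (pv1 ^ (k : ℕ) * pv2 ^ (l : ℕ)) := by rw [e1]; group
    have hk : pv1 ^ (k : ℕ) = 1 ∨ pv1 ^ (k : ℕ) = pv1 := by
      fin_cases k
      · left; simp
      · right; simp
    have hl : pv2 ^ (l : ℕ) = 1 ∨ pv2 ^ (l : ℕ) = pv2 := by
      fin_cases l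
      · left; simp
      · right; simp
    have hd : (pf ^ (i : ℕ) * pz ^ (j : ℕ)) = 1 ∨ (pf ^ (i : ℕ) * pz ^ (j : ℕ)) = pf ∨
        (pf ^ (i : ℕ) * pz ^ (j : ℕ)) = pz ∨ (pf ^ (i : ℕ) * pz ^ (j : ℕ)) = pf * pz := by
      (revert i j; simp only [_root_.Fin.forall_fin_succ, Fin.isValue, _root_.Fin.coe_ofNat_eq_mod, _root_.Nat.zero_mod, _root_.pow_zero, _root_.one_mul, _root_.mul_one, _root_.forall_self_imp, _root_.Fin.val_succ, _root_.Fin.val_eq_zero, _root_.zero_add, _root_.pow_one, _root_.mul_eq_right, _root_.mul_left_inj, _root_.forall_const, _root_.true_or, _root_.implies_true, _root_.or_true, _root_.and_self, _root_.left_eq_mul, _root_.mul_eq_left])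
    refine ⟨ι (pv1 ^ (k : ℕ)), ι (pv2 ^ (l : ℕ)), ι (pf ^ (i : ℕ) * pz ^ (j : ℕ)), ?_, ?_, ?_, ?_⟩
    · rcases hk with e | e
      · left; rw [e, map_one]
      · right; rw [e]
    · rcases hl with e | e
      · left; rw [e, map_one]
      · right; rw [e]
    · rcases hd with e | e | e | e
      · left; rw [e, map_one]
      · right; right; left; rw [e]
      · right; left; rw [e]
      · right; right; right; rw [e, map_mul]
    · rw [e2, comm _ _ hk hl _ hd, map_mul, map_mul]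
  obtain ⟨a, c, d, ha, hc, hd, e3⟩ := key
  rcases e with e | e
  · exact ⟨1, a, c, d, Or.inl rfl, ha, hc, hd, by rw [e, e3, one_mul]⟩
  · exact ⟨x, a, c, d, Or.inr rfl, ha, hc, hd, by rw [e, e3]⟩

/-- **the configuration (HSx)** -/
theorem exists_HX (hf : ∃ g, Mv x ι g pf) (hm : ∃ m, m * ι pf = ι pf * m ∧ m * ι pz * m⁻¹ = ι pf * ι pz)
    (tr : ∀ g, g * ι pf = ι pf * g → g * ι pz = ι pz * g → g * ι pv1 = ι pv1 * g →
      (∃ l, InL (ι pz) (ι pf) l ∧ (g * x * g⁻¹ = x * l ∨ g * x * g⁻¹ = x * (ι pv1 * l))) →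
      g * x * g⁻¹ = x ∨ g * x * g⁻¹ = x * ι pf) :
    ∃ b c d m, HX x (ι pz) (ι pf) (ι pv1) (ι pv2) b c r d m := by
  obtain ⟨b, mb, bc, bb⟩ := exists_b h hf
  have hz : ∀ g, ¬ Mv x ι g pz := by
    intro g mg
    rcases tr g mg.f mg.z mg.v1 ⟨ι pz, Or.inr (Or.inl rfl), Or.inl mg.x⟩ with e | e
    · rw [mg.x] at e
      exact z_ne1 h (mul_eq_left.1 e)
    · rw [mg.x] at e
      exact f_ne_z (h.inj (mul_left_cancel e)).symm
  have wb := v2b h mb bc bb hz
  have hcb := cb h mb bb wb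
  obtain ⟨m, mf, mz⟩ := hm
  have bi : b⁻¹ = b := inv_eq_of_mul_eq_one_left bb
  have e0 : b * x * b = x * ι pf := by rw [← mb.x, bi]
  have cz := r_comm h mb.z
  rw [θ_z] at cz
  have c2 := r_comm h mb.f
  rw [θ_f] at c2
  have cf : (r * b * r⁻¹) * ι pf = ι pf * (r * b * r⁻¹) := comm_f h c2 cz
  have cw := r_comm h mb.v1
  rw [θ_v1] at cw
  have cx := r_x h mb.x
  rw [θ_f, map_mul] at cx
  have cc : (r * b * r⁻¹) * (r * b * r⁻¹) = 1 := by
    calc (r * b * r⁻¹) * (r * b * r⁻¹) = r * (b * b) * r⁻¹ := by group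
      _ = 1 := by rw [bb, mul_one, mul_inv_cancel]
  have ci : (r * b * r⁻¹)⁻¹ = r * b * r⁻¹ := inv_eq_of_mul_eq_one_left cc
  have vc : ι pv1 * (r * b * r⁻¹) = (r * b * r⁻¹) * (ι pv1 * (ι pf * ι pz)) := by
    have e1 : r * (ι pv2 * b) * r⁻¹ = ι pv1 * (r * b * r⁻¹) := by
      calc r * (ι pv2 * b) * r⁻¹ = (r * ι pv2 * r⁻¹) * (r * b * r⁻¹) := by group
        _ = ι pv1 * (r * b * r⁻¹) := by rw [h.conj, θ_v2]
    have e2 : r * (b * (ι pv2 * ι pf)) * r⁻¹ = (r * b * r⁻¹) * (ι pv1 * (ι pf * ι pz)) := by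
      calc r * (b * (ι pv2 * ι pf)) * r⁻¹ = (r * b * r⁻¹) * ((r * ι pv2 * r⁻¹) * (r * ι pf * r⁻¹)) := by group
        _ = (r * b * r⁻¹) * (ι pv1 * (ι pf * ι pz)) := by rw [h.conj, h.conj, θ_v2, θ_f, map_mul]
    rw [← e1, wb, e2]
  have dinv : (ι pc)⁻¹ * x * ((ι pc)⁻¹)⁻¹ = x := by
    rw [inv_inv, mul_assoc, h.comm, inv_mul_cancel_left]
  have xc : x * (r * b * r⁻¹) = (r * b * r⁻¹) * (x * (ι pf * ι pz)) := by
    have e1 : (r * b * r⁻¹) * x * (r * b * r⁻¹) = x * (ι pf * ι pz) := by rw [← cx, ci]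
    calc x * (r * b * r⁻¹) = ((r * b * r⁻¹) * (r * b * r⁻¹)) * x * (r * b * r⁻¹) := by rw [cc, one_mul]
      _ = (r * b * r⁻¹) * ((r * b * r⁻¹) * x * (r * b * r⁻¹)) := by group
      _ = _ := by rw [e1]
  refine ⟨b, r * b * r⁻¹, (ι pc)⁻¹, m, ?_⟩
  exact
    { z1 := z_ne1 h
      f1 := f_ne1 h
      fz := fun e => f_ne_z (h.inj e)
      xx := h.xx
      zz := by rw [← map_mul, zz, map_one]
      ff := by rw [← map_mul, ff, map_one]
      v₁v₁ := by rw [← map_mul, v11, map_one]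
      v₂v₂ := w_w h
      bb := bb
      cc := cc
      xb := by
        calc x * b = (b * b) * x * b := by rw [bb, one_mul]
          _ = b * (b * x * b) := by group
          _ = b * (x * ι pf) := by rw [e0]
      v₁b := mb.v1.symm
      v₂b := wb
      xc := xc
      v₁c := vc
      v₂c := cw.symm
      v₁x := h.comm' _
      v₂x := h.comm' _
      v₂v₁ := by rw [← map_mul, v2_v1, map_mul, map_mul]
      fb := mb.f.symm
      fc := cf.symm
      fx := h.comm' _
      fv₁ := by rw [← map_mul, fv1, map_mul]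
      fv₂ := by rw [← map_mul, fv2, map_mul]
      zb := mb.z.symm
      zc := cz.symm
      zx := h.comm' _
      zv₁ := by rw [← map_mul, zv1, map_mul]
      zv₂ := by rw [← map_mul, zv2, map_mul]
      zf := by rw [← map_mul, ← fz, map_mul]
      cb := hcb
      rx := by rw [h.rx, mul_inv_cancel_right]
      rz := by rw [h.conj, θ_z]
      rf := by rw [h.conj, θ_f, map_mul]
      rv₁ := by rw [h.conj, θ_v1]
      rv₂ := by rw [h.conj, θ_v2]
      rb := rfl
      dx := dinv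
      df := by
        rw [inv_inv, ← map_inv, ← map_mul, ← map_mul, f_pc]
      dz := by
        rw [inv_inv, ← map_inv, ← map_mul, ← map_mul, cz']
      mf := by rw [mf, mul_inv_cancel_right]
      mz := mz
      cent := fun g hx hf hz => inT0 h hx hf hz
      tr := tr }

end HsxFrame

end Cfsg.Agent.OddHalf.D5.SixAut
end

-- part: OddHalf/D5/SixAut/DblEnd
section
-- merged: Cfsg.Agent.OddHalf.D5.SixAut.DblOneInst
section

/-!
# ODD D5, `K = A₆`, `C(x)/⟨x⟩ = Aut(A₆)`, case (DBL), `e = 1`: the instance of `DblOne.Cfg` (helper314)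
-/

set_option autoImplicit false
set_option linter.unusedSectionVars false

namespace Cfsg.Agent.OddHalf.D5.SixAut.DblNorm

open Subgroup Equiv

variable {G : Type*} [Group G]

/-- the subgroup generated by two commuting elements -/
def duo (σ τ : G) (h1 : Commute σ τ) : Subgroup G where
  carrier := {g | ∃ i j : ℤ, g = σ ^ i * τ ^ j}
  one_mem' := ⟨0, 0, by simp⟩
  mul_mem' := by
    rintro _ _ ⟨i, j, rfl⟩ ⟨i', j', rfl⟩
    refine ⟨i + i', j + j', ?_⟩
    rw [zpow_add, zpow_add, mul_assoc, ← mul_assoc (τ ^ j), ← (h1.zpow_zpow i' j).eq]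
    simp only [mul_assoc]
  inv_mem' := by
    rintro _ ⟨i, j, rfl⟩
    refine ⟨-i, -j, ?_⟩
    rw [mul_inv_rev, ← zpow_neg, ← zpow_neg, (h1.zpow_zpow (-i) (-j)).eq]

/-- the subgroup generated by three commuting elements -/
def tri (σ τ w : G) (h1 : Commute σ τ) (h2 : Commute σ w) (h3 : Commute τ w) : Subgroup G where
  carrier := {g | ∃ i j k : ℤ, g = σ ^ i * τ ^ j * w ^ k}
  one_mem' := ⟨0, 0, 0, by simp⟩
  mul_mem' := by
    rintro _ _ ⟨i, j, k, rfl⟩ ⟨i', j', k', rfl⟩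
    refine ⟨i + i', j + j', k + k', ?_⟩
    have e1 := (h1.zpow_zpow i' j).eq
    have e2 := (h2.zpow_zpow i' k).eq
    have e3 := (h3.zpow_zpow j' k).eq
    rw [zpow_add, zpow_add, zpow_add]
    calc σ ^ i * τ ^ j * w ^ k * (σ ^ i' * τ ^ j' * w ^ k')
        = σ ^ i * τ ^ j * (w ^ k * σ ^ i') * τ ^ j' * w ^ k' := by simp only [mul_assoc]
      _ = σ ^ i * (τ ^ j * σ ^ i') * (w ^ k * τ ^ j') * w ^ k' := by rw [← e2]; simp only [mul_assoc]
      _ = _ := by rw [← e1, ← e3]; simp only [mul_assoc]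
  inv_mem' := by
    rintro _ ⟨i, j, k, rfl⟩
    refine ⟨-i, -j, -k, ?_⟩
    have e1 := (h1.zpow_zpow (-i) (-j)).eq
    have e2 := (h2.zpow_zpow (-i) (-k)).eq
    have e3 := (h3.zpow_zpow (-j) (-k)).eq
    rw [mul_inv_rev, mul_inv_rev, ← zpow_neg, ← zpow_neg, ← zpow_neg]
    calc w ^ (-k) * (τ ^ (-j) * σ ^ (-i)) = w ^ (-k) * σ ^ (-i) * τ ^ (-j) := by rw [← e1, mul_assoc]
      _ = σ ^ (-i) * (w ^ (-k) * τ ^ (-j)) := by rw [← e2]; simp only [mul_assoc]
      _ = _ := by rw [← e3]; simp only [mul_assoc]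

theorem zpow_cases {a : G} (h : a * a = 1) (i : ℤ) : a ^ i = 1 ∧ Even i ∨ a ^ i = a ∧ Odd i := by
  rcases Int.even_or_odd i with hi | hi
  · left
    obtain ⟨j, rfl⟩ := hi
    refine ⟨?_, ⟨j, rfl⟩⟩
    rw [zpow_add, ← (Commute.refl a).mul_zpow, h, one_zpow]
  · right
    refine ⟨?_, hi⟩
    obtain ⟨j, rfl⟩ := hi
    rw [zpow_add, zpow_one, two_mul, zpow_add, ← (Commute.refl a).mul_zpow, h, one_zpow, one_mul]

variable {x r : G} {ι : Perm (Fin 6) →* G} {s b : G}

theorem CL_mul {p q : Perm (Fin 6)} (hp : CL p) (hq : CL q) : CL (p * q) :=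
  ⟨CU_mul hp.1 hq.1, by rw [mul_assoc, hq.2, ← mul_assoc, hp.2, mul_assoc]⟩

theorem CL_f : CL pf := ⟨CU_f, fv2⟩
theorem CL_z : CL pz := ⟨CU_z, zv2⟩
theorem CL_one : CL 1 := ⟨CU_one, by rw [one_mul, mul_one]⟩

theorem inL {q : Perm (Fin 6)} (hq : CL q) : DblOne.InL (ι pz) (ι pf) (ι q) := by
  rcases CL_eq hq with rfl | rfl | rfl | rfl
  · left; rw [map_one]
  · right; left; rfl
  · right; right; left; rfl
  · right; right; right; rw [map_mul]

theorem CU_cases : ∀ q, CU q → CL q ∨ CL (pv1 * q) := by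
  have : ∀ q : Perm (Fin 6), CU q → q * pv2 = pv2 * q ∨ pv1 * q * pv2 = pv2 * (pv1 * q) := by (delta CU; simp only [↓Cfsg.Agent.PermCode.M, Cfsg.Agent.PermCode.P6.R, Cfsg.Agent.PermCode.B]; decide +kernel)
  intro q hq
  rcases this q hq with h | h
  · exact Or.inl ⟨hq, h⟩
  · exact Or.inr ⟨CU_mul CU_v1 hq, h⟩

/-- `e = 1` -/
structure NrmOne (x r : G) (ι : Perm (Fin 6) →* G) (s b : G) : Prop extends Nrm x r ι s b where
  sb : s * b * s⁻¹ = b * ι (pf * pz)
  rb : ∃ q, CL q ∧ r * b * r⁻¹ = b * s * (x * ι q)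

section One

variable (h : AutSpl x ι r) (N : NrmOne x r ι s b)
include h N

theorem sx : s * x = x * ι pz * s := mul_inv_eq_iff_eq_mul.1 N.ms.x
theorem bx : b * x = x * ι pf * b := mul_inv_eq_iff_eq_mul.1 N.mb.x

theorem στ : Commute (x * s) (x * b) := by
  show x * s * (x * b) = x * b * (x * s)
  have h1 : s * b = b * ι (pf * pz) * s := mul_inv_eq_iff_eq_mul.1 N.sb
  calc x * s * (x * b) = x * (s * x) * b := by group
    _ = (x * x) * ι pz * (s * b) := by rw [sx h N]; group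
    _ = ι pz * (b * ι (pf * pz)) * s := by rw [h.xx, h1]; group
    _ = ι pz * (ι (pf * pz) * b) * s := by rw [N.mb.toMv.comm (CU_mul CU_f CU_z)]
    _ = ι (pz * (pf * pz)) * b * s := by rw [map_mul ι pz]; group
    _ = ι pf * b * s := by rw [fz, ← mul_assoc, zz, one_mul]
    _ = (x * x) * ι pf * b * s := by rw [h.xx, one_mul]
    _ = x * (b * x) * s := by rw [bx h N]; group
    _ = _ := by group

theorem σσ : x * s * (x * s) = ι pz := by
  calc x * s * (x * s) = x * (s * x) * s := by group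
    _ = (x * x) * ι pz * (s * s) := by rw [sx h N]; group
    _ = ι pz := by rw [h.xx, N.ss, one_mul, mul_one]

theorem ττ : x * b * (x * b) = ι pf := by
  calc x * b * (x * b) = x * (b * x) * b := by group
    _ = (x * x) * ι pf * (b * b) := by rw [bx h N]; group
    _ = ι pf := by rw [h.xx, N.bb, one_mul, mul_one]

theorem mσ : Mw x ι (x * s) pz := by
  have := (mw_x h).mul N.ms CU_z
  rwa [one_mul] at this

theorem mτ : Mw x ι (x * b) pf := by
  have := (mw_x h).mul N.mb CU_f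
  rwa [one_mul] at this

theorem τc : x * b * ι pc = ι pc * (x * b) := by
  rw [mul_assoc, N.bc, ← mul_assoc, h.comm, mul_assoc]

/-- `w = c⁻¹ σ c` -/
theorem mv_c' {g : G} {p : Perm (Fin 6)} (m : Mv x ι g p) : Mv x ι ((ι pc)⁻¹ * g * ι pc) (pc⁻¹ * p * pc) := by
  have m2 := mv_c h (mv_c h m)
  have e1 : ι pc * (ι pc * g * (ι pc)⁻¹) * (ι pc)⁻¹ = (ι pc)⁻¹ * g * ι pc := by
    have e2 : ι pc * ι pc = (ι pc)⁻¹ := eq_inv_of_mul_eq_one_left (iccc h)
    calc ι pc * (ι pc * g * (ι pc)⁻¹) * (ι pc)⁻¹ = ι pc * ι pc * g * (ι pc * ι pc)⁻¹ := by group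
      _ = _ := by rw [e2, inv_inv]
  have e3 : pc * (pc * p * pc⁻¹) * pc⁻¹ = pc⁻¹ * p * pc := by
    have e2 : pc * pc = pc⁻¹ := eq_inv_of_mul_eq_one_left ccc
    calc pc * (pc * p * pc⁻¹) * pc⁻¹ = pc * pc * p * (pc * pc)⁻¹ := by group
      _ = _ := by rw [e2, inv_inv]
  rw [e1, e3] at m2
  exact m2

theorem mvw : Mv x ι ((ι pc)⁻¹ * (x * s) * ι pc) pv1 := by
  have := mv_c' h N (mσ h N).toMv
  rwa [cz'] at this

theorem mvw₂ : Mv x ι (ι pc * (x * s) * (ι pc)⁻¹) (pz * pv1) := by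
  have := mv_c h (mσ h N).toMv
  rwa [cz] at this

theorem τ_w : Commute (x * b) ((ι pc)⁻¹ * (x * s) * ι pc) := by
  have h1 : Commute (x * b) (ι pc) := τc h N
  exact (h1.inv_right.mul_right (στ h N).symm).mul_right h1

theorem τ_w₂ : Commute (x * b) (ι pc * (x * s) * (ι pc)⁻¹) := by
  have h1 : Commute (x * b) (ι pc) := τc h N
  exact (h1.mul_right (στ h N).symm).mul_right h1.inv_right

/-- `σ w w₂ ∈ U₁` -/
theorem exists_q : ∃ q, CU q ∧ x * s * ((ι pc)⁻¹ * (x * s) * ι pc) * (ι pc * (x * s) * (ι pc)⁻¹) = ι q := by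
  have m := ((mσ h N).toMv.mul (mvw h N) CU_v1).mul (mvw₂ h N) (CU_mul CU_z CU_v1)
  have e1 : pz * pv1 * (pz * pv1) = 1 := CU_sq _ (CU_mul CU_z CU_v1)
  rw [e1] at m
  have hx := m.x
  rw [map_one, mul_one] at hx
  obtain ⟨q, hq, e | e⟩ := cent_U h m (mul_inv_eq_iff_eq_mul.1 hx)
  · exact ⟨q, hq, e⟩
  · exfalso
    have h1 : Commute (x * b) (x * ι q) := by
      rw [← e]
      exact ((στ h N).symm.mul_right (τ_w h N)).mul_right (τ_w₂ h N)
    have h2 : Commute (x * b) (ι q) := (mτ h N).toMv.comm hq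
    have h3 : Commute (x * b) x := by
      have h4 := h1.mul_right h2.inv_right
      rwa [mul_inv_cancel_right] at h4
    have h5 := (mτ h N).x
    rw [h3.eq, mul_inv_cancel_right] at h5
    exact f_ne (h.one_iff.1 (mul_left_cancel (h5.symm.trans (mul_one x).symm)))

theorem ww : (ι pc)⁻¹ * (x * s) * ι pc * ((ι pc)⁻¹ * (x * s) * ι pc) = ι pv1 := by
  calc (ι pc)⁻¹ * (x * s) * ι pc * ((ι pc)⁻¹ * (x * s) * ι pc) = (ι pc)⁻¹ * (x * s * (x * s)) * ι pc := by group
    _ = ι (pc⁻¹ * pz * pc) := by rw [σσ h N, map_mul, map_mul, map_inv]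
    _ = ι pv1 := by rw [cz']

theorem ww₂ : ι pc * (x * s) * (ι pc)⁻¹ * (ι pc * (x * s) * (ι pc)⁻¹) = ι (pz * pv1) := by
  calc ι pc * (x * s) * (ι pc)⁻¹ * (ι pc * (x * s) * (ι pc)⁻¹) = ι pc * (x * s * (x * s)) * (ι pc)⁻¹ := by group
    _ = ι (pc * pz * pc⁻¹) := by rw [σσ h N, map_mul, map_mul, map_inv]
    _ = ι (pz * pv1) := by rw [cz]

/-- `σ` and `w` commute -/
theorem σ_w : Commute (x * s) ((ι pc)⁻¹ * (x * s) * ι pc) := by
  obtain ⟨q, hq, e⟩ := exists_q h N
  obtain ⟨σ, hσ⟩ : ∃ σ, σ = x * s := ⟨_, rfl⟩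
  obtain ⟨w, hw⟩ : ∃ w, w = (ι pc)⁻¹ * (x * s) * ι pc := ⟨_, rfl⟩
  obtain ⟨w₂, hw₂⟩ : ∃ w₂, w₂ = ι pc * (x * s) * (ι pc)⁻¹ := ⟨_, rfl⟩
  have e2 := σσ h N
  have e3 := ww h N
  have e4 := ww₂ h N
  have e5 := (mvw₂ h N).comm hq
  rw [← hw, ← hw₂, ← hσ] at e
  rw [← hσ] at e2
  rw [← hw] at e3
  rw [← hw₂] at e4 e5
  rw [← hw, ← hσ]
  -- `σ w = ι q w₂⁻¹`
  have e6 : σ * w = ι q * w₂⁻¹ := by rw [← e, mul_inv_cancel_right]
  have e7 : σ * w * (σ * w) = ι (pz * pv1) := by
    have e8 : Commute w₂ (ι q) := e5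
    rw [e6]
    calc ι q * w₂⁻¹ * (ι q * w₂⁻¹) = ι q * (w₂⁻¹ * ι q) * w₂⁻¹ := by group
      _ = ι q * ι q * (w₂ * w₂)⁻¹ := by rw [e8.inv_left.eq]; group
      _ = ι (pz * pv1) := by
        rw [← map_mul, CU_sq q hq, map_one, one_mul, e4, ← map_inv,
          inv_eq_of_mul_eq_one_right (CU_sq _ (CU_mul CU_z CU_v1))]
  have e9 : σ * w * (σ * w) = σ * σ * (w * w) := by rw [e7, e2, e3, map_mul]
  have e10 : σ * (w * σ) * w = σ * (σ * w) * w := by
    calc σ * (w * σ) * w = σ * w * (σ * w) := by group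
      _ = _ := by rw [e9]; group
  exact (mul_left_cancel (mul_right_cancel e10)).symm

theorem x_inv_conj {g : G} (hg : x * g * x = g⁻¹) (i : ℤ) : x * g ^ i * x = (g ^ i)⁻¹ := by
  have hx := h.x_inv
  have h1 : MulAut.conj x g = g⁻¹ := by rw [MulAut.conj_apply, hx, hg]
  have h2 : MulAut.conj x (g ^ i) = (g ^ i)⁻¹ := by rw [map_zpow, h1, inv_zpow]
  rwa [MulAut.conj_apply, hx] at h2

theorem s_inv : s⁻¹ = s := inv_eq_of_mul_eq_one_right N.ss
theorem b_inv : b⁻¹ = b := inv_eq_of_mul_eq_one_right N.bb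

theorem xσ : x * (x * s) * x = (x * s)⁻¹ := by
  rw [← mul_assoc, h.xx, one_mul, mul_inv_rev, h.x_inv, s_inv h N]

theorem xτ : x * (x * b) * x = (x * b)⁻¹ := by
  rw [← mul_assoc, h.xx, one_mul, mul_inv_rev, h.x_inv, b_inv h N]

theorem xw : x * ((ι pc)⁻¹ * (x * s) * ι pc) * x = ((ι pc)⁻¹ * (x * s) * ι pc)⁻¹ := by
  have h1 := h.comm pc
  have h2 : x * (ι pc)⁻¹ = (ι pc)⁻¹ * x := by rw [← map_inv, h.comm]
  calc x * ((ι pc)⁻¹ * (x * s) * ι pc) * x = x * (ι pc)⁻¹ * (x * s) * (ι pc * x) := by group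
    _ = (ι pc)⁻¹ * (x * (x * s) * x) * ι pc := by rw [h2, ← h1]; group
    _ = (ι pc)⁻¹ * (x * s)⁻¹ * ι pc := by rw [xσ h N]
    _ = _ := by group

/-- a product with square one -/
theorem sq_duo {i j k : ℤ} (e : ι pz ^ i * ι pf ^ j * ι pv1 ^ k = 1) : Even i ∧ Even j ∧ Even k := by
  have hz : ι pz * ι pz = 1 := by rw [← map_mul, zz, map_one]
  have hf : ι pf * ι pf = 1 := by rw [← map_mul, ff, map_one]
  have hv : ι pv1 * ι pv1 = 1 := by rw [← map_mul, v11, map_one]
  have hne : pz ≠ 1 ∧ pf ≠ 1 ∧ pv1 ≠ 1 ∧ pz * pf ≠ 1 ∧ pz * pv1 ≠ 1 ∧ pf * pv1 ≠ 1 ∧ pz * pf * pv1 ≠ 1 := by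
    decide +kernel
  obtain ⟨n1, n2, n3, n4, n5, n6, n7⟩ := hne
  rcases zpow_cases hz i with ⟨e1, i1⟩ | ⟨e1, i1⟩ <;> rcases zpow_cases hf j with ⟨e2, i2⟩ | ⟨e2, i2⟩ <;>
    rcases zpow_cases hv k with ⟨e3, i3⟩ | ⟨e3, i3⟩ <;> rw [e1, e2, e3] at e
  · exact ⟨i1, i2, i3⟩
  · rw [one_mul, one_mul] at e; exact absurd (h.one_iff.1 e) n3
  · rw [one_mul, mul_one] at e; exact absurd (h.one_iff.1 e) n2
  · rw [one_mul, ← map_mul] at e; exact absurd (h.one_iff.1 e) n6
  · rw [mul_one, mul_one] at e; exact absurd (h.one_iff.1 e) n1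
  · rw [mul_one, ← map_mul] at e; exact absurd (h.one_iff.1 e) n5
  · rw [mul_one, ← map_mul] at e; exact absurd (h.one_iff.1 e) n4
  · rw [← map_mul, ← map_mul] at e; exact absurd (h.one_iff.1 e) n7

/-- the group `A = U₁*` -/
def AA : Subgroup G := tri (x * s) (x * b) ((ι pc)⁻¹ * (x * s) * ι pc) (στ h N) (σ_w h N) (τ_w h N)

/-- the group `L = l*` -/
def LL : Subgroup G := duo (x * s) (x * b) (στ h N)

omit h N in
theorem zpow_sq {a c : G} (e : a * a = c) (i : ℤ) : a ^ i * a ^ i = c ^ i := by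
  rw [← (Commute.refl a).mul_zpow, e]

omit h N in
theorem tri_sq {σ τ w a b c : G} (h1 : Commute σ τ) (h2 : Commute σ w) (h3 : Commute τ w) (ea : σ * σ = a)
    (eb : τ * τ = b) (ec : w * w = c) (i j k : ℤ) :
    σ ^ i * τ ^ j * w ^ k * (σ ^ i * τ ^ j * w ^ k) = a ^ i * b ^ j * c ^ k := by
  rw [← zpow_sq ea, ← zpow_sq eb, ← zpow_sq ec]
  have e1 := (h1.zpow_zpow i j).eq
  have e2 := (h2.zpow_zpow i k).eq
  have e3 := (h3.zpow_zpow j k).eq
  calc σ ^ i * τ ^ j * w ^ k * (σ ^ i * τ ^ j * w ^ k)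
      = σ ^ i * τ ^ j * (w ^ k * σ ^ i) * τ ^ j * w ^ k := by simp only [mul_assoc]
    _ = σ ^ i * (τ ^ j * σ ^ i) * (w ^ k * τ ^ j) * w ^ k := by rw [← e2]; simp only [mul_assoc]
    _ = _ := by rw [← e1, ← e3]; simp only [mul_assoc]

omit h N in
theorem tri_comm {σ τ w : G} (h1 : Commute σ τ) (h2 : Commute σ w) (h3 : Commute τ w) {a a' : G}
    (ha : a ∈ tri σ τ w h1 h2 h3) (ha' : a' ∈ tri σ τ w h1 h2 h3) : a * a' = a' * a := by
  obtain ⟨i, j, k, rfl⟩ := ha
  obtain ⟨i', j', k', rfl⟩ := ha'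
  have s1 : Commute (σ ^ i * τ ^ j * w ^ k) σ :=
    ((((Commute.refl σ).zpow_left i).mul_left (h1.symm.zpow_left j)).mul_left (h2.symm.zpow_left k))
  have s2 : Commute (σ ^ i * τ ^ j * w ^ k) τ :=
    (((h1.zpow_left i).mul_left ((Commute.refl τ).zpow_left j)).mul_left (h3.symm.zpow_left k))
  have s3 : Commute (σ ^ i * τ ^ j * w ^ k) w :=
    (((h2.zpow_left i).mul_left (h3.zpow_left j)).mul_left ((Commute.refl w).zpow_left k))
  exact (((s1.zpow_right i').mul_right (s2.zpow_right j')).mul_right (s3.zpow_right k')).eq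

omit h N in
theorem CU_zpow {p : Perm (Fin 6)} (hp : CU p) (i : ℤ) : CU (p ^ i) := by
  rcases zpow_cases (CU_sq p hp) i with ⟨e, -⟩ | ⟨e, -⟩
  · rw [e]; exact CU_one
  · rw [e]; exact hp

omit h N in
theorem CL_zpow {p : Perm (Fin 6)} (hp : CL p) (i : ℤ) : CL (p ^ i) := by
  rcases zpow_cases (CU_sq p hp.1) i with ⟨e, -⟩ | ⟨e, -⟩
  · rw [e]; exact CL_one
  · rw [e]; exact hp

theorem zL : ι pz ∈ LL h N := ⟨2, 0, by rw [zpow_zero, mul_one, zpow_two, σσ h N]⟩
theorem fL : ι pf ∈ LL h N := ⟨0, 2, by rw [zpow_zero, one_mul, zpow_two, ττ h N]⟩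
theorem σL : x * s ∈ LL h N := ⟨1, 0, by rw [zpow_zero, mul_one, zpow_one]⟩
theorem τL : x * b ∈ LL h N := ⟨0, 1, by rw [zpow_zero, one_mul, zpow_one]⟩

theorem LA : LL h N ≤ AA h N := by
  rintro _ ⟨i, j, rfl⟩
  exact ⟨i, j, 0, by rw [zpow_zero, mul_one]⟩

theorem wA : (ι pc)⁻¹ * (x * s) * ι pc ∈ AA h N := ⟨0, 0, 1, by rw [zpow_zero, zpow_zero, zpow_one, one_mul, one_mul]⟩

theorem ιL {q : Perm (Fin 6)} (hq : CL q) : ι q ∈ LL h N := by
  rcases CL_eq hq with rfl | rfl | rfl | rfl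
  · rw [map_one]; exact one_mem _
  · exact zL h N
  · exact fL h N
  · rw [map_mul]; exact mul_mem (fL h N) (zL h N)

theorem ιA {q : Perm (Fin 6)} (hq : CU q) : ι q ∈ AA h N := by
  have hv : ι pv1 ∈ AA h N := by rw [← ww h N]; exact mul_mem (wA h N) (wA h N)
  rcases CU_cases q hq with h1 | h1
  · exact LA h N (ιL h N h1)
  · have h2 : ι q = ι pv1 * ι (pv1 * q) := by rw [← map_mul, ← mul_assoc, v11, one_mul]
    rw [h2]
    exact mul_mem hv (LA h N (ιL h N h1))

theorem Aom (a : G) (ha : a ∈ AA h N) (ha2 : a * a = 1) :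
    DblOne.InL (ι pz) (ι pf) a ∨ ∃ c, DblOne.InL (ι pz) (ι pf) c ∧ a = ι pv1 * c := by
  obtain ⟨i, j, k, rfl⟩ := ha
  rw [tri_sq (στ h N) (σ_w h N) (τ_w h N) (σσ h N) (ττ h N) (ww h N)] at ha2
  obtain ⟨⟨i, rfl⟩, ⟨j, rfl⟩, ⟨k, rfl⟩⟩ := sq_duo h N ha2
  rw [zpow_add, zpow_add, zpow_add, zpow_sq (σσ h N), zpow_sq (ττ h N), zpow_sq (ww h N), ← map_zpow, ← map_zpow,
    ← map_zpow, ← map_mul, ← map_mul]
  have hq : CU (pz ^ i * pf ^ j * pv1 ^ k) :=
    CU_mul (CU_mul (CU_zpow CU_z i) (CU_zpow CU_f j)) (CU_zpow CU_v1 k)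
  rcases CU_cases _ hq with h1 | h1
  · exact Or.inl (inL h1)
  · refine Or.inr ⟨_, inL h1, ?_⟩
    rw [← map_mul, ← mul_assoc, v11, one_mul]

theorem Lom (a : G) (ha : a ∈ LL h N) (ha2 : a * a = 1) : DblOne.InL (ι pz) (ι pf) a := by
  obtain ⟨i, j, rfl⟩ := ha
  have h1 := tri_sq (στ h N) (σ_w h N) (τ_w h N) (σσ h N) (ττ h N) (ww h N) i j 0
  rw [zpow_zero, mul_one, ha2] at h1
  obtain ⟨⟨i, rfl⟩, ⟨j, rfl⟩, -⟩ := sq_duo h N h1.symm
  rw [zpow_add, zpow_add, zpow_sq (σσ h N), zpow_sq (ττ h N), ← map_zpow, ← map_zpow, ← map_mul]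
  exact inL (CL_mul (CL_zpow CL_z i) (CL_zpow CL_f j))

theorem v22' : ι pv2 * ι pv2 = 1 := by rw [← map_mul, v22, map_one]

theorem v2_conj_zpow (g : G) (i : ℤ) : ι pv2 * g ^ i * ι pv2 = (ι pv2 * g * ι pv2) ^ i := by
  have hv : (ι pv2)⁻¹ = ι pv2 := inv_eq_of_mul_eq_one_right (v22' h N)
  have h2 : MulAut.conj (ι pv2) (g ^ i) = (MulAut.conj (ι pv2) g) ^ i := map_zpow _ _ _
  rwa [MulAut.conj_apply, MulAut.conj_apply, hv] at h2

theorem v2_fix {g : G} (hg : g * ι pv2 = ι pv2 * g) : ι pv2 * g * ι pv2 = g := by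
  rw [← hg, mul_assoc, v22' h N, mul_one]

theorem v2w : ι pv2 * ((ι pc)⁻¹ * (x * s) * ι pc) * ι pv2 ∈ AA h N := by
  obtain ⟨q, hq, e⟩ := exists_q h N
  have h1 : ι pv2 * ι pc * ι pv2 = (ι pc)⁻¹ := by rw [← map_mul, ← map_mul, v2c, map_inv]
  have hv : (ι pv2)⁻¹ = ι pv2 := inv_eq_of_mul_eq_one_right (v22' h N)
  have h2 : ι pv2 * (ι pc)⁻¹ * ι pv2 = ι pc := by
    rw [← h1]
    calc ι pv2 * (ι pv2 * ι pc * ι pv2) * ι pv2 = (ι pv2 * ι pv2) * ι pc * (ι pv2 * ι pv2) := by group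
      _ = ι pc := by rw [v22' h N]; group
  have h3 : ι pv2 * ((ι pc)⁻¹ * (x * s) * ι pc) * ι pv2 = ι pc * (x * s) * (ι pc)⁻¹ := by
    calc ι pv2 * ((ι pc)⁻¹ * (x * s) * ι pc) * ι pv2
        = ι pv2 * (ι pc)⁻¹ * (ι pv2 * (ι pv2)⁻¹) * (x * s) * ((ι pv2)⁻¹ * ι pv2) * ι pc * ι pv2 := by group
      _ = ι pv2 * (ι pc)⁻¹ * ι pv2 * (ι pv2 * (x * s) * ι pv2) * (ι pv2 * ι pc * ι pv2) := by
          rw [hv]; simp only [mul_assoc]
      _ = ι pc * (x * s) * (ι pc)⁻¹ := by rw [h2, v2_fix h N (mσ h N).v2, h1]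
  have h4 : ι pc * (x * s) * (ι pc)⁻¹ = (x * s * ((ι pc)⁻¹ * (x * s) * ι pc))⁻¹ * ι q := by
    rw [← e, inv_mul_cancel_left]
  rw [h3, h4]
  exact mul_mem (inv_mem (mul_mem (LA h N (σL h N)) (wA h N))) (ιA h N hq)

theorem Av₂ (a : G) (ha : a ∈ AA h N) : ι pv2 * a * ι pv2 ∈ AA h N := by
  obtain ⟨i, j, k, rfl⟩ := ha
  have e : ι pv2 * ((x * s) ^ i * (x * b) ^ j * ((ι pc)⁻¹ * (x * s) * ι pc) ^ k) * ι pv2 =
      (ι pv2 * (x * s) ^ i * ι pv2) * (ι pv2 * (x * b) ^ j * ι pv2) *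
        (ι pv2 * ((ι pc)⁻¹ * (x * s) * ι pc) ^ k * ι pv2) := by
    have hv := v22' h N
    calc ι pv2 * ((x * s) ^ i * (x * b) ^ j * ((ι pc)⁻¹ * (x * s) * ι pc) ^ k) * ι pv2
        = ι pv2 * (x * s) ^ i * 1 * (x * b) ^ j * 1 * ((ι pc)⁻¹ * (x * s) * ι pc) ^ k * ι pv2 := by
          simp only [mul_assoc, mul_one]
      _ = _ := by rw [← hv]; simp only [mul_assoc]
  rw [e, v2_conj_zpow h N, v2_conj_zpow h N, v2_conj_zpow h N, v2_fix h N (mσ h N).v2, v2_fix h N (mτ h N).v2]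
  exact mul_mem (mul_mem (zpow_mem (LA h N (σL h N)) i) (zpow_mem (LA h N (τL h N)) j)) (zpow_mem (v2w h N) k)

theorem xL (m : G) (hm : m ∈ LL h N) : x * m * x = m⁻¹ := by
  obtain ⟨i, j, rfl⟩ := hm
  calc x * ((x * s) ^ i * (x * b) ^ j) * x = x * (x * s) ^ i * (x * x) * (x * b) ^ j * x := by
        rw [h.xx]; group
    _ = (x * (x * s) ^ i * x) * (x * (x * b) ^ j * x) := by group
    _ = ((x * s) ^ i)⁻¹ * ((x * b) ^ j)⁻¹ := by
        rw [x_inv_conj h N (xσ h N), x_inv_conj h N (xτ h N)]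
    _ = ((x * s) ^ i * (x * b) ^ j)⁻¹ := by
        rw [mul_inv_rev, ← zpow_neg, ← zpow_neg, ((στ h N).zpow_zpow (-i) (-j)).eq]

omit h N in
theorem CL_θ {q : Perm (Fin 6)} (hq : CL q) : CL (θ q) := by
  rcases CL_eq hq with rfl | rfl | rfl | rfl
  · rw [map_one]; exact CL_one
  · rw [θ_z]; exact CL_z
  · rw [θ_f]; exact CL_mul CL_f CL_z
  · rw [θ_fz]; exact CL_f

theorem rL (m : G) (hm : m ∈ LL h N) : r⁻¹ * m * r ∈ LL h N := by
  have rix : r⁻¹ * x * r = x := by rw [mul_assoc, ← h.rx, inv_mul_cancel_left]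
  have rxi : r * x * r⁻¹ = x := by rw [h.rx, mul_inv_cancel_right]
  have h1 : r⁻¹ * (x * s) * r ∈ LL h N := by
    obtain ⟨q, hq, e⟩ := N.rs
    have e2 : r * (x * s) * r⁻¹ = x * s * ι q := by
      calc r * (x * s) * r⁻¹ = r * x * r⁻¹ * (r * s * r⁻¹) := by group
        _ = _ := by rw [rxi, e, mul_assoc]
    have e3 : r⁻¹ * (x * s) * r = x * s * (r⁻¹ * ι q * r)⁻¹ := by
      have : x * s = r⁻¹ * (x * s) * r * (r⁻¹ * ι q * r) := by
        calc x * s = r⁻¹ * (r * (x * s) * r⁻¹) * r := by group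
          _ = _ := by rw [e2]; group
      nth_rw 2 [this]
      group
    rw [e3, h.rι_inv]
    exact mul_mem (σL h N) (inv_mem (ιL h N (CL_θ hq)))
  have h2 : r⁻¹ * (x * b) * r ∈ LL h N := by
    obtain ⟨q, hq, e⟩ := N.rb
    have e2 : r * (x * b) * r⁻¹ = x * b * (x * s)⁻¹ * ι q := by
      calc r * (x * b) * r⁻¹ = r * x * r⁻¹ * (r * b * r⁻¹) := by group
        _ = x * b * (s * x) * ι q := by rw [rxi, e]; group
        _ = _ := by rw [mul_inv_rev, h.x_inv, s_inv h N]
    have e3 : r⁻¹ * (x * b) * r = x * b * (r⁻¹ * ι q * r)⁻¹ * (r⁻¹ * (x * s) * r) := by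
      have : x * b = r⁻¹ * (x * b) * r * (r⁻¹ * (x * s) * r)⁻¹ * (r⁻¹ * ι q * r) := by
        calc x * b = r⁻¹ * (r * (x * b) * r⁻¹) * r := by group
          _ = _ := by rw [e2]; group
      nth_rw 2 [this]
      group
    rw [e3, h.rι_inv]
    exact mul_mem (mul_mem (τL h N) (inv_mem (ιL h N (CL_θ hq)))) h1
  obtain ⟨i, j, rfl⟩ := hm
  have e : r⁻¹ * ((x * s) ^ i * (x * b) ^ j) * r = (r⁻¹ * (x * s) * r) ^ i * (r⁻¹ * (x * b) * r) ^ j := by
    have k1 : ∀ (g : G) (n : ℤ), (r⁻¹ * g * r) ^ n = r⁻¹ * g ^ n * r := by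
      intro g n
      have := (map_zpow (MulAut.conj r⁻¹) g n).symm
      simpa only [MulAut.conj_apply, _root_.map_inv, _root_.MulAut.inv_apply, _root_.MulAut.conj_symm_apply] using this
    rw [k1, k1]; group
  rw [e]
  exact mul_mem (zpow_mem h1 i) (zpow_mem h2 j)

theorem bK (k : G) (hk : k ∈ ι.range) (hf : k * ι pf = ι pf * k) : k * b = b * k := by
  obtain ⟨p, rfl⟩ := hk
  obtain ⟨i, j, k, l, m, rfl⟩ := cent_f p (h.comm_ι.1 hf)
  rw [map_mul, map_mul, map_mul, map_mul, map_pow, map_pow, map_pow, map_pow, map_pow]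
  exact (comm_mul (comm_pow N.mb.f _) (comm_mul (comm_pow N.mb.z _) (comm_mul (comm_pow N.mb.v1 _)
    (comm_mul (comm_pow N.mb.v2 _) (comm_pow N.bc _))))).symm

theorem cen (c : G) (hx : c * x = x * c) (hf : c * ι pf = ι pf * c)
    (hk : ∀ k ∈ ι.range, k * ι pf = ι pf * k → k * k * k = 1 → k * c = c * k) :
    c = 1 ∨ c = x ∨ c = ι pf ∨ c = x * ι pf := by
  obtain ⟨a, ha, e⟩ := cent_xf h hx hf
  have key : ∀ p : Perm (Fin 6), p * pf = pf * p → p * p * p = 1 → a * p = p * a := by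
    intro p h1 h2
    have h3 := hk (ι p) ⟨p, rfl⟩ (h.comm_ι.2 h1) (by rw [← map_mul, ← map_mul, h2, map_one])
    rcases e with e | e
    · rw [e] at h3
      exact (h.comm_ι.1 h3).symm
    · rw [e, ← mul_assoc, ← h.comm, mul_assoc, mul_assoc] at h3
      exact (h.comm_ι.1 (mul_left_cancel h3)).symm
  rcases cent_f_c_c2 a ha (key _ cf ccc) (key _ c2f ccc2) with h1 | h1
  · rw [h1, map_one] at e
    rw [mul_one] at e
    rcases e with e | e
    · exact Or.inl e
    · exact Or.inr (Or.inl e)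
  · rw [h1] at e
    rcases e with e | e
    · exact Or.inr (Or.inr (Or.inl e))
    · exact Or.inr (Or.inr (Or.inr e))

/-- **the instance** -/
theorem cfg (nxz : ∀ g, g * ι pz * g⁻¹ ≠ x) :
    DblOne.Cfg x (ι pz) (ι pf) (ι pv1) (ι pv2) s b ((ι pc)⁻¹ * (x * s) * ι pc) r (AA h N) (LL h N) ι.range where
  xx := h.xx
  zz := by rw [← map_mul, zz, map_one]
  ff := by rw [← map_mul, ff, map_one]
  bb := N.bb
  z1 := fun e => z_ne (h.one_iff.1 e)
  f1 := fun e => f_ne (h.one_iff.1 e)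
  nzf := fun e => f_ne_z (h.inj e)
  xz := h.comm _
  xf := h.comm _
  xv₁ := h.comm _
  xv₂ := h.comm _
  zf := h.comm_ι.2 fz.symm
  zv₁ := h.comm_ι.2 zv1
  zv₂ := h.comm_ι.2 zv2
  fv₁ := h.comm_ι.2 fv1
  fv₂ := h.comm_ι.2 fv2
  sf := N.ms.f
  bf := N.mb.f
  vv₁ := by rw [← map_mul, v11, map_one]
  vv₂ := v22' h N
  v₁₂ := by rw [← map_mul, v12, map_mul, map_mul]
  xb := by rw [bx h N, mul_assoc, N.bb, mul_one]
  sb := by rw [N.sb, map_mul]
  rx := h.rx
  rf := by rw [h.conj, θ_f, map_mul]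
  rz := by
    have := h.rι pz
    rwa [θ_z] at this
  rv₁ := by rw [h.conj, θ_v1]
  rv₂ := Or.inl (by rw [h.conj, θ_v2])
  rs := by
    obtain ⟨q, hq, e⟩ := N.rs
    exact ⟨_, inL hq, e⟩
  Acomm := fun a ha a' ha' => tri_comm _ _ _ ha ha'
  Aom := Aom h N
  Av₂ := Av₂ h N
  wA := wA h N
  ww := ww h N
  xw := xw h N
  LA := LA h N
  zL := zL h N
  fL := fL h N
  sL := σL h N
  ss := σσ h N
  xL := xL h N
  Lv₂ := by
    rintro _ ⟨i, j, rfl⟩
    have h1 : Commute (x * s) (ι pv2) := (mσ h N).v2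
    have h2 : Commute (x * b) (ι pv2) := (mτ h N).v2
    exact (h1.zpow_left i).mul_left (h2.zpow_left j)
  rL := rL h N
  Lom := Lom h N
  bK := bK h N
  cen := cen h N
  del := by
    refine ⟨(ι pc)⁻¹, ?_, ?_⟩
    · rw [← map_inv]
      apply h.comm_ι.2
      have : Commute pc pf := cf
      exact this.inv_left.eq
    · rw [← map_inv, ← map_inv, inv_inv, ← map_mul, ← map_mul, cz']
  nxz := nxz

/-- `T₈ = ⟨x⟩ L D` -/
theorem inT (a : G) (hz : a * ι pz = ι pz * a) (hf : a * ι pf = ι pf * a)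
    (hx : ∃ q, CL q ∧ a * x * a⁻¹ = x * ι q) : DblOne.Cfg.InT x (ι pv1) (ι pv2) (LL h N) a := by
  obtain ⟨q, hq, e⟩ := hx
  -- the element `g` with the same action on `x`
  obtain ⟨g, m, hg⟩ : ∃ g, Mw x ι g q ∧ ∀ y, (y = 1 ∨ y = x) → (g * y ∈ LL h N ∨ x * (g * y) ∈ LL h N) := by
    have a1 : s * x = (x * s)⁻¹ := by rw [mul_inv_rev, h.x_inv, s_inv h N]
    have a2 : b * x = (x * b)⁻¹ := by rw [mul_inv_rev, h.x_inv, b_inv h N]
    rcases CL_eq hq with rfl | rfl | rfl | rfl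
    · refine ⟨1, ⟨mv_one h, by rw [one_mul, mul_one]⟩, ?_⟩
      rintro y (rfl | rfl)
      · left; rw [one_mul]; exact one_mem _
      · right; rw [one_mul, h.xx]; exact one_mem _
    · refine ⟨s, N.ms, ?_⟩
      rintro y (rfl | rfl)
      · right; rw [mul_one]; exact σL h N
      · left; rw [a1]; exact inv_mem (σL h N)
    · refine ⟨b, N.mb, ?_⟩
      rintro y (rfl | rfl)
      · right; rw [mul_one]; exact τL h N
      · left; rw [a2]; exact inv_mem (τL h N)
    · refine ⟨b * s, N.mb.mul N.ms CU_z, ?_⟩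
      rintro y (rfl | rfl)
      · left
        have : b * s * 1 = b * x * (x * s) := by
          calc b * s * 1 = b * (x * x) * s := by rw [h.xx]; group
            _ = _ := by group
        rw [this, a2]
        exact mul_mem (inv_mem (τL h N)) (σL h N)
      · right
        have : y * (b * s * y) = y * b * (s * y) := by group
        rw [this, a1]
        exact mul_mem (τL h N) (inv_mem (σL h N))
  have hc : ∀ t : G, g * t = t * g → a * t = t * a → g⁻¹ * a * t = t * (g⁻¹ * a) := by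
    intro t h1 h2
    have k1 : Commute g t := h1
    have k2 : Commute a t := h2
    exact (k1.inv_left.mul_left k2).eq
  have hx : g⁻¹ * a * x = x * (g⁻¹ * a) := by
    have h1 : a * x * a⁻¹ = g * x * g⁻¹ := by rw [e, m.x]
    calc g⁻¹ * a * x = g⁻¹ * (a * x * a⁻¹) * a := by group
      _ = g⁻¹ * (g * x * g⁻¹) * a := by rw [h1]
      _ = x * (g⁻¹ * a) := by group
  obtain ⟨p, p1, p2, e'⟩ := cent_l h hx (hc _ m.z hz) (hc _ m.f hf)
  obtain ⟨i, j, k, l, rfl⟩ := cent_zf p p1 p2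
  -- `u`
  have hu : ι (pv1 ^ (k : ℕ) * pv2 ^ (l : ℕ)) = 1 ∨ ι (pv1 ^ (k : ℕ) * pv2 ^ (l : ℕ)) = ι pv1 ∨
      ι (pv1 ^ (k : ℕ) * pv2 ^ (l : ℕ)) = ι pv2 ∨ ι (pv1 ^ (k : ℕ) * pv2 ^ (l : ℕ)) = ι pv1 * ι pv2 := by
    fin_cases k <;> fin_cases l <;> simp
  have hm : ι (pf ^ (i : ℕ) * pz ^ (j : ℕ)) ∈ LL h N := by
    rw [map_mul, map_pow, map_pow]
    exact mul_mem (pow_mem (fL h N) _) (pow_mem (zL h N) _)
  have e0 : pf ^ (i : ℕ) * (pz ^ (j : ℕ) * (pv1 ^ (k : ℕ) * pv2 ^ (l : ℕ))) =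
      pf ^ (i : ℕ) * pz ^ (j : ℕ) * (pv1 ^ (k : ℕ) * pv2 ^ (l : ℕ)) := by rw [mul_assoc]
  rw [e0, map_mul ι (pf ^ (i : ℕ) * pz ^ (j : ℕ))] at e'
  obtain ⟨y, hy, e3⟩ : ∃ y, (y = 1 ∨ y = x) ∧
      a = g * y * ι (pf ^ (i : ℕ) * pz ^ (j : ℕ)) * ι (pv1 ^ (k : ℕ) * pv2 ^ (l : ℕ)) := by
    have e4 : a = g * (g⁻¹ * a) := by group
    rcases e' with e' | e'
    · exact ⟨1, Or.inl rfl, by rw [e4, e']; group⟩
    · exact ⟨x, Or.inr rfl, by rw [e4, e']; group⟩
  rcases hg y hy with h1 | h1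
  · exact ⟨_, mul_mem h1 hm, _, hu, Or.inl e3⟩
  · refine ⟨_, mul_mem h1 hm, _, hu, Or.inr ?_⟩
    rw [e3]
    calc g * y * ι (pf ^ (i : ℕ) * pz ^ (j : ℕ)) * ι (pv1 ^ (k : ℕ) * pv2 ^ (l : ℕ))
        = (x * x) * (g * y) * ι (pf ^ (i : ℕ) * pz ^ (j : ℕ)) * ι (pv1 ^ (k : ℕ) * pv2 ^ (l : ℕ)) := by
          rw [h.xx, one_mul]
      _ = _ := by group

/-- **(DBL), `e = 1` is impossible** -/
theorem one_false (nxz : ∀ g, g * ι pz * g⁻¹ ≠ x) (W : Subgroup G) (hf : ι pf ∈ W) (hel : ∀ a ∈ W, a * a = 1)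
    (hn : ∀ g, g * ι pz = ι pz * g → ∀ a ∈ W, g * a * g⁻¹ ∈ W)
    (hT : ∀ a ∈ W, a * ι pz = ι pz * a ∧ a * ι pf = ι pf * a ∧ ∃ q, CL q ∧ a * x * a⁻¹ = x * ι q) : False :=
  (cfg h N nxz).false W hf hel hn fun a ha => inT h N a (hT a ha).1 (hT a ha).2.1 (hT a ha).2.2

end One

end Cfsg.Agent.OddHalf.D5.SixAut.DblNorm

end

-- merged: Cfsg.Agent.OddHalf.D5.SixAut.DblZeroInst
section

/-!
# ODD D5, `K = A₆`, `C(x)/⟨x⟩ = Aut(A₆)`, case (DBL), `e = 0`: the instance of `DblZero` (helper314)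

`T` is any subgroup with `g ∈ T ↔ g ∈ C(x) ∩ C(z)` (`TT x z` of `SixAut/TT.lean`).
-/

set_option autoImplicit false
set_option linter.unusedSectionVars false

namespace Cfsg.Agent.OddHalf.D5.SixAut.DblNorm

open Subgroup Equiv

variable {G : Type*} [Group G] {x r : G} {ι : Perm (Fin 6) →* G} {s b : G}

/-! ### the group `T = C(x) ∩ C(z)` -/

section TGroup

variable (h : AutSpl x ι r)
include h

/-- the elements of `C(x) ∩ C(z)` -/
theorem mem_T {g : G} (hx : g * x = x * g) (hz : g * ι pz = ι pz * g) :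
    ∃ a, a * pz = pz * a ∧ (g = ι a ∨ g = x * ι a ∨ g = ι a * r ∨ g = x * (ι a * r)) := by
  obtain ⟨a, e⟩ := h.cent g hx
  have hxz : ∀ y : G, x * y * ι pz = ι pz * (x * y) → y * ι pz = ι pz * y := by
    intro y hy
    have h1 : x * (y * ι pz) = x * (ι pz * y) := by
      calc x * (y * ι pz) = x * y * ι pz := by group
        _ = ι pz * (x * y) := hy
        _ = ι pz * x * y := by group
        _ = x * ι pz * y := by rw [h.comm]
        _ = _ := by group
    exact mul_left_cancel h1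
  refine ⟨a, ?_, e⟩
  rcases e with e | e | e | e
  · rw [e] at hz; exact h.comm_ι.1 hz
  · rw [e] at hz; exact h.comm_ι.1 (hxz _ hz)
  · rw [e] at hz
    have := h.comm_r.1 hz
    rwa [θ_z] at this
  · rw [e] at hz
    have := h.comm_r.1 (hxz _ hz)
    rwa [θ_z] at this

theorem of_T {g : G} {a : Perm (Fin 6)} (ha : a * pz = pz * a)
    (e : g = ι a ∨ g = x * ι a ∨ g = ι a * r ∨ g = x * (ι a * r)) : g * x = x * g ∧ g * ι pz = ι pz * g := by
  refine ⟨h.mem_cent g ⟨a, e⟩, ?_⟩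
  have hxz : ∀ y : G, y * ι pz = ι pz * y → x * y * ι pz = ι pz * (x * y) := by
    intro y hy
    calc x * y * ι pz = x * (y * ι pz) := by group
      _ = x * ι pz * y := by rw [hy]; group
      _ = ι pz * (x * y) := by rw [h.comm]; group
  have h1 : ι a * ι pz = ι pz * ι a := h.comm_ι.2 ha
  have h2 : ι a * r * ι pz = ι pz * (ι a * r) := h.comm_r.2 (by rw [θ_z]; exact ha)
  rcases e with e | e | e | e <;> rw [e]
  · exact h1
  · exact hxz _ h1
  · exact h2
  · exact hxz _ h2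

/-- the parametrization of `T` -/
def par (x r : G) (ι : Perm (Fin 6) →* G) (p : {a : Perm (Fin 6) // a * pz = pz * a} × Bool × Bool) : G :=
  (if p.2.1 then x else 1) * (ι p.1.1 * (if p.2.2 then r else 1))

theorem par_inj : Function.Injective (par x r ι) := by
  rintro ⟨a, i, j⟩ ⟨a', i', j'⟩ e
  have hx : ∀ y y' : G, x * y = x * y' → y = y' := fun _ _ => mul_left_cancel
  have hxx : ∀ y y' : G, x * y = y' → y = x * y' := by
    intro y y' k
    rw [← k, ← mul_assoc, h.xx, one_mul]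
  unfold par at e
  have key : i = i' ∧ j = j' ∧ a.1 = a'.1 := by
    cases i <;> cases i' <;> cases j <;> cases j' <;>
      simp only [Bool.false_eq_true, if_true, if_false, one_mul, mul_one] at e
    · exact ⟨rfl, rfl, h.inj e⟩
    · exact absurd e (h.ne_r _ _)
    · exact absurd e.symm (h.ne_r _ _)
    · exact ⟨rfl, rfl, h.inj (mul_right_cancel e)⟩
    · exact absurd e (h.ne_x _ _)
    · exact absurd e (h.ne_xr _ _)
    · exact absurd (hxx _ _ e.symm) (h.ne_xr _ _)
    · exfalso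
      apply h.ne_x a.1 a'.1
      rw [← mul_assoc] at e
      exact mul_right_cancel e
    · exact absurd e.symm (h.ne_x _ _)
    · exact absurd (hxx _ _ e) (h.ne_xr _ _)
    · exact absurd e.symm (h.ne_xr _ _)
    · exfalso
      apply h.ne_x a'.1 a.1
      rw [← mul_assoc] at e
      exact (mul_right_cancel e).symm
    · exact ⟨rfl, rfl, h.xι_inj e⟩
    · exact absurd (mul_left_cancel e) (h.ne_r _ _)
    · exact absurd (mul_left_cancel e).symm (h.ne_r _ _)
    · exact ⟨rfl, rfl, h.inj (mul_right_cancel (mul_left_cancel e))⟩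
  obtain ⟨k1, k2, k3⟩ := key
  rw [Prod.mk.injEq, Prod.mk.injEq]
  exact ⟨Subtype.ext k3, k1, k2⟩

omit h in
theorem card_cent_z : Fintype.card {a : Perm (Fin 6) // a * pz = pz * a} = 16 := by (simp only [↓Cfsg.Agent.PermCode.M, Cfsg.Agent.PermCode.P6.R, Cfsg.Agent.PermCode.B]; decide +kernel)

theorem card_T (T : Subgroup G) (hT : ∀ g, g ∈ T ↔ g * x = x * g ∧ g * ι pz = ι pz * g) : Nat.card T = 64 := by
  have h1 : Set.range (par x r ι) = (T : Set G) := by
    ext g
    constructor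
    · rintro ⟨⟨⟨a, ha⟩, i, j⟩, rfl⟩
      refine (hT _).2 (of_T h ha ?_)
      unfold par
      cases i <;> cases j <;> simp only [_root_.Bool.false_eq_true, ↓ _root_.reduceIte, _root_.mul_one, _root_.one_mul, _root_.right_eq_mul, _root_.left_eq_mul, _root_.true_or, _root_.mul_eq_left, _root_.or_true, _root_.mul_eq_right, _root_.mul_right_inj]
    · intro hg
      obtain ⟨k1, k2⟩ := (hT g).1 hg
      obtain ⟨a, ha, e | e | e | e⟩ := mem_T h k1 k2
      · exact ⟨⟨⟨a, ha⟩, false, false⟩, by unfold par; simp [e]⟩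
      · exact ⟨⟨⟨a, ha⟩, true, false⟩, by unfold par; simp [e]⟩
      · exact ⟨⟨⟨a, ha⟩, false, true⟩, by unfold par; simp [e]⟩
      · exact ⟨⟨⟨a, ha⟩, true, true⟩, by unfold par; simp [e]⟩
  have h2 : Nat.card T = Nat.card (Set.range (par x r ι)) := by
    rw [h1]; rfl
  rw [h2, Nat.card_range_of_injective (par_inj h), Nat.card_eq_fintype_card, Fintype.card_prod, Fintype.card_prod,
    card_cent_z, Fintype.card_bool]

end TGroup

/-! ### the instance -/

/-- `e = 0`, with the normalised `s = b^r b` -/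
structure NrmZero (x r : G) (ι : Perm (Fin 6) →* G) (s b : G) : Prop where
  ms : Mw x ι s pz
  mb : Mw x ι b pf
  bc : b * ι pc = ι pc * b
  ss : s * s = 1
  bb : b * b = 1
  sb : s * b = b * s
  br : b * r = r * (s * b)

theorem exists_nrmZero (h : AutSpl x ι r) (N : Nrm x r ι s b) (e0 : s * b * s⁻¹ = b)
    (er : ∃ q, CL q ∧ r * b * r⁻¹ = b * s * ι q) : ∃ s', NrmZero x r ι s' b := by
  obtain ⟨q, hq, eb⟩ := er
  obtain ⟨q₁, hq₁, es⟩ := N.rs
  have hsb : s * b = b * s := mul_inv_eq_iff_eq_mul.1 e0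
  have hθ : ∀ q, CL q → ι (θ q) * ι (θ q) = 1 := fun q hq => by
    rw [← map_mul, CU_sq _ (CL_θ hq).1, map_one]
  -- `r⁻¹ s r = s θ(q₁)`
  have k1 : r⁻¹ * s * r = s * ι (θ q₁) := by
    have h1 : s = r⁻¹ * s * r * ι (θ q₁) := by
      rw [← h.rι_inv]
      calc s = r⁻¹ * (r * s * r⁻¹) * r := by group
        _ = _ := by rw [es]; group
    calc r⁻¹ * s * r = r⁻¹ * s * r * (ι (θ q₁) * ι (θ q₁)) := by rw [hθ q₁ hq₁, mul_one]
      _ = (r⁻¹ * s * r * ι (θ q₁)) * ι (θ q₁) := by group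
      _ = _ := by rw [← h1]
  have cs : s * ι (θ q₁) = ι (θ q₁) * s := N.ms.toMv.comm (CL_θ hq₁).1
  have k2 : r⁻¹ * b * r = b * s * ι (θ q * θ q₁) := by
    have h1 : b = r⁻¹ * b * r * (s * ι (θ q₁)) * ι (θ q) := by
      rw [← k1, ← h.rι_inv q]
      calc b = r⁻¹ * (r * b * r⁻¹) * r := by group
        _ = _ := by rw [eb]; group
    have hss := N.ss
    have h2 : r⁻¹ * b * r = b * ι (θ q) * (ι (θ q₁) * s) := by
      have h3 : r⁻¹ * b * r = r⁻¹ * b * r * (s * ι (θ q₁)) * ι (θ q) * ι (θ q) * (ι (θ q₁) * s) := by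
        calc r⁻¹ * b * r = r⁻¹ * b * r * (s * s) := by rw [hss, mul_one]
          _ = r⁻¹ * b * r * (s * (ι (θ q₁) * (ι (θ q) * ι (θ q)) * ι (θ q₁)) * s) := by
            rw [hθ q hq, mul_one, hθ q₁ hq₁, mul_one]
          _ = _ := by group
      rw [← h1] at h3
      exact h3
    rw [h2, ← cs, map_mul, mul_assoc, mul_assoc, ← mul_assoc (ι (θ q)), ← N.ms.toMv.comm (CL_θ hq).1]
    simp only [mul_assoc]
  have hq' : CL (θ q * θ q₁) := CL_mul (CL_θ hq) (CL_θ hq₁)
  have ms : Mw x ι (s * ι (θ q * θ q₁)) pz := by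
    have := N.ms.mul (mw_ι h hq') CU_one
    rwa [mul_one] at this
  have cb : b * ι (θ q * θ q₁) = ι (θ q * θ q₁) * b := N.mb.toMv.comm hq'.1
  have cs' : s * ι (θ q * θ q₁) = ι (θ q * θ q₁) * s := N.ms.toMv.comm hq'.1
  have hsb' : s * ι (θ q * θ q₁) * b = b * (s * ι (θ q * θ q₁)) := by
    rw [mul_assoc, ← cb, ← mul_assoc, hsb, mul_assoc]
  refine ⟨s * ι (θ q * θ q₁), ms, N.mb, N.bc, ?_, N.bb, hsb', ?_⟩
  · calc s * ι (θ q * θ q₁) * (s * ι (θ q * θ q₁)) = s * (ι (θ q * θ q₁) * s) * ι (θ q * θ q₁) := by group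
      _ = (s * s) * (ι (θ q * θ q₁) * ι (θ q * θ q₁)) := by rw [← cs']; group
      _ = 1 := by rw [N.ss, ← map_mul, CU_sq _ hq'.1, map_one, mul_one]
  · rw [hsb']
    calc b * r = r * (r⁻¹ * b * r) := by group
      _ = _ := by rw [k2, mul_assoc]

section Zero

variable (h : AutSpl x ι r) (N : NrmZero x r ι s b)
include h N

theorem zero_mvw : Mv x ι ((ι pc)⁻¹ * s * ι pc) pv1 := by
  have m2 := mv_c h (mv_c h N.ms.toMv)
  have e1 : ι pc * (ι pc * s * (ι pc)⁻¹) * (ι pc)⁻¹ = (ι pc)⁻¹ * s * ι pc := by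
    have e2 : ι pc * ι pc = (ι pc)⁻¹ := eq_inv_of_mul_eq_one_left (iccc h)
    calc ι pc * (ι pc * s * (ι pc)⁻¹) * (ι pc)⁻¹ = ι pc * ι pc * s * (ι pc * ι pc)⁻¹ := by group
      _ = _ := by rw [e2, inv_inv]
  have e3 : pc * (pc * pz * pc⁻¹) * pc⁻¹ = pv1 := by
    have e2 : pc * pc = pc⁻¹ := eq_inv_of_mul_eq_one_left ccc
    calc pc * (pc * pz * pc⁻¹) * pc⁻¹ = pc * pc * pz * (pc * pc)⁻¹ := by group
      _ = _ := by rw [e2, inv_inv, cz']
  rw [e1, e3] at m2
  exact m2

theorem zero_mvw₂ : Mv x ι (ι pc * s * (ι pc)⁻¹) (pz * pv1) := by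
  have := mv_c h N.ms.toMv
  rwa [cz] at this

theorem zero_bw : Commute b ((ι pc)⁻¹ * s * ι pc) := by
  have h1 : Commute b (ι pc) := N.bc
  have h2 : Commute b s := N.sb.symm
  exact (h1.inv_right.mul_right h2).mul_right h1

theorem zero_bw₂ : Commute b (ι pc * s * (ι pc)⁻¹) := by
  have h1 : Commute b (ι pc) := N.bc
  have h2 : Commute b s := N.sb.symm
  exact (h1.mul_right h2).mul_right h1.inv_right

theorem zero_q : ∃ q, CU q ∧ s * ((ι pc)⁻¹ * s * ι pc) * (ι pc * s * (ι pc)⁻¹) = ι q := by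
  have m := (N.ms.toMv.mul (zero_mvw h N) CU_v1).mul (zero_mvw₂ h N) (CU_mul CU_z CU_v1)
  have e1 : pz * pv1 * (pz * pv1) = 1 := CU_sq _ (CU_mul CU_z CU_v1)
  rw [e1] at m
  have hx := m.x
  rw [map_one, mul_one] at hx
  obtain ⟨q, hq, e | e⟩ := cent_U h m (mul_inv_eq_iff_eq_mul.1 hx)
  · exact ⟨q, hq, e⟩
  · exfalso
    have h1 : Commute b (x * ι q) := by
      rw [← e]
      exact ((show Commute b s from N.sb.symm).mul_right (zero_bw h N)).mul_right (zero_bw₂ h N)
    have h2 : Commute b (ι q) := N.mb.toMv.comm hq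
    have h3 : Commute b x := by
      have h4 := h1.mul_right h2.inv_right
      rwa [mul_inv_cancel_right] at h4
    have h5 := N.mb.x
    rw [h3.eq, mul_inv_cancel_right] at h5
    exact f_ne (h.one_iff.1 (mul_left_cancel (h5.symm.trans (mul_one x).symm)))

theorem zero_ww : (ι pc)⁻¹ * s * ι pc * ((ι pc)⁻¹ * s * ι pc) = 1 := by
  calc (ι pc)⁻¹ * s * ι pc * ((ι pc)⁻¹ * s * ι pc) = (ι pc)⁻¹ * (s * s) * ι pc := by group
    _ = 1 := by rw [N.ss]; group

theorem zero_ww₂ : ι pc * s * (ι pc)⁻¹ * (ι pc * s * (ι pc)⁻¹) = 1 := by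
  calc ι pc * s * (ι pc)⁻¹ * (ι pc * s * (ι pc)⁻¹) = ι pc * (s * s) * (ι pc)⁻¹ := by group
    _ = 1 := by rw [N.ss]; group

theorem zero_sw : s * ((ι pc)⁻¹ * s * ι pc) = (ι pc)⁻¹ * s * ι pc * s := by
  obtain ⟨q, hq, e⟩ := zero_q h N
  obtain ⟨w, hw⟩ : ∃ w, w = (ι pc)⁻¹ * s * ι pc := ⟨_, rfl⟩
  obtain ⟨w₂, hw₂⟩ : ∃ w₂, w₂ = ι pc * s * (ι pc)⁻¹ := ⟨_, rfl⟩
  have e3 := zero_ww h N
  have e4 := zero_ww₂ h N
  have e5 := (zero_mvw₂ h N).comm hq
  rw [← hw, ← hw₂] at e
  rw [← hw] at e3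
  rw [← hw₂] at e4 e5
  rw [← hw]
  have e6 : s * w = ι q * w₂ := by
    rw [← e, mul_assoc, e4, mul_one]
  have e7 : s * w * (s * w) = 1 := by
    rw [e6]
    calc ι q * w₂ * (ι q * w₂) = ι q * (w₂ * ι q) * w₂ := by group
      _ = ι q * ι q * (w₂ * w₂) := by rw [e5]; group
      _ = 1 := by rw [← map_mul, CU_sq q hq, map_one, one_mul, e4]
  calc s * w = s * w * (s * w) * (w * s) := by
        calc s * w = s * w * ((s * (w * w) * s)) := by rw [e3, mul_one, N.ss, mul_one]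
          _ = _ := by group
    _ = w * s := by rw [e7, one_mul]

/-- `v₂ w v₂ = w₂` -/
theorem zero_v2w : ι pv2 * ((ι pc)⁻¹ * s * ι pc) * ι pv2 = ι pc * s * (ι pc)⁻¹ := by
  have hv2 : ι pv2 * ι pv2 = 1 := by rw [← map_mul, v22, map_one]
  have h1 : ι pv2 * ι pc * ι pv2 = (ι pc)⁻¹ := by rw [← map_mul, ← map_mul, v2c, map_inv]
  have hv : (ι pv2)⁻¹ = ι pv2 := inv_eq_of_mul_eq_one_right hv2
  have h2 : ι pv2 * (ι pc)⁻¹ * ι pv2 = ι pc := by
    rw [← h1]
    calc ι pv2 * (ι pv2 * ι pc * ι pv2) * ι pv2 = (ι pv2 * ι pv2) * ι pc * (ι pv2 * ι pv2) := by group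
      _ = ι pc := by rw [hv2]; group
  have h3 : ι pv2 * s * ι pv2 = s := by rw [← N.ms.v2, mul_assoc, hv2, mul_one]
  calc ι pv2 * ((ι pc)⁻¹ * s * ι pc) * ι pv2
      = ι pv2 * (ι pc)⁻¹ * (ι pv2 * (ι pv2)⁻¹) * s * ((ι pv2)⁻¹ * ι pv2) * ι pc * ι pv2 := by group
    _ = ι pv2 * (ι pc)⁻¹ * ι pv2 * (ι pv2 * s * ι pv2) * (ι pv2 * ι pc * ι pv2) := by
        rw [hv]; simp only [mul_assoc]
    _ = ι pc * s * (ι pc)⁻¹ := by rw [h2, h3, h1]

theorem zero_ww' : ((ι pc)⁻¹ * s * ι pc) * (ι pc * s * (ι pc)⁻¹) = (ι pc * s * (ι pc)⁻¹) * ((ι pc)⁻¹ * s * ι pc) := by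
  have h1 := zero_sw h N
  have e2 : ι pc * ι pc = (ι pc)⁻¹ := eq_inv_of_mul_eq_one_left (iccc h)
  have e3 : (ι pc)⁻¹ * ((ι pc)⁻¹ * s * ι pc) * ι pc = ι pc * s * (ι pc)⁻¹ := by
    calc (ι pc)⁻¹ * ((ι pc)⁻¹ * s * ι pc) * ι pc = (ι pc * ι pc)⁻¹ * s * (ι pc * ι pc) := by group
      _ = _ := by rw [e2, inv_inv]
  rw [← e3]
  calc (ι pc)⁻¹ * s * ι pc * ((ι pc)⁻¹ * ((ι pc)⁻¹ * s * ι pc) * ι pc)
      = (ι pc)⁻¹ * (s * ((ι pc)⁻¹ * s * ι pc)) * ι pc := by group
    _ = (ι pc)⁻¹ * ((ι pc)⁻¹ * s * ι pc * s) * ι pc := by rw [h1]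
    _ = _ := by group

theorem zero_v2w' : ∃ n, (n = 1 ∨ n = ι pz ∨ n = ι pf ∨ n = ι pf * ι pz) ∧
    ι pv2 * ((ι pc)⁻¹ * s * ι pc) * ι pv2 = ((ι pc)⁻¹ * s * ι pc) * (s * n) := by
  obtain ⟨q, hq, e⟩ := zero_q h N
  have hv2 : ι pv2 * ι pv2 = 1 := by rw [← map_mul, v22, map_one]
  have h3 : ι pv2 * s * ι pv2 = s := by rw [← N.ms.v2, mul_assoc, hv2, mul_one]
  obtain ⟨w, hw⟩ : ∃ w, w = (ι pc)⁻¹ * s * ι pc := ⟨_, rfl⟩
  obtain ⟨w₂, hw₂⟩ : ∃ w₂, w₂ = ι pc * s * (ι pc)⁻¹ := ⟨_, rfl⟩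
  have a1 := zero_v2w h N
  have a2 := zero_sw h N
  have a3 := zero_ww h N
  have a4 := zero_ww' h N
  have a5 : w₂ * ι q = ι q * w₂ := hw₂ ▸ (zero_mvw₂ h N).comm hq
  rw [← hw, ← hw₂] at e a1 a4
  rw [← hw] at a2 a3
  rw [← hw]
  have a6 : ι pv2 * w₂ * ι pv2 = w := by
    rw [← a1]
    calc ι pv2 * (ι pv2 * w * ι pv2) * ι pv2 = (ι pv2 * ι pv2) * w * (ι pv2 * ι pv2) := by group
      _ = w := by rw [hv2]; group
  -- `ι q` commutes with `v₂`
  have hqL : CL q := by
    refine ⟨hq, h.comm_ι.1 ?_⟩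
    have h4 : ι pv2 * ι q * ι pv2 = ι q := by
      rw [← e]
      calc ι pv2 * (s * w * w₂) * ι pv2 = ι pv2 * s * 1 * w * 1 * w₂ * ι pv2 := by group
        _ = (ι pv2 * s * ι pv2) * (ι pv2 * w * ι pv2) * (ι pv2 * w₂ * ι pv2) := by
            rw [← hv2]; simp only [mul_assoc]
        _ = s * w₂ * w := by rw [h3, a1, a6]
        _ = s * w * w₂ := by rw [mul_assoc, ← a4, mul_assoc]
    calc ι q * ι pv2 = ι pv2 * ι q * ι pv2 * ι pv2 := by rw [h4]
      _ = ι pv2 * ι q := by rw [mul_assoc, hv2, mul_one]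
  have hws : w * (s * ι q) = w₂ := by
    rw [← e]
    calc w * (s * (s * w * w₂)) = w * (s * s) * w * w₂ := by group
      _ = w₂ := by rw [N.ss, mul_one, a3, one_mul]
  refine ⟨ι q, ?_, by rw [a1, hws]⟩
  rcases CL_eq hqL with e | e | e | e <;> rw [e]
  · left; rw [map_one]
  · right; left; rfl
  · right; right; left; rfl
  · right; right; right; rw [map_mul]

omit h N in
theorem cz_f : ∀ a : Perm (Fin 6), a * pz = pz * a → a * pf = pf * a := by (simp only [↓Cfsg.Agent.PermCode.M, Cfsg.Agent.PermCode.P6.R, Cfsg.Agent.PermCode.B]; decide +kernel)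

omit h N in
theorem ι_T0 {a : Perm (Fin 6)} (ha : a * pz = pz * a) :
    ι a ∈ T0 x (ι pz) (ι pf) (ι pv1) (ι pv2) := by
  obtain ⟨i, j, k, l, rfl⟩ := cent_zf a ha (cz_f a ha)
  rw [map_mul, map_mul, map_mul, map_pow, map_pow, map_pow, map_pow]
  have m : ∀ y ∈ ({x, ι pz, ι pf, ι pv1, ι pv2} : Set G), y ∈ T0 x (ι pz) (ι pf) (ι pv1) (ι pv2) :=
    fun y hy => _root_.Subgroup.subset_closure hy
  exact mul_mem (pow_mem (m _ (by simp)) _) (mul_mem (pow_mem (m _ (by simp)) _)
    (mul_mem (pow_mem (m _ (by simp)) _) (pow_mem (m _ (by simp)) _)))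

omit h N in
theorem x_T0 : x ∈ T0 x (ι pz) (ι pf) (ι pv1) (ι pv2) := _root_.Subgroup.subset_closure (by simp)

theorem zero_T_form {t : G} (hx : t * x = x * t) (hz : t * ι pz = ι pz * t) :
    t ∈ T0 x (ι pz) (ι pf) (ι pv1) (ι pv2) ∨ ∃ u ∈ T0 x (ι pz) (ι pf) (ι pv1) (ι pv2), t = r * ι pv2 * u := by
  obtain ⟨a, ha, e⟩ := mem_T h hx hz
  have hθ : θ a * pz = pz * θ a := by
    have := congrArg θ ha
    rwa [map_mul, map_mul, θ_z] at this
  have hv2 : ι pv2 * ι pv2 = 1 := by rw [← map_mul, v22, map_one]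
  have h1 : ι pv2 * ι (θ a) ∈ T0 x (ι pz) (ι pf) (ι pv1) (ι pv2) :=
    mul_mem (ι_T0 zv2.symm) (ι_T0 hθ)
  have h2 : ι a * r = r * ι pv2 * (ι pv2 * ι (θ a)) := by
    rw [h.ιr]
    calc r * ι (θ a) = r * (ι pv2 * ι pv2) * ι (θ a) := by rw [hv2, mul_one]
      _ = _ := by group
  rcases e with e | e | e | e
  · left; rw [e]; exact ι_T0 ha
  · left; rw [e]; exact mul_mem x_T0 (ι_T0 ha)
  · right; exact ⟨_, h1, by rw [e, h2]⟩
  · right
    refine ⟨x * (ι pv2 * ι (θ a)), mul_mem x_T0 h1, ?_⟩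
    rw [e, h2]
    have h3 : x * (r * ι pv2) = r * ι pv2 * x := by rw [← mul_assoc, ← h.rx, mul_assoc, h.comm, mul_assoc]
    rw [← mul_assoc x, h3, mul_assoc]

theorem zero_eps : (r * ι pv2 * (r * ι pv2) = ι pv1 * ι pv2 ∧ s * (r * ι pv2) = r * ι pv2 * s) ∨
    (r * ι pv2 * (r * ι pv2) = ι pv1 * ι pv2 * x ∧ s * (r * ι pv2) = r * ι pv2 * (s * ι pf)) := by
  have h1 : r * ι pv2 = ι pv1 * r := by
    have := h.rι pv2
    rwa [θ_v2] at this
  have h2 : r * ι pv2 * (r * ι pv2) = ι pv1 * (r * r) * ι pv2 := by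
    nth_rw 1 [h1]; group
  have h3 : b * (r * r) = r * (s * r) * (s * b) := by
    calc b * (r * r) = b * r * r := by group
      _ = r * (s * b) * r := by rw [N.br]
      _ = r * s * (b * r) := by group
      _ = r * s * (r * (s * b)) := by rw [N.br]
      _ = _ := by group
  have hsb : s * b * (s * b) = 1 := by
    calc s * b * (s * b) = s * (b * s) * b := by group
      _ = (s * s) * (b * b) := by rw [← N.sb]; group
      _ = 1 := by rw [N.ss, N.bb, one_mul]
  have h4 : r * (s * r) = b * (r * r) * (s * b) := by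
    rw [h3]
    calc r * (s * r) = r * (s * r) * (s * b * (s * b)) := by rw [hsb, mul_one]
      _ = _ := by group
  have v2s := N.ms.v2
  rcases h.rr with e | e
  · left
    refine ⟨by rw [h2, e, mul_one], ?_⟩
    have h5 : s * r = r * s := by
      have h6 : r * (s * r) = s := by
        rw [h4, e, mul_one, N.sb, ← mul_assoc, N.bb, one_mul]
      calc s * r = (r * r) * (s * r) := by rw [e, one_mul]
        _ = r * (r * (s * r)) := by group
        _ = r * s := by rw [h6]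
    rw [← mul_assoc, h5, mul_assoc, v2s, mul_assoc]
  · right
    refine ⟨by rw [h2, e, mul_assoc, h.comm, ← mul_assoc], ?_⟩
    have hbx : b * x = x * ι pf * b := mul_inv_eq_iff_eq_mul.1 N.mb.x
    have h5 : s * r = r * (s * ι pf) := by
      have h6 : r * (s * r) = x * (s * ι pf) := by
        rw [h4, e, hbx, N.sb]
        calc x * ι pf * b * (b * s) = x * ι pf * (b * b) * s := by group
          _ = x * (s * ι pf) := by rw [N.bb, mul_one, N.ms.f, mul_assoc]
      have h7 : r * (s * r) = r * (r * (s * ι pf)) := by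
        rw [h6, ← e]; group
      exact mul_left_cancel h7
    calc s * (r * ι pv2) = s * r * ι pv2 := by group
      _ = r * (s * (ι pf * ι pv2)) := by rw [h5]; group
      _ = r * (s * ι pv2 * ι pf) := by rw [h.comm_ι.2 fv2]; group
      _ = _ := by rw [v2s]; group

seal _root_.Equiv.swap in
theorem zero_dbl (T : Subgroup G) (hT : ∀ g, g ∈ T ↔ g * x = x * g ∧ g * ι pz = ι pz * g) (pT : IsPGroup 2 T)
    (syl : ∀ P : Subgroup G, IsPGroup 2 P → (∀ y ∈ P, y * x = x * y) →
      ∃ g, g * x = x * g ∧ ∀ y ∈ P, g * y * g⁻¹ ∈ T) :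
    DblZero x (ι pz) (ι pf) (ι pv1) (ι pv2) s b ((ι pc)⁻¹ * s * ι pc) (r * ι pv2) T where
  xx := h.xx
  zz := by rw [← map_mul, zz, map_one]
  ff := by rw [← map_mul, ff, map_one]
  v11 := by rw [← map_mul, v11, map_one]
  v22 := by rw [← map_mul, v22, map_one]
  ss := N.ss
  bb := N.bb
  z1 := fun e => z_ne (h.one_iff.1 e)
  f1 := fun e => f_ne (h.one_iff.1 e)
  fz1 := fun e => f_ne_z (h.inj e)
  xz := h.comm _
  xf := h.comm _
  xv₁ := h.comm _
  xv₂ := h.comm _
  xr := by rw [← mul_assoc, ← h.rx, mul_assoc, h.comm, mul_assoc]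
  zf := h.comm_ι.2 fz.symm
  zv₁ := h.comm_ι.2 zv1
  zv₂ := h.comm_ι.2 zv2
  zs := N.ms.z.symm
  zb := N.mb.z.symm
  zr := by
    have h1 := h.ιr pz
    rw [θ_z] at h1
    rw [← mul_assoc, h1, mul_assoc, h.comm_ι.2 zv2, mul_assoc]
  fv₁ := h.comm_ι.2 fv1
  fv₂ := h.comm_ι.2 fv2
  fs := N.ms.f.symm
  fb := N.mb.f.symm
  v₁s := N.ms.v1.symm
  v₁b := N.mb.v1.symm
  v₂s := N.ms.v2.symm
  v₂b := N.mb.v2.symm
  v₂v₁ := by
    rw [← map_mul, ← map_mul, ← map_mul]
    congr 1
    rw [v12, mul_assoc, zz, mul_one]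
  xs := by
    have h1 : s * x = x * ι pz * s := mul_inv_eq_iff_eq_mul.1 N.ms.x
    rw [← mul_assoc, h1, mul_assoc, mul_assoc, N.ms.z, ← mul_assoc (ι pz), ← map_mul, zz, map_one, one_mul]
  xb := by
    have h1 : b * x = x * ι pf * b := mul_inv_eq_iff_eq_mul.1 N.mb.x
    rw [← mul_assoc, h1, mul_assoc, mul_assoc, N.mb.f, ← mul_assoc (ι pf), ← map_mul, ff, map_one, one_mul]
  fr := by
    have h1 := h.ιr pf
    rw [θ_f] at h1
    rw [← mul_assoc, h1, mul_assoc, mul_assoc, ← map_mul, ← map_mul, ← map_mul]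
    congr 2
    rw [mul_assoc, zv2, ← mul_assoc, fv2, mul_assoc]
  v₁r := by
    have h1 := h.ιr pv1
    rw [θ_v1] at h1
    rw [← mul_assoc, h1]
  pT := pT
  Tx := fun t ht => ((hT t).1 ht).1
  syl := syl
  cardT := card_T h T hT
  xT := (hT x).2 ⟨rfl, h.comm _⟩
  fT := (hT _).2 ⟨(h.comm _).symm, h.comm_ι.2 fz⟩
  v₁T := (hT _).2 ⟨(h.comm _).symm, h.comm_ι.2 zv1.symm⟩
  rT := by
    refine (hT _).2 (of_T h (a := pv1) zv1.symm (Or.inr (Or.inr (Or.inl ?_))))
    have := h.rι pv2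
    rwa [θ_v2] at this
  T_form := fun t ht => zero_T_form h N ((hT t).1 ht).1 ((hT t).1 ht).2
  cent := by
    intro g h1 h2 h3
    obtain ⟨q, q1, -, e | e⟩ := cent_l h h1 h2 h3
    · rw [e]; exact ι_T0 q1
    · rw [e]; exact mul_mem x_T0 (ι_T0 q1)
  sb := N.sb
  br := by
    rw [← mul_assoc, N.br, mul_assoc, mul_assoc, N.mb.v2, ← mul_assoc s, N.ms.v2]
    simp only [mul_assoc]
  eps := zero_eps h N
  ww := zero_ww h N
  zw := (zero_mvw h N).z.symm
  fw := (zero_mvw h N).f.symm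
  v₁w := (zero_mvw h N).v1.symm
  sw := zero_sw h N
  bw := (zero_bw h N).eq
  xw := by
    have m := zero_mvw h N
    have h1 : (ι pc)⁻¹ * s * ι pc * x = x * ι pv1 * ((ι pc)⁻¹ * s * ι pc) := mul_inv_eq_iff_eq_mul.1 m.x
    have hv : ι pv1 * ι pv1 = 1 := by rw [← map_mul, v11, map_one]
    obtain ⟨w, hw⟩ : ∃ w, w = (ι pc)⁻¹ * s * ι pc := ⟨_, rfl⟩
    have m1 := m.v1
    rw [← hw] at h1 m1 ⊢
    rw [← mul_assoc w, h1, mul_assoc (x * ι pv1), m1, mul_assoc, ← mul_assoc (ι pv1), hv, one_mul]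
  v₂w := zero_v2w' h N

end Zero

/-- the two cases of (DBL) -/
theorem dbl_cases (h : AutSpl x ι r) (hz : ∃ g, Mv x ι g pz) (hf : ∃ g, Mv x ι g pf) (T : Subgroup G)
    (hT : ∀ g, g ∈ T ↔ g * x = x * g ∧ g * ι pz = ι pz * g) (pT : IsPGroup 2 T)
    (syl : ∀ P : Subgroup G, IsPGroup 2 P → (∀ y ∈ P, y * x = x * y) →
      ∃ g, g * x = x * g ∧ ∀ y ∈ P, g * y * g⁻¹ ∈ T) :
    (∃ s b, NrmOne x r ι s b) ∨
      ∃ s b w, DblZero x (ι pz) (ι pf) (ι pv1) (ι pv2) s b w (r * ι pv2) T := by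
  obtain ⟨s, b, N⟩ := exists_nrm h hz hf
  rcases N.e with ⟨e0, er⟩ | ⟨e1, er⟩
  · right
    obtain ⟨s', N'⟩ := exists_nrmZero h N e0 er
    exact ⟨s', b, _, zero_dbl h N' T hT pT syl⟩
  · left
    exact ⟨s, b, N, e1, er⟩

/-- **(DBL) is impossible**, from the case `e = 0` (`h0`) and an elementary abelian normal subgroup `W ∋ f` of
`C(z)`, `W ≤ T₈` (used for `e = 1` only) -/
theorem dbl_false (h : AutSpl x ι r) (hz : ∃ g, Mv x ι g pz) (hf : ∃ g, Mv x ι g pf) (T : Subgroup G)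
    (hT : ∀ g, g ∈ T ↔ g * x = x * g ∧ g * ι pz = ι pz * g) (pT : IsPGroup 2 T)
    (syl : ∀ P : Subgroup G, IsPGroup 2 P → (∀ y ∈ P, y * x = x * y) →
      ∃ g, g * x = x * g ∧ ∀ y ∈ P, g * y * g⁻¹ ∈ T)
    (h0 : ∀ s b w, DblZero x (ι pz) (ι pf) (ι pv1) (ι pv2) s b w (r * ι pv2) T → False)
    (nxz : ∀ g, g * ι pz * g⁻¹ ≠ x) (W : Subgroup G) (hfW : ι pf ∈ W) (hel : ∀ a ∈ W, a * a = 1)
    (hn : ∀ g, g * ι pz = ι pz * g → ∀ a ∈ W, g * a * g⁻¹ ∈ W)
    (hT8 : ∀ a ∈ W, a * ι pz = ι pz * a ∧ a * ι pf = ι pf * a ∧ ∃ q, CL q ∧ a * x * a⁻¹ = x * ι q) : False := by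
  rcases dbl_cases h hz hf T hT pT syl with ⟨s, b, N⟩ | ⟨s, b, w, D⟩
  · exact one_false h N nxz W hfW hel hn hT8
  · exact h0 s b w D

end Cfsg.Agent.OddHalf.D5.SixAut.DblNorm

end

-- merged: Cfsg.Agent.OddHalf.D5.SixAut.DblEnd
section

/-!
# ODD D5, `K = A₆`, `C(x)/⟨x⟩ = Aut(A₆)`, case (DBL): the end, from `WN` (helper314)
-/

set_option autoImplicit false

namespace Cfsg.Agent.OddHalf.D5.SixAut.DblNorm

open Subgroup Equiv

variable {G : Type*} [Group G] {x r : G} {ι : Perm (Fin 6) →* G}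

/-- `W ≤ T₈` -/
theorem wn_T8 (h : AutSpl x ι r) {W : Subgroup G} (N : WN x (ι pz) (ι pf) W) (a : G) (ha : a ∈ W) :
    a * ι pz = ι pz * a ∧ a * ι pf = ι pf * a ∧ ∃ q, CL q ∧ a * x * a⁻¹ = x * ι q := by
  have ab : ∀ a ∈ W, ∀ c ∈ W, a * c = c * a := by
    intro a ha c hc
    have i1 : a⁻¹ = a := inv_eq_of_mul_eq_one_left (N.el a ha)
    have i2 : c⁻¹ = c := inv_eq_of_mul_eq_one_left (N.el c hc)
    have i3 : (a * c)⁻¹ = a * c := inv_eq_of_mul_eq_one_left (N.el _ (W.mul_mem ha hc))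
    rw [← i3, mul_inv_rev, i1, i2]
  refine ⟨ab a ha _ N.zW, ab a ha _ N.fW, ?_⟩
  have hxi := h.x_inv
  have h1 : x * a * x ∈ W := by
    have := N.nz x (h.comm _) a ha
    rwa [hxi] at this
  have hai : a⁻¹ = a := inv_eq_of_mul_eq_one_left (N.el a ha)
  have h2 : x * a * x * a ∈ W := W.mul_mem h1 ha
  have h3 : x * a * x * a * x = x * (x * a * x * a) := by
    calc x * a * x * a * x = x * (a * (x * a * x)) := by group
      _ = x * (x * a * x * a) := by rw [ab a ha _ h1]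
  have h4 : a * x * a⁻¹ = x * (x * a * x * a) := by
    calc a * x * a⁻¹ = (x * x) * (a * x * a) := by rw [h.xx, one_mul, hai]
      _ = _ := by group
  rw [h4]
  rcases N.cx _ h2 h3 with e | e | e | e <;> rw [e]
  · exact ⟨1, CL_one, by rw [map_one]⟩
  · exact ⟨pz, CL_z, rfl⟩
  · exact ⟨pf, CL_f, rfl⟩
  · exact ⟨pf * pz, CL_mul CL_f CL_z, by rw [map_mul]⟩

/-- **(DBL) is impossible** -/
theorem dbl_false_WN (h : AutSpl x ι r) (hz : ∃ g, Mv x ι g pz) (hf : ∃ g, Mv x ι g pf) (T : Subgroup G)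
    (hT : ∀ g, g ∈ T ↔ g * x = x * g ∧ g * ι pz = ι pz * g) (pT : IsPGroup 2 T)
    (syl : ∀ P : Subgroup G, IsPGroup 2 P → (∀ y ∈ P, y * x = x * y) →
      ∃ g, g * x = x * g ∧ ∀ y ∈ P, g * y * g⁻¹ ∈ T)
    (h0 : ∀ s b w, DblZero x (ι pz) (ι pf) (ι pv1) (ι pv2) s b w (r * ι pv2) T → False)
    (nxz : ∀ g, g * ι pz * g⁻¹ ≠ x) (W : Subgroup G) (N : WN x (ι pz) (ι pf) W) : False :=
  dbl_false h hz hf T hT pT syl h0 nxz W N.fW N.el N.nz fun a ha => wn_T8 h N a ha

end Cfsg.Agent.OddHalf.D5.SixAut.DblNorm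

end
end

-- part: OddHalf/D5/SixAut/FinalOf
section
-- merged: Cfsg.Agent.OddHalf.D5.SixAut.PTwo
section

/-!
# ODD D5, `n = 6`, (C3b), **P2** (helper310)

`p2`: if `x` is conjugate to `x z` but not to `z`, then after a sign twist of `ι` (`f ↦ x f`) `x^G ∩ E₁ = x U₁`, and
(DBL) or (HSx) holds.
-/

set_option autoImplicit false

namespace Cfsg.Agent.OddHalf.D5.SixAut.PTwo

open Subgroup Equiv
open EPerm EOne FusE FusN FusEight PTwoDefs

variable {G : Type*} [Group G] {x r : G} {ι : Perm (Fin 6) →* G}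

theorem eight [Finite G] (h : AutSpl x ι r) (hs : D x (x * ι pz)) (nxz : ∀ g, A g x ≠ ι pz) (hf : ¬ D x (ι pf))
    (hxf : D x (x * ι pf)) : Eight x ι where
  yes := by
    intro a ha
    by_cases hs' : Perm.sign a = 1
    · exact D_even h hs ha hs'
    · exact (D_odd' h ha hs').2 hxf
  no := by
    intro a ha
    by_cases hs' : Perm.sign a = 1
    · exact not_D_even h nxz ha hs'
    · rw [D_odd h ha hs']; exact hf

theorem fus_of (H : Eight x ι) : Fus x ι := fun a ha => ⟨H.yes a ha, H.no a ha⟩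

/-- **P2** -/
theorem p2 [Finite G] (h : AutSpl x ι r) (hG : ∀ (m : G →* ℤˣ) (g : G), m g = 1)
    (hs : ∃ s, s * x * s⁻¹ = x * ι pz) (nxz : ∀ g, g * x * g⁻¹ ≠ ι pz)
    (hZ : ∀ S : Sylow 2 G, Nat.card (center S) ≤ 2) :
    ∃ ι' : Perm (Fin 6) →* G, AutSpl x ι' r ∧ (∀ a, Perm.sign a = 1 → ι' a = ι a) ∧ Fus x ι' ∧
      (DBL x ι' ∨ HSx x ι') := by
  by_cases hf : D x (ι pf)
  · by_cases hxf : D x (x * ι pf)
    · exact (twelve h hs nxz hf hxf).elim
    · have e1 : AutSpl.twist x h.xx ι h.comm pf = x * ι pf := AutSpl.twist_odd _ _ _ _ (by decide +kernel)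
      have e2 : AutSpl.twist x h.xx ι h.comm pz = ι pz := AutSpl.twist_even _ _ _ _ (by decide +kernel)
      have H : Eight x (AutSpl.twist x h.xx ι h.comm) := by
        apply eight (AutSpl.spl_twist h)
        · rw [e2]; exact hs
        · rw [e2]; exact nxz
        · rw [e1]; exact hxf
        · rw [e1, ← mul_assoc, h.xx, one_mul]; exact hf
      exact ⟨_, AutSpl.spl_twist h, fun a ha => AutSpl.twist_even _ _ _ _ ha, fus_of H,
        FusHS.dbl_or_hsx (AutSpl.spl_twist h) H⟩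
  · by_cases hxf : D x (x * ι pf)
    · have H := eight h hs nxz hf hxf
      exact ⟨ι, h, fun _ _ => rfl, fus_of H, FusHS.dbl_or_hsx h H⟩
    · exact (ModFour.false_of h ⟨hs, nxz, hf, hxf⟩ hG hZ).elim

end Cfsg.Agent.OddHalf.D5.SixAut.PTwo

end

-- merged: Cfsg.Agent.OddHalf.D5.SixAut.HsxSym
section

/-!
# ODD D5, `n = 6`, `C_G(x)/⟨x⟩ = Aut(A_6)`, the case (HSx): the conclusion

`sym` : in the situation `HSx x ι` of `PTwoDefs`, the elementary abelian normal subgroups of `C(z)`, `z = ι pz`, are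
`≤ ⟨z⟩`.
-/

set_option autoImplicit false

namespace Cfsg.Agent.OddHalf.D5.SixAut.HsxSym

open HsxW HsxB HsxEnd Subgroup Cfsg Equiv EPerm EOne FusE PTwoDefs

variable {G : Type*} [Group G]

/-- an element moving `x` inside `x U₁` and centralising `U₁` lies in `N(E₁)` -/
theorem mem_NE_of [Finite G] {x r : G} {ι : Perm (Fin 6) →* G} (h : AutSpl x ι r) {g : G}
    (hz : g * ι pz = ι pz * g) (hv : g * ι pv1 = ι pv1 * g)
    (hx : ∃ l, InL (ι pz) (ι pf) l ∧ (g * x * g⁻¹ = x * l ∨ g * x * g⁻¹ = x * (ι pv1 * l))) : g ∈ NE x ι := by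
  have hL : ∀ l, InL (ι pz) (ι pf) l → l ∈ _root_.Cfsg.Agent.OddHalf.D5.SixAut.EOne.E1 x ι := by
    rintro l (rfl | rfl | rfl | rfl)
    · exact (_root_.Cfsg.Agent.OddHalf.D5.SixAut.EOne.E1 x ι).one_mem
    · exact zE h
    · exact fE h
    · exact (_root_.Cfsg.Agent.OddHalf.D5.SixAut.EOne.E1 x ι).mul_mem (fE h) (zE h)
  apply gen_NE h
  · obtain ⟨l, hl, e | e⟩ := hx
    · show g * x * g⁻¹ ∈ _root_.Cfsg.Agent.OddHalf.D5.SixAut.EOne.E1 x ι
      rw [e]
      exact (_root_.Cfsg.Agent.OddHalf.D5.SixAut.EOne.E1 x ι).mul_mem (AutSpl'.x_mem h) (hL l hl)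
    · show g * x * g⁻¹ ∈ _root_.Cfsg.Agent.OddHalf.D5.SixAut.EOne.E1 x ι
      rw [e]
      exact (_root_.Cfsg.Agent.OddHalf.D5.SixAut.EOne.E1 x ι).mul_mem (AutSpl'.x_mem h) ((_root_.Cfsg.Agent.OddHalf.D5.SixAut.EOne.E1 x ι).mul_mem (vE h) (hL l hl))
  · rw [A_eq_iff.2 hz]; exact zE h
  · rw [A_eq_iff.2 hv]; exact vE h

/-- **P4** -/
theorem sym [Finite G] {x r : G} {ι : Perm (Fin 6) →* G} (h : AutSpl x ι r) (hx : HSx x ι)
    (hO : centralizerPPrimeCore 2 (ι pf) = ⊥)
    (hm : ∀ (m : centralizer ({ι pz} : Set G) →* ℤˣ) (hx : x ∈ centralizer ({ι pz} : Set G)), m ⟨x, hx⟩ = 1)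
    (A : Subgroup (centralizer ({ι pz} : Set G))) (hA : A.Normal) (hel : ∀ a ∈ A, a * a = 1) :
    ∀ a ∈ A, (a : G) = 1 ∨ (a : G) = ι pz := by
  obtain ⟨b, bf, bz, bv, bx⟩ := hx.b
  obtain ⟨m, mf, -, mz, -⟩ := hx.m
  have zf : ι pz * ι pf = ι pf * ι pz := by
    rw [← map_mul, ← map_mul]; congr 1; decide +kernel
  obtain ⟨b', c, d, m', H⟩ := HsxFrame.exists_HX h ⟨b, bf, bz, bv, bx⟩ ⟨m, mf, by rw [mz, zf]⟩ (fun g gf gz gv gx =>
    hx.tr g (mem_NE_of h gz gv gx) gf gz gv)
  -- `E₁`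
  have hE : HsxEnd.E1 H = EOne.E1 x ι := by
    apply le_antisymm
    · intro g hg
      have key : ∀ u, InU (ι pz) (ι pf) (ι pv1) u → u ∈ EOne.E1 x ι := by
        have hL : ∀ l, InL (ι pz) (ι pf) l → l ∈ EOne.E1 x ι := by
          rintro l (rfl | rfl | rfl | rfl)
          · exact (EOne.E1 x ι).one_mem
          · exact zE h
          · exact fE h
          · exact (EOne.E1 x ι).mul_mem (fE h) (zE h)
        rintro u ⟨l, hl, rfl | rfl⟩
        · exact hL _ hl
        · exact (EOne.E1 x ι).mul_mem (vE h) (hL _ hl)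
      rcases (mem_E1 H).1 hg with hu | ⟨u, hu, rfl⟩
      · exact key _ hu
      · exact (EOne.E1 x ι).mul_mem (AutSpl'.x_mem h) (key _ hu)
    · intro g hg
      have hg' := hg
      obtain ⟨gx, gz, gv⟩ := hg'
      have gf : g * ι pf = ι pf * g := AutSpl'.comm h hg (fE h)
      exact (mem_E1 H).2 (centU H gx gf gz gv)
  -- `|C(z)|`
  have hcC : 768 ≤ Nat.card (centralizer ({ι pf} : Set G)) := by
    rw [← hx.card]
    exact Subgroup.card_le_of_le (fun g hg => mem_centralizer_singleton_iff.2 (hx.nF g hg))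
  have hcz : 512 < Nat.card (centralizer ({ι pz} : Set G)) := by
    have e : Nat.card (centralizer ({ι pf} : Set G)) ≤ Nat.card (centralizer ({ι pz} : Set G)) := by
      have hρ := rho_z H
      refine Nat.card_le_card_of_injective
        (fun g : centralizer ({ι pf} : Set G) => (⟨(r * m')⁻¹ * g * (r * m'), ?_⟩ : centralizer ({ι pz} : Set G))) ?_
      · have hg := mem_centralizer_singleton_iff.1 g.2
        rw [mem_centralizer_singleton_iff]
        calc (r * m')⁻¹ * g * (r * m') * ι pz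
            = (r * m')⁻¹ * (g * ((r * m') * ι pz * (r * m')⁻¹)) * (r * m') := by group
          _ = (r * m')⁻¹ * (((r * m') * ι pz * (r * m')⁻¹) * g) * (r * m') := by rw [hρ, hg]
          _ = ι pz * ((r * m')⁻¹ * g * (r * m')) := by group
      · intro a b hab
        have := congrArg Subtype.val hab
        exact Subtype.ext (mul_left_cancel (mul_right_cancel this))
    omega
  have hd : ∀ W : Subgroup G, (∀ a ∈ W, a * a = 1) → (∀ w ∈ W, w * ι pz = ι pz * w) →
      (∀ g, g * ι pz = ι pz * g → ∀ w ∈ W, g * w * g⁻¹ ∈ W) → (∃ w ∈ W, w ≠ 1 ∧ w ≠ ι pz) →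
      WN x (ι pz) (ι pf) W := by
    intro W el hWz nz hW
    obtain ⟨h1, h2, h3⟩ := exists_WN h ⟨b, bf, bz, bx⟩ hcz hm W el hWz nz hW
    exact ⟨el, nz, h1, h2, h3⟩
  intro a ha
  by_contra hc
  push Not at hc
  have hWN : WN x (ι pz) (ι pf) (A.map (centralizer ({ι pz} : Set G)).subtype) := by
    apply hd
    · rintro _ ⟨w, hw, rfl⟩
      exact congrArg Subtype.val (hel w hw)
    · rintro _ ⟨w, hw, rfl⟩
      exact mem_centralizer_singleton_iff.1 w.2
    · rintro g hg _ ⟨w, hw, rfl⟩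
      exact ⟨(⟨g, mem_centralizer_singleton_iff.2 hg⟩ * w * ⟨g, mem_centralizer_singleton_iff.2 hg⟩⁻¹ :),
        hA.conj_mem w hw _, rfl⟩
    · exact ⟨a, ⟨a, ha, rfl⟩, hc.1, hc.2⟩
  refine no_W H hO (NE x ι) hx.nF ?_ hx.card.ge hd hWN
  intro g hg e he
  rw [hE] at he ⊢
  exact A_mem hg he

end Cfsg.Agent.OddHalf.D5.SixAut.HsxSym

end

-- merged: Cfsg.Agent.OddHalf.D5.SixAut.FinalSpl
section

/-!
# ODD D5, `n = 6`, `C_G(x)/⟨x⟩ = Aut(A_6)` split: the elementary abelian normal subgroups of `C(z)` (helper383)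

`spl`: in the case `AutSpl` every elementary abelian normal subgroup of `C(z)` is `≤ ⟨z⟩`: P2 (helper310), (DBL)
(helper314, helper668), (HSx) (helper419, helper383).
-/

set_option autoImplicit false

namespace Cfsg.Agent.OddHalf.D5.SixAut.C3b

open Subgroup Equiv Cfsg
open DblNorm PTwoDefs

variable {G : Type*} [Group G] {x r : G} {ι : Perm (Fin 6) →* G}

theorem pc_pc : pc * (pc * pz * pc⁻¹) * pc⁻¹ = pv1 := by decide +kernel

/-- in (DBL) some `w ∈ C(z)` maps `x` to `x v₁` -/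
theorem exists_v1 (h : AutSpl x ι r) (hz : ∃ g, Mv x ι g pz) :
    ∃ w, w * ι pz = ι pz * w ∧ w * x * w⁻¹ = x * ι pv1 := by
  obtain ⟨g, m⟩ := hz
  have m1 := mv_c h (mv_c h m)
  rw [pc_pc] at m1
  exact ⟨_, m1.z, m1.x⟩

/-- (DBL) -/
theorem dbl [Finite G] [IsSimpleGroup G] (hna : ¬ ∀ a b : G, a * b = b * a) (h : AutSpl x ι r) (hd : DBL x ι)
    (nxz : ∀ g, g * x * g⁻¹ ≠ ι pz) (pT : IsPGroup 2 (TT x (ι pz)))
    (syl : ∀ P : Subgroup G, IsPGroup 2 P → (∀ y ∈ P, y * x = x * y) →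
      ∃ g, g * x = x * g ∧ ∀ y ∈ P, g * y * g⁻¹ ∈ TT x (ι pz))
    (hm : ∀ (m : centralizer ({ι pz} : Set G) →* ℤˣ) (hx : x ∈ centralizer ({ι pz} : Set G)), m ⟨x, hx⟩ = 1)
    (A : Subgroup (centralizer ({ι pz} : Set G))) (hA : A.Normal) (hel : ∀ a ∈ A, a * a = 1) :
    ∀ a ∈ A, (a : G) = 1 ∨ (a : G) = ι pz := by
  intro a ha
  by_contra hc
  push Not at hc
  obtain ⟨g1, f1, z1, v1, x1⟩ := hd.hz
  obtain ⟨g2, f2, z2, v2, x2⟩ := hd.hf
  have hz : ∃ g, Mv x ι g pz := ⟨g1, f1, z1, v1, x1⟩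
  have hf : ∃ g, Mv x ι g pf := ⟨g2, f2, z2, v2, x2⟩
  have el : ∀ w ∈ A.map (centralizer ({ι pz} : Set G)).subtype, w * w = 1 := by
    rintro _ ⟨w, hw, rfl⟩
    exact congrArg Subtype.val (hel w hw)
  have nz : ∀ g, g * ι pz = ι pz * g → ∀ w ∈ A.map (centralizer ({ι pz} : Set G)).subtype,
      g * w * g⁻¹ ∈ A.map (centralizer ({ι pz} : Set G)).subtype := by
    rintro g hg _ ⟨w, hw, rfl⟩
    exact ⟨(⟨g, mem_centralizer_singleton_iff.2 hg⟩ * w * ⟨g, mem_centralizer_singleton_iff.2 hg⟩⁻¹ :),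
      hA.conj_mem w hw _, rfl⟩
  have hWz : ∀ w ∈ A.map (centralizer ({ι pz} : Set G)).subtype, w * ι pz = ι pz * w := by
    rintro _ ⟨w, hw, rfl⟩
    exact mem_centralizer_singleton_iff.1 w.2
  obtain ⟨h1, h2, h3⟩ := exists_WN_dbl h ⟨g2, f2, z2, x2⟩ (exists_v1 h hz) hm _ el hWz nz
    ⟨a, ⟨a, ha, rfl⟩, hc.1, hc.2⟩
  refine dbl_false_WN h hz hf (TT x (ι pz)) (fun g => mem_TT) pT syl (fun s b w D => dblZero_false hna D) ?_ _
    ⟨el, nz, h1, h2, h3⟩
  intro g e
  apply nxz g⁻¹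
  rw [← e]; group

/-- **the split case** -/
theorem spl [Finite G] [IsSimpleGroup G] (hna : ¬ ∀ a b : G, a * b = b * a) (h : AutSpl x ι r)
    (hG : ∀ (m : G →* ℤˣ) (g : G), m g = 1) (hs : ∃ s, s * x * s⁻¹ = x * ι pz) (nxz : ∀ g, g * x * g⁻¹ ≠ ι pz)
    (hZ : ∀ S : Sylow 2 G, Nat.card (center S) ≤ 2)
    (bal : ∀ t : G, orderOf t = 2 → centralizerPPrimeCore 2 t = ⊥) (pT : IsPGroup 2 (TT x (ι pz)))
    (syl : ∀ P : Subgroup G, IsPGroup 2 P → (∀ y ∈ P, y * x = x * y) →
      ∃ g, g * x = x * g ∧ ∀ y ∈ P, g * y * g⁻¹ ∈ TT x (ι pz))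
    {z : G} (hz : z = ι pz)
    (hm : ∀ (m : centralizer ({z} : Set G) →* ℤˣ) (hx : x ∈ centralizer ({z} : Set G)), m ⟨x, hx⟩ = 1)
    (A : Subgroup (centralizer ({z} : Set G))) (hA : A.Normal) (hel : ∀ a ∈ A, a * a = 1) :
    ∀ a ∈ A, (a : G) = 1 ∨ (a : G) = z := by
  obtain ⟨ι', h', he, -, hd⟩ := PTwo.p2 h hG hs nxz hZ
  have e : ι' pz = ι pz := he pz (by decide +kernel)
  rw [← e] at hz nxz pT syl
  subst hz
  rcases hd with hd | hd
  · exact dbl hna h' hd nxz pT syl hm A hA hel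
  · refine HsxSym.sym h' hd (bal _ ?_) hm A hA hel
    refine orderOf_eq_prime ?_ ?_
    · rw [pow_two, ← map_mul, show pf * pf = 1 by decide +kernel, map_one]
    · exact fun e => absurd (h'.one_iff.1 e) (by decide +kernel)

end Cfsg.Agent.OddHalf.D5.SixAut.C3b

end

-- merged: Cfsg.Agent.OddHalf.D5.SixAut.FinalKey
section

/-!
# ODD D5, `n = 6`, `C_G(x)/⟨x⟩ = Aut(A_6)`: the elementary abelian normal subgroups of `C(z)`, all cases (helper383)
-/

set_option autoImplicit false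

namespace Cfsg.Agent.OddHalf.D5.SixAut.C3b

open Subgroup Equiv Cfsg
open scoped commutatorElement

variable {G : Type*} [Group G] {x f r : G} {ι : A6 →* G}

/-- a simple non-abelian group is perfect -/
theorem comm_top [IsSimpleGroup G] (hna : ¬ ∀ a b : G, a * b = b * a) : commutator G = ⊤ := by
  rcases (inferInstance : (commutator G).Normal).eq_bot_or_eq_top with e | e
  · exfalso
    apply hna
    intro a b
    have h1 : ⁅a, b⁆ ∈ commutator G := Subgroup.commutator_mem_commutator (mem_top a) (mem_top b)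
    rw [e, mem_bot, commutatorElement_def] at h1
    have h2 : a * b * (b * a)⁻¹ = 1 := by rw [← h1]; group
    exact mul_inv_eq_one.1 h2
  · exact e

theorem hom_one (hc : commutator G = ⊤) {A : Type*} [CommGroup A] (m : G →* A) (g : G) : m g = 1 := by
  have h1 : commutator G ≤ m.ker := by
    rw [commutator_def, commutator_le]
    intro a _ b _
    rw [MonoidHom.mem_ker, commutatorElement_def, map_mul, map_mul, map_mul, map_inv, map_inv,
      mul_comm (m a), mul_inv_cancel_right, mul_inv_cancel]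
  rw [hc] at h1
  exact MonoidHom.mem_ker.1 (h1 (mem_top g))

/-- **all cases**: every elementary abelian normal subgroup of `C(z)` is `≤ ⟨z⟩` -/
theorem key [Finite G] [IsSimpleGroup G] (hna : ¬ ∀ a b : G, a * b = b * a) (h : AutGen x ι f r)
    (h5 : ¬ SectionalPRankLE 2 4 G) (bal : ∀ t : G, orderOf t = 2 → centralizerPPrimeCore 2 t = ⊥)
    (htw : AutTw x ι f r → False) (A : Subgroup (centralizer ({ι qz} : Set G))) (hA : A.Normal)
    (hel : ∀ a ∈ A, a * a = 1) : ∀ a ∈ A, (a : G) = 1 ∨ (a : G) = ι qz := by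
  have hc := comm_top hna
  have hG : ∀ (m : G →* ℤˣ) (g : G), m g = 1 := fun m g => hom_one hc m g
  have hs := h.exists_s h5
  have nxz := h.nxz h5
  have hZ := h.card_center_le h5
  have hm : ∀ (m : centralizer ({ι qz} : Set G) →* ℤˣ) (hx : x ∈ centralizer ({ι qz} : Set G)), m ⟨x, hx⟩ = 1 :=
    fun m _ => h.foc h5 hc m
  have pT := h.pT
  have syl := h.setup.syl
  rcases h.cases with ⟨ι', h', -, he⟩ | hI | hT
  · have e : ι qz = ι' pz := (he qz).symm
    refine spl hna h' hG ?_ ?_ hZ bal ?_ ?_ e hm A hA hel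
    · rw [← e]; exact hs
    · rw [← e]; exact nxz
    · rw [← e]; exact pT
    · rw [← e]; exact syl
  · obtain ⟨S, hTS⟩ := pT.exists_le_sylow
    exact IsoKill.sym hI ⟨S, fun y hy => mem_centralizer_singleton_iff.2 (h.S_le h5 S hTS hy)⟩ h5 hm A hA hel
  · exact (htw hT).elim

end Cfsg.Agent.OddHalf.D5.SixAut.C3b

end

-- merged: Cfsg.Agent.OddHalf.D5.SixAut.TwFour
section

/-!
# ODD D5, `n = 6`, (C3b), the non-abelian variant: `x^G ∩ E₁ = x V₁` is impossible (helper310)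
-/

set_option autoImplicit false
set_option linter.unusedSectionVars false

namespace Cfsg.Agent.OddHalf.D5.SixAut.TwFour

open Subgroup Equiv
open EPerm EPerm2 EOne TwE TwOne TwFus
open FusE (A A_def A_mul A_inv A_inv' A_inj A_inv_eq A_eq_inv A_eq_iff A_conj A_ι A_ι_inv NE A_mem mem_NE)
open FusN (D D_A D_of_A D_self even_conj odd_conj VInv)
open ModFour (Four card_ev card_cfz)

variable {G : Type*} [Group G] {x r : G} {ι : Perm (Fin 6) →* G}

section

variable (h : AutE x ι r)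
include h

theorem zz : ι pz * ι pz = 1 := AutE'.sq h (zE h)
theorem ff : ι pf * ι pf = 1 := AutE'.sq h (fE h)
theorem zf : ι pz * ι pf = ι pf * ι pz := AutE'.comm h (zE h) (fE h)

theorem no (H : Four x ι) {a : Perm (Fin 6)} (ha : InV a) : ¬ D x (ι a) := by
  by_cases hs : Perm.sign a = 1
  · exact not_D_even h H.nz ha hs
  · rcases D_odd h ha hs with ⟨e, -⟩ | ⟨e, -⟩
    · rw [e]; exact H.nf
    · rw [e]; exact H.nxf

theorem yes [Finite G] (H : Four x ι) {a : Perm (Fin 6)} (ha : InV a) : D x (x * ι a) ↔ Perm.sign a = 1 := by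
  constructor
  · intro hD
    by_contra hs
    rcases D_odd h ha hs with ⟨-, e⟩ | ⟨-, e⟩
    · rw [e] at hD; exact H.nxf hD
    · rw [e] at hD; exact H.nf hD
  · exact D_even h H.even ha

theorem vinv [Finite G] (H : Four x ι) : VInv x ι := by
  have key : ∀ n ∈ NE x ι, ∀ b, InV b → Perm.sign b = 1 →
      ∃ b', InV b' ∧ Perm.sign b' = 1 ∧ A n (x * ι b) = x * ι b' := by
    intro n hn b hb hs
    have hD : D x (A n (x * ι b)) := by rw [D_A]; exact D_even h H.even hb hs
    obtain ⟨b', hb', e | e⟩ := AutE'.form h (A_mem hn (AutE'.mem' h hb))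
    · exfalso
      rw [e] at hD
      exact no h H hb' hD
    · refine ⟨b', hb', ?_, e⟩
      rw [e, yes h H hb'] at hD
      exact hD
  intro n hn w hw hws
  obtain ⟨b, hb, sb, e⟩ := key n hn 1 V_one (map_one _)
  obtain ⟨b', hb', sb', e'⟩ := key n hn w hw hws
  rw [map_one, mul_one] at e
  refine ⟨b * b', V_mul hb hb', by rw [Perm.sign_mul, sb, sb', one_mul], ?_⟩
  have h1 : ι w = x * (x * ι w) := by rw [← mul_assoc, h.xx, one_mul]
  rw [h1, map_mul, e, e', map_mul]
  have h2 := h.comm' b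
  calc x * ι b * (x * ι b') = x * (ι b * x) * ι b' := by group
    _ = (x * x) * (ι b * ι b') := by rw [h2]; group
    _ = _ := by rw [h.xx, one_mul]

theorem exF [Finite G] (H : Four x ι) : ∃ F, (F = ι pf ∨ F = x * ι pf) ∧
    ∀ w, InV w → Perm.sign w = 1 → ∃ k ∈ NE x ι, A k (ι pz) = ι pz ∧ A k F = F ∧ A k x = x * ι w := by
  obtain ⟨n, hn, hnx⟩ := fus' h (AutE'.mem' h V_z) H.even
  obtain ⟨c, hc, hcx, hcz, hcv⟩ := adjust h (vinv h H) hn
  rw [hnx] at hcx
  have hF : ∃ F, (F = ι pf ∨ F = x * ι pf) ∧ A c F = F := by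
    rcases lemC h hcx hcz hcv with e | e
    · exact ⟨_, Or.inl rfl, e⟩
    · refine ⟨_, Or.inr rfl, ?_⟩
      rw [map_mul, hcx, e, map_mul]
      calc x * ι pz * (ι pf * ι pz) = x * (ι pz * ι pf) * ι pz := by group
        _ = x * ι pf * (ι pz * ι pz) := by rw [zf h]; group
        _ = x * ι pf := by rw [zz h, mul_one]
  obtain ⟨F, hF, hcF⟩ := hF
  have hd : A (ι pc) F = F := by
    rcases hF with rfl | rfl
    · exact d_f h
    · rw [map_mul, A_ι_x h, d_f h]
  have hd' : A (ι pc)⁻¹ F = F := A_inv_eq hd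
  have hdN : ι pc ∈ NE x ι := ι_NE h c_f
  have hzv : A c (ι (pz * pv1)) = ι (pz * pv1) := by rw [map_mul ι, map_mul, hcz, hcv]
  have A1 : ∀ e, A (1 : G) e = e := fun e => by rw [A_def, one_mul, inv_one, mul_one]
  refine ⟨F, hF, ?_⟩
  intro w hw hs
  rcases V_even w hw hs with rfl | rfl | rfl | rfl
  · exact ⟨1, one_mem _, A1 _, A1 _, by rw [A1, map_one, mul_one]⟩
  · exact ⟨c, hc, hcz, hcF, hcx⟩
  · refine ⟨(ι pc)⁻¹ * c * ι pc, mul_mem (mul_mem (inv_mem hdN) hc) hdN, ?_, ?_, ?_⟩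
    · rw [A_mul, A_mul, d_z h, hzv]; exact A_inv_eq (d_z h)
    · rw [A_mul, A_mul, hd, hcF, hd']
    · rw [A_mul, A_mul, A_ι_x h, hcx, map_mul, A_ι_x_inv h, d_z' h]
  · refine ⟨ι pc * c * (ι pc)⁻¹, mul_mem (mul_mem hdN hc) (inv_mem hdN), ?_, ?_, ?_⟩
    · rw [A_conj, d_z' h, hcv, d_v h]
    · rw [A_conj, hd', hcF, hd]
    · rw [A_conj, A_ι_x_inv h, hcx, map_mul, A_ι_x h, d_z h]

/-- the order of a subgroup `{1, x} ι(P)` -/
theorem card_pair [Finite G] (P : Perm (Fin 6) → Prop) [DecidablePred P] (K : Subgroup G)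
    (hK : ∀ g, g ∈ K ↔ ∃ a, P a ∧ (g = ι a ∨ g = x * ι a)) :
    Nat.card K = 2 * (Finset.univ.filter P).card := by
  have e : Bool × {a : Perm (Fin 6) // P a} ≃ K := Equiv.ofBijective
    (fun p => ⟨(if p.1 then x else 1) * ι p.2.1, by
      rw [hK]
      refine ⟨p.2.1, p.2.2, ?_⟩
      split_ifs
      · exact Or.inr rfl
      · exact Or.inl (one_mul _)⟩) (by
    constructor
    · rintro ⟨b, p, hp⟩ ⟨c, q, hq⟩ e
      have h1 : (if b then x else 1) * ι p = (if c then x else 1) * ι q := congrArg Subtype.val e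
      cases b <;> cases c
      · simp only [Bool.false_eq_true, if_false, one_mul] at h1
        have := h.inj h1
        subst this; rfl
      · simp only [Bool.false_eq_true, if_false, one_mul, if_true] at h1
        exact absurd h1 (h.ne_x p q)
      · simp only [Bool.false_eq_true, if_false, one_mul, if_true] at h1
        exact absurd h1.symm (h.ne_x q p)
      · simp only [if_true] at h1
        have := h.xι_inj h1
        subst this; rfl
    · rintro ⟨g, hg⟩
      obtain ⟨a, ha, hp | hp⟩ := (hK g).1 hg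
      · exact ⟨(false, ⟨a, ha⟩), Subtype.ext (by simp [hp])⟩
      · exact ⟨(true, ⟨a, ha⟩), Subtype.ext (by simp [hp])⟩)
  rw [← Nat.card_congr e, Nat.card_prod, Nat.card_eq_fintype_card (α := {a // P a}), Fintype.card_subtype]
  simp only [_root_.Nat.card_eq_fintype_card, _root_.Fintype.card_bool]

/-- `C_{N(E₁)}(⟨z, F⟩)` -/
theorem card_H [Finite G] (H : Four x ι) {F : G} (hF : F = ι pf ∨ F = x * ι pf)
    (hc : ∀ w, InV w → Perm.sign w = 1 → ∃ k ∈ NE x ι, A k (ι pz) = ι pz ∧ A k F = F ∧ A k x = x * ι w) :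
    Nat.card ((NE x ι ⊓ centralizer {ι pz} ⊓ centralizer {F} : Subgroup G)) = 128 := by
  have h1 := Cfsg.Agent.OddHalf.D6.Six.Parity.card_orbit x (NE x ι ⊓ centralizer {ι pz} ⊓ centralizer {F})
  have hmem : ∀ k, k ∈ (NE x ι ⊓ centralizer {ι pz} ⊓ centralizer {F} : Subgroup G) ↔
      k ∈ NE x ι ∧ A k (ι pz) = ι pz ∧ A k F = F := by
    intro k
    rw [mem_inf, mem_inf, mem_centralizer_singleton_iff, mem_centralizer_singleton_iff, A_eq_iff, A_eq_iff, and_assoc]
  have h2 : {d : G | ∃ k ∈ (NE x ι ⊓ centralizer {ι pz} ⊓ centralizer {F} : Subgroup G), k * x * k⁻¹ = d} =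
      {d : G | ∃ a, (InV a ∧ Perm.sign a = 1) ∧ x * ι a = d} := by
    ext d
    constructor
    · rintro ⟨k, hk, rfl⟩
      obtain ⟨hk, -, -⟩ := (hmem k).1 hk
      obtain ⟨a, ha, e | e⟩ := AutE'.form h (A_mem hk (AutE'.x_mem h))
      · exact absurd ⟨k, e⟩ (no h H ha)
      · exact ⟨a, ⟨ha, (yes h H ha).1 ⟨k, e⟩⟩, e.symm⟩
    · rintro ⟨a, ⟨ha, hs⟩, rfl⟩
      obtain ⟨k, hk, k1, k2, k3⟩ := hc a ha hs
      exact ⟨k, (hmem k).2 ⟨hk, k1, k2⟩, k3⟩
  have h3 : {d : G | ∃ a, (InV a ∧ Perm.sign a = 1) ∧ x * ι a = d}.ncard = 4 := by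
    have : {d : G | ∃ a, (InV a ∧ Perm.sign a = 1) ∧ x * ι a = d} =
        (fun a => x * ι a) '' ((Finset.univ.filter fun a => InV a ∧ Perm.sign a = 1 : Finset (Perm (Fin 6))) : Set _) := by
      ext d
      simp only [Set.mem_image, _root_.Set.mem_ofPred_eq, _root_.Finset.coe_filter, _root_.Finset.mem_univ, _root_.true_and]
    rw [this, Set.ncard_image_of_injective _ (fun a b e => h.xι_inj e), Set.ncard_coe_finset, card_ev]
  have h4 : Nat.card (((NE x ι ⊓ centralizer {ι pz} ⊓ centralizer {F}) ⊓ centralizer {x} : Subgroup G)) = 32 := by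
    rw [card_pair h (fun a => a * pf = pf * a ∧ a * pz = pz * a), card_cfz]
    intro g
    rw [mem_inf, hmem, mem_centralizer_singleton_iff, ← A_eq_iff]
    constructor
    · rintro ⟨⟨g1, g2, -⟩, g3⟩
      obtain ⟨a, ha, e⟩ := stab h g1 g3
      refine ⟨a, ⟨ha, ?_⟩, e⟩
      rcases e with rfl | rfl
      · exact h.comm_ι.1 (A_eq_iff.1 g2)
      · rw [A_mul, A_ι] at g2
        have := A_inv_eq g2
        rw [show A x⁻¹ (ι pz) = ι pz from A_inv_eq (A_x_ι h pz)] at this
        exact mul_inv_eq_iff_eq_mul.1 (h.inj this).symm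
    · rintro ⟨a, ⟨ha, hz⟩, e⟩
      have k1 : A (ι a) x = x := A_ι_x h a
      have k2 : A (ι a) (ι pz) = ι pz := by rw [A_ι, hz, mul_inv_cancel_right]
      have k3 : A (ι a) (ι pf) = ι pf := by rw [A_ι, ha, mul_inv_cancel_right]
      have k4 : A (ι a) F = F := by
        rcases hF with rfl | rfl
        · exact k3
        · rw [map_mul, k1, k3]
      rcases e with rfl | rfl
      · exact ⟨⟨ι_NE h ha, k2, k4⟩, k1⟩
      · have x1 : A x x = x := A_eq_iff.2 rfl
        have x4 : A x F = F := by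
          rcases hF with rfl | rfl
          · exact A_x_ι h _
          · rw [map_mul, x1, A_x_ι h]
        exact ⟨⟨mul_mem (x_NE h) (ι_NE h ha), by rw [A_mul, k2, A_x_ι h], by rw [A_mul, k4, x4]⟩, by
          rw [A_mul, k1, x1]⟩
  rw [h2, h3, h4] at h1
  exact h1

/-! ### `|x^G ∩ C(x)|` -/

theorem card_C [Finite G] : Nat.card (centralizer ({x} : Set G)) = 2880 := by
  have n1 : ∀ a b, ι a * r ≠ x * ι b := by
    intro a b e
    apply h.ne_xr b a
    rw [e, ← mul_assoc, h.xx, one_mul]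
  have n2 : ∀ a b, ι a * r ≠ x * (ι b * r) := by
    intro a b e
    rw [← mul_assoc] at e
    exact h.ne_x a b (mul_right_cancel e)
  have n3 : ∀ a b, x * ι a ≠ x * (ι b * r) := fun a b e => h.ne_r a b (mul_left_cancel e)
  have e : (Bool × Bool) × Perm (Fin 6) ≃ centralizer ({x} : Set G) := Equiv.ofBijective
    (fun p => ⟨(if p.1.1 then x else 1) * (ι p.2 * if p.1.2 then r else 1), by
      rw [mem_centralizer_singleton_iff]
      apply h.mem_cent
      refine ⟨p.2, ?_⟩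
      split_ifs
      · exact Or.inr (Or.inr (Or.inr rfl))
      · rw [mul_one]; exact Or.inr (Or.inl rfl)
      · rw [one_mul]; exact Or.inr (Or.inr (Or.inl rfl))
      · rw [mul_one, one_mul]; exact Or.inl rfl⟩) (by
    constructor
    · rintro ⟨⟨b, b'⟩, p⟩ ⟨⟨c, c'⟩, q⟩ e
      have h1 : (if b then x else 1) * (ι p * if b' then r else 1) = (if c then x else 1) * (ι q * if c' then r else 1) :=
        congrArg Subtype.val e
      have hfin : b = c → b' = c' → p = q → (((b, b'), p) : (Bool × Bool) × Perm (Fin 6)) = ((c, c'), q) := by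
        rintro rfl rfl rfl; rfl
      cases b <;> cases c <;> cases b' <;> cases c' <;>
        simp only [Bool.false_eq_true, if_false, one_mul, mul_one, if_true] at h1
      · exact hfin rfl rfl (h.inj h1)
      · exact absurd h1 (h.ne_r _ _)
      · exact absurd h1.symm (h.ne_r _ _)
      · exact hfin rfl rfl (h.inj (mul_right_cancel h1))
      · exact absurd h1 (h.ne_x _ _)
      · exact absurd h1 (h.ne_xr _ _)
      · exact absurd h1 (n1 _ _)
      · exact absurd h1 (n2 _ _)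
      · exact absurd h1.symm (h.ne_x _ _)
      · exact absurd h1.symm (n1 _ _)
      · exact absurd h1.symm (h.ne_xr _ _)
      · exact absurd h1.symm (n2 _ _)
      · exact hfin rfl rfl (h.xι_inj h1)
      · exact absurd h1 (n3 _ _)
      · exact absurd h1.symm (n3 _ _)
      · exact hfin rfl rfl (h.inj (mul_right_cancel (mul_left_cancel h1)))
    · rintro ⟨g, hg⟩
      obtain ⟨a, hp | hp | hp | hp⟩ := h.cent g (mem_centralizer_singleton_iff.1 hg)
      · exact ⟨((false, false), a), Subtype.ext (by simp [hp])⟩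
      · exact ⟨((true, false), a), Subtype.ext (by simp [hp])⟩
      · exact ⟨((false, true), a), Subtype.ext (by simp [hp])⟩
      · exact ⟨((true, true), a), Subtype.ext (by simp [hp])⟩)
  rw [← Nat.card_congr e, Nat.card_prod, Nat.card_prod, Nat.card_eq_fintype_card (α := Perm (Fin 6)),
    Fintype.card_perm, Fintype.card_fin]
  simp
  rfl

theorem D_sq {d : G} (hD : D x d) : d * d = 1 := by
  obtain ⟨g, rfl⟩ := hD
  rw [← map_mul, h.xx, map_one]

theorem no_all [Finite G] (H : Four x ι) (a : Perm (Fin 6)) : ¬ D x (ι a) := by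
  intro hD
  have h1 : a * a = 1 := h.one_iff.1 (by rw [map_mul]; exact D_sq h hD)
  have key : ∀ b, b * b = 1 → InV b → Cfsg.Agent.OddHalf.D6.Six.sup a = Cfsg.Agent.OddHalf.D6.Six.sup b → False := by
    intro b hb hV hs
    obtain ⟨s, hs⟩ := isConj_iff.1 (Cfsg.Agent.OddHalf.D6.Six.conj_of_sup h1 hb hs)
    apply no h H hV
    rw [← hs, ← A_ι, D_A]
    exact hD
  rcases Cfsg.Agent.OddHalf.D6.Six.sup_cases h1 with e | e | e | e
  · exact key 1 (one_mul 1) V_one (e.trans rfl)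
  · exact key pf (by decide +kernel) V_pf (e.trans Cfsg.Agent.OddHalf.D6.Six.sup_c1.symm)
  · exact key pz (by decide +kernel) V_z (e.trans Cfsg.Agent.OddHalf.D6.Six.sup_c2.symm)
  · exact key (pz * pf) (by decide +kernel) (V_mul V_z V_pf) (e.trans Cfsg.Agent.OddHalf.D6.Six.sup_c3.symm)

theorem inn_count [Finite G] (H : Four x ι) : {a | D x (x * ι a)}.ncard = 46 := by
  rw [Cfsg.Agent.OddHalf.D6.Six.ncard_class (fun a => D x (x * ι a)), if_pos, if_neg, if_pos, if_neg]
  · show ¬ D x (x * ι (pz * pf))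
    rw [yes h H (V_mul V_z V_pf)]
    decide +kernel
  · exact H.even
  · exact H.nxf
  · rw [map_one, mul_one]; exact D_self x
  · intro p hD
    apply h.one_iff.1
    have h1 := D_sq h hD
    rw [map_mul]
    calc ι p * ι p = (x * x) * (ι p * ι p) := by rw [h.xx, one_mul]
      _ = x * (x * ι p) * ι p := by group
      _ = x * (ι p * x) * ι p := by rw [h.comm]
      _ = x * ι p * (x * ι p) := by group
      _ = 1 := h1
  · intro p q hpq hD
    obtain ⟨s, rfl⟩ := isConj_iff.1 hpq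
    have : A (ι s) (x * ι p) = x * ι (s * p * s⁻¹) := by rw [map_mul, A_ι_x h, A_ι]
    rw [← this, D_A]
    exact hD

theorem out_mem {a : Perm (Fin 6)} (hD : D x (ι a * r)) : a * θ a = 1 := h.sq_one (D_sq h hD)

theorem out_iff {a : Perm (Fin 6)} (ha : a * θ a = 1) : D x (ι a * r) ↔ D x r := by
  obtain ⟨s, hs, rfl⟩ := outer_conj_even a ha
  have : A (ι s) r = ι (s * (θ s)⁻¹) * r := by
    rw [A_def, map_mul, mul_assoc, mul_assoc]
    congr 1
    have h1 := h.cv s⁻¹ (by rw [Perm.sign_inv]; exact hs)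
    rw [mul_inv_eq_iff_eq_mul] at h1
    rw [← map_inv ι s, h1, map_inv]
  rw [← this, D_A]

theorem out_count [Finite G] : {a | D x (ι a * r)}.ncard = 0 ∨ {a | D x (ι a * r)}.ncard = 36 := by
  by_cases hr : D x r
  · right
    have : {a | D x (ι a * r)} = ((Finset.univ.filter fun a : Perm (Fin 6) => a * θ a = 1 : Finset _) : Set _) := by
      ext a
      simp only [Set.mem_ofPred_eq, Finset.coe_filter, Finset.mem_univ, true_and]
      exact ⟨out_mem h, fun e => (out_iff h e).2 hr⟩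
    rw [this, Set.ncard_coe_finset, outer_card]
  · left
    have : {a | D x (ι a * r)} = ∅ := by
      ext a
      simp only [Set.mem_ofPred_eq, Set.mem_empty_iff_false, iff_false]
      intro hD
      exact hr ((out_iff h (out_mem h hD)).1 hD)
    rw [this, Set.ncard_empty]

theorem out_count' [Finite G] :
    {a | D x (x * (ι a * r))}.ncard = 0 ∨ {a | D x (x * (ι a * r))}.ncard = 36 := by
  have : ∀ a, x * (ι a * r) = ι a * (x * r) := by
    intro a
    rw [← mul_assoc, h.comm, mul_assoc]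
  simp only [this]
  exact out_count h.xr

theorem count [Finite G] (H : Four x ι) : ∃ e, {d : G | IsConj x d ∧ d * x = x * d}.ncard = 46 + 36 * e := by
  have h1 : {d : G | IsConj x d ∧ d * x = x * d} = ((fun a => x * ι a) '' {a | D x (x * ι a)} ∪
      (fun a => ι a * r) '' {a | D x (ι a * r)}) ∪ (fun a => x * (ι a * r)) '' {a | D x (x * (ι a * r))} := by
    ext d
    simp only [Set.mem_ofPred_eq, Set.mem_union, Set.mem_image]
    have hDd : IsConj x d ↔ D x d := isConj_iff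
    rw [hDd]
    constructor
    · rintro ⟨hD, hd⟩
      obtain ⟨a, rfl | rfl | rfl | rfl⟩ := h.cent d hd
      · exact absurd hD (no_all h H a)
      · exact Or.inl (Or.inl ⟨a, hD, rfl⟩)
      · exact Or.inl (Or.inr ⟨a, hD, rfl⟩)
      · exact Or.inr ⟨a, hD, rfl⟩
    · rintro ((⟨a, hD, rfl⟩ | ⟨a, hD, rfl⟩) | ⟨a, hD, rfl⟩)
      · exact ⟨hD, h.mem_cent _ ⟨a, Or.inr (Or.inl rfl)⟩⟩
      · exact ⟨hD, h.mem_cent _ ⟨a, Or.inr (Or.inr (Or.inl rfl))⟩⟩
      · exact ⟨hD, h.mem_cent _ ⟨a, Or.inr (Or.inr (Or.inr rfl))⟩⟩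
  rw [h1, Set.ncard_union_eq, Set.ncard_union_eq, Set.ncard_image_of_injective, Set.ncard_image_of_injective,
    Set.ncard_image_of_injective, inn_count h H]
  · rcases out_count h with e | e <;> rcases out_count' h with e' | e' <;> rw [e, e']
    · exact ⟨0, rfl⟩
    · exact ⟨1, rfl⟩
    · exact ⟨1, rfl⟩
    · exact ⟨2, rfl⟩
  · exact fun a b e => h.inj (mul_right_cancel (mul_left_cancel e))
  · exact fun a b e => h.inj (mul_right_cancel e)
  · exact fun a b e => h.xι_inj e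
  · rw [Set.disjoint_left]
    rintro _ ⟨a, -, rfl⟩ ⟨b, -, e⟩
    apply h.ne_xr a b
    have e : ι b * r = x * ι a := e
    rw [e, ← mul_assoc, h.xx, one_mul]
  · rw [Set.disjoint_left]
    rintro _ (⟨a, -, rfl⟩ | ⟨a, -, rfl⟩) ⟨b, -, e⟩
    · exact h.ne_r a b (mul_left_cancel e).symm
    · have e : x * (ι b * r) = ι a * r := e
      rw [← mul_assoc] at e
      exact h.ne_x a b (mul_right_cancel e).symm

/-- **`x^G ∩ E₁ = x V₁` is impossible** -/
theorem false_of [Finite G] (H : Four x ι) (hG : ∀ (m : G →* ℤˣ) (g : G), m g = 1)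
    (hZ : ∀ S : Sylow 2 G, Nat.card (center S) ≤ 2) : False := by
  obtain ⟨F, hF, hc⟩ := exF h H
  have hcard := card_H h H hF hc
  obtain ⟨k, hk⟩ := Cfsg.Agent.OddHalf.D6.Six.Parity.four_dvd hG h.xx
  obtain ⟨e, he⟩ := count h H
  have hcG := Cfsg.Agent.OddHalf.D6.Six.Parity.card_conj x
  rw [hk, he, card_C h] at hcG
  have hzz : (NE x ι ⊓ centralizer {ι pz} ⊓ centralizer {F} : Subgroup G) ≤ centralizer {ι pz} :=
    inf_le_left.trans inf_le_right
  have hFF : (NE x ι ⊓ centralizer {ι pz} ⊓ centralizer {F} : Subgroup G) ≤ centralizer {F} := inf_le_right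
  have hzF : ι pz * F = F * ι pz := by
    rcases hF with rfl | rfl
    · exact zf h
    · rw [← mul_assoc, h.comm', mul_assoc, zf h, mul_assoc]
  have hzH : ι pz ∈ (NE x ι ⊓ centralizer {ι pz} ⊓ centralizer {F} : Subgroup G) := by
    refine ⟨⟨ι_NE h (V_f _ V_z), mem_centralizer_singleton_iff.2 rfl⟩, mem_centralizer_singleton_iff.2 hzF⟩
  have hFH : F ∈ (NE x ι ⊓ centralizer {ι pz} ⊓ centralizer {F} : Subgroup G) := by
    refine ⟨⟨?_, mem_centralizer_singleton_iff.2 hzF.symm⟩, mem_centralizer_singleton_iff.2 rfl⟩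
    rcases hF with rfl | rfl
    · exact ι_NE h rfl
    · exact mul_mem (x_NE h) (ι_NE h rfl)
  generalize (NE x ι ⊓ centralizer {ι pz} ⊓ centralizer {F} : Subgroup G) = K at *
  obtain ⟨Q, hQ⟩ := (IsPGroup.of_card (p := 2) (n := 7) hcard).exists_le_sylow
  have hQK : K = Q := by
    apply Subgroup.eq_of_le_of_card_ge hQ
    obtain ⟨n, hn⟩ := IsPGroup.iff_card.1 Q.isPGroup'
    have h1 : 2 ^ n ∣ Nat.card G := by rw [← hn]; exact Subgroup.card_subgroup_dvd_card _
    have h2 : Nat.card G = 128 * (45 * (23 + 18 * e + 2 * k)) := by rw [hcG]; ring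
    rw [h2] at h1
    have h3 : Nat.Coprime (2 ^ n) (45 * (23 + 18 * e + 2 * k)) := by
      apply Nat.Coprime.pow_left
      rw [Nat.coprime_two_left, Nat.odd_iff]
      omega
    have h4 := Nat.le_of_dvd (by norm_num) (h3.dvd_of_dvd_mul_right h1)
    rw [hcard]
    show Nat.card (Q : Subgroup G) ≤ 128
    rw [hn]; exact h4
  have h1 := hZ Q
  have hzQ : ι pz ∈ (Q : Subgroup G) := by rw [← hQK]; exact hzH
  have hFQ : F ∈ (Q : Subgroup G) := by rw [← hQK]; exact hFH
  have c1 : (⟨ι pz, hzQ⟩ : (Q : Subgroup G)) ∈ center (Q : Subgroup G) := by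
    rw [mem_center_iff]
    rintro ⟨g, hg⟩
    rw [← hQK] at hg
    exact Subtype.ext (mem_centralizer_singleton_iff.1 (hzz hg))
  have c2 : (⟨F, hFQ⟩ : (Q : Subgroup G)) ∈ center (Q : Subgroup G) := by
    rw [mem_center_iff]
    rintro ⟨g, hg⟩
    rw [← hQK] at hg
    exact Subtype.ext (mem_centralizer_singleton_iff.1 (hFF hg))
  have n1 : ι pz ≠ 1 := by
    rw [Ne, h.one_iff]; decide +kernel
  have n2 : F ≠ 1 := by
    rcases hF with rfl | rfl
    · rw [Ne, h.one_iff]; decide +kernel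
    · intro e
      exact ne_mul h pf 1 (e.trans (map_one _).symm)
  have n3 : ι pz ≠ F := by
    rcases hF with rfl | rfl
    · intro e
      have := h.inj e
      revert this; decide +kernel
    · exact h.ne_x _ _
  classical
  have : Fintype (center (Q : Subgroup G)) := Fintype.ofFinite _
  let s : Finset (center (Q : Subgroup G)) := {1, ⟨_, c1⟩, ⟨_, c2⟩}
  have hs : s.card = 3 := by
    rw [Finset.card_eq_three]
    refine ⟨1, ⟨_, c1⟩, ⟨_, c2⟩, ?_, ?_, ?_, rfl⟩
    · intro e; exact n1 (congrArg (fun t : center (Q : Subgroup G) => ((t : (Q : Subgroup G)) : G)) e).symm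
    · intro e; exact n2 (congrArg (fun t : center (Q : Subgroup G) => ((t : (Q : Subgroup G)) : G)) e).symm
    · intro e; exact n3 (congrArg (fun t : center (Q : Subgroup G) => ((t : (Q : Subgroup G)) : G)) e)
  have h5 := Finset.card_le_univ s
  rw [hs, ← Nat.card_eq_fintype_card] at h5
  have h6 : Nat.card (center (Q : Subgroup G)) ≤ 2 := h1
  omega

end

end Cfsg.Agent.OddHalf.D5.SixAut.TwFour

end

-- merged: Cfsg.Agent.OddHalf.D5.SixAut.TwKill
section

/-!
# ODD D5, `n = 6`, (C3b): **the non-abelian variant is impossible** (helper310)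

`AutTw x ι f r`: `f² = 1`, `r f r⁻¹ = x f z`. Exactly one of `f`, `x f` in `x^G`: the product of the eight elements of
`x^G ∩ E₁` is `x`, fixed by `N(E₁)`.
-/

set_option autoImplicit false
set_option linter.unusedSectionVars false

namespace Cfsg.Agent.OddHalf.D5.SixAut.TwKill

open Subgroup Equiv
open EPerm EPerm2 EOne TwE TwOne TwFus
open FusE (A A_def A_mul A_inv A_inv' A_inj A_inv_eq A_eq_inv A_eq_iff A_conj A_ι A_ι_inv NE A_mem mem_NE)
open FusN (D D_A D_of_A D_self even_conj odd_conj VInv)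

variable {G : Type*} [Group G] {x r : G} {ι : Perm (Fin 6) →* G}

theorem prod_list (h : AutE x ι r) (e : Perm (Fin 6) → ℕ) (l : List (Perm (Fin 6))) :
    (l.map fun a => x ^ e a * ι a).prod = x ^ (l.map e).sum * ι l.prod := by
  induction l with
  | nil => simp
  | cons a l ih =>
    have hc : ι a * x ^ (l.map e).sum = x ^ (l.map e).sum * ι a :=
      ((show Commute (ι a) x from h.comm' a).pow_right _).eq
    rw [List.map_cons, List.prod_cons, ih, List.map_cons, List.sum_cons, List.prod_cons, pow_add, map_mul]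
    calc x ^ e a * ι a * (x ^ (l.map e).sum * ι l.prod) = x ^ e a * (ι a * x ^ (l.map e).sum) * ι l.prod := by group
      _ = x ^ e a * x ^ (l.map e).sum * (ι a * ι l.prod) := by rw [hc]; group

theorem prod_vL : vL.prod = 1 := by decide +kernel

/-- the product argument -/
theorem prod_kill [Finite G] (h : AutE x ι r) (hs : D x (x * ι pz)) (e : Perm (Fin 6) → ℕ)
    (he : ∀ a, InV a → (e a = 0 ∨ e a = 1))
    (hy : ∀ a, InV a → ∀ g, (g = ι a ∨ g = x * ι a) → (D x g ↔ g = x ^ e a * ι a))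
    (hodd : x ^ (vL.map e).sum = x) : False := by
  have val : ∀ a, InV a → (x ^ e a * ι a = ι a ∨ x ^ e a * ι a = x * ι a) := by
    intro a ha
    rcases he a ha with e' | e' <;> rw [e']
    · left; rw [pow_zero, one_mul]
    · right; rw [pow_one]
  have memL : ∀ g, g ∈ (vL.map fun a => x ^ e a * ι a) ↔ g ∈ E1 x ι ∧ D x g := by
    intro g
    rw [List.mem_map]
    constructor
    · rintro ⟨a, ha, rfl⟩
      have ha := mem_vL.1 ha
      refine ⟨?_, (hy a ha _ (val a ha)).2 rfl⟩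
      rcases val a ha with e' | e' <;> rw [e']
      · exact AutE'.mem h ha
      · exact AutE'.mem' h ha
    · rintro ⟨hg, hD⟩
      obtain ⟨a, ha, e'⟩ := AutE'.form h hg
      exact ⟨a, mem_vL.2 ha, ((hy a ha g e').1 hD).symm⟩
  have nod : (vL.map fun a => x ^ e a * ι a).Nodup := by
    apply List.Nodup.map_on _ vL_nodup
    intro a ha b hb hab
    rcases val a (mem_vL.1 ha) with e1 | e1 <;> rcases val b (mem_vL.1 hb) with e2 | e2 <;> rw [e1, e2] at hab
    · exact h.inj hab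
    · exact absurd hab (h.ne_x _ _)
    · exact absurd hab.symm (h.ne_x _ _)
    · exact h.xι_inj hab
  obtain ⟨n, hn, hnx⟩ := fus' h (AutE'.mem' h V_z) hs
  have perm : ((vL.map fun a => x ^ e a * ι a).map (A n)).Perm (vL.map fun a => x ^ e a * ι a) := by
    rw [List.perm_ext_iff_of_nodup (nod.map (fun a b => A_inj n)) nod]
    intro g
    rw [memL, List.mem_map]
    constructor
    · rintro ⟨k, hk, rfl⟩
      obtain ⟨h1, h2⟩ := (memL k).1 hk
      exact ⟨A_mem hn h1, (D_A n).2 h2⟩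
    · rintro ⟨h1, h2⟩
      refine ⟨A n⁻¹ g, (memL _).2 ⟨A_mem (inv_mem hn) h1, (D_A n⁻¹).2 h2⟩, A_inv' n g⟩
  have hc : ((vL.map fun a => x ^ e a * ι a).map (A n)).Pairwise Commute := by
    rw [List.pairwise_map]
    apply List.Pairwise.imp_of_mem _ nod
    intro a b ha hb _
    exact AutE'.comm h (A_mem hn ((memL a).1 ha).1) (A_mem hn ((memL b).1 hb).1)
  have h1 := perm.prod_eq' hc
  rw [← map_list_prod, prod_list h, prod_vL, map_one, mul_one, hodd, hnx] at h1
  have h2 : ι pz = 1 := mul_eq_left.1 h1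
  rw [h.one_iff] at h2
  revert h2; decide +kernel

theorem sum1 : (vL.map fun a => if a = pf then 0 else 1).sum = 7 := by decide +kernel
theorem sum2 : (vL.map fun a => if Perm.sign a = 1 ∨ a = pf then 1 else 0).sum = 5 := by decide +kernel

/-- one of `f`, `x f` in `x^G`, with `r f r⁻¹ = x f z` -/
theorem one_of [Finite G] (h : AutE x ι r) (hr : r * ι pf * r⁻¹ = x * ι (pf * pz)) (hs : D x (x * ι pz))
    (nxz : ∀ g, A g x ≠ ι pz) (hne : ¬ (D x (ι pf) ↔ D x (x * ι pf))) : False := by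
  have hx : A r x = x := A_eq_iff.2 h.rx
  have hodd : ∀ a, InV a → Perm.sign a ≠ 1 → a ≠ pf →
      (D x (ι a) ↔ D x (x * ι pf)) ∧ (D x (x * ι a) ↔ D x (ι pf)) := by
    intro a ha hs h1
    obtain ⟨s, -, hs⟩ := odd_conj a ha hs h1
    have k1 : A (ι s * r) x = x := by rw [A_mul, hx, A_ι_x h]
    have k2 : A (ι s * r) (ι pf) = x * ι a := by rw [A_mul, A_def r, hr, map_mul, A_ι_x h, A_ι, hs]
    have k3 : A (ι s * r) (x * ι pf) = ι a := by rw [map_mul, k1, k2, ← mul_assoc, h.xx, one_mul]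
    exact ⟨D_of_A k3, D_of_A k2⟩
  have x2 : ∀ k : G, x * (x * k) = k := fun k => by rw [← mul_assoc, h.xx, one_mul]
  have sq2 : x ^ 2 = 1 := by rw [pow_two, h.xx]
  have p7 : x ^ 7 = x := by
    rw [show 7 = 2 * 3 + 1 from rfl, pow_succ, pow_mul, sq2, one_pow, one_mul]
  have p5 : x ^ 5 = x := by
    rw [show 5 = 2 * 2 + 1 from rfl, pow_succ, pow_mul, sq2, one_pow, one_mul]
  have ne1 : ∀ a b, ι a ≠ x * ι b := h.ne_x
  by_cases h1 : D x (ι pf)
  · have h2 : ¬ D x (x * ι pf) := fun h2 => hne ⟨fun _ => h2, fun _ => h1⟩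
    apply prod_kill h hs (fun a => if a = pf then 0 else 1) (fun a _ => by split_ifs <;> simp)
    · intro a ha g hg
      by_cases ha1 : a = pf
      · subst ha1
        rw [if_pos rfl, pow_zero, one_mul]
        rcases hg with rfl | rfl
        · exact ⟨fun _ => rfl, fun _ => h1⟩
        · exact ⟨fun hD => absurd hD h2, fun e => absurd e.symm (ne1 _ _)⟩
      · rw [if_neg ha1, pow_one]
        have k1 : ¬ D x (ι a) := by
          by_cases hsg : Perm.sign a = 1
          · exact not_D_even h nxz ha hsg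
          · rw [(hodd a ha hsg ha1).1]; exact h2
        have k2 : D x (x * ι a) := by
          by_cases hsg : Perm.sign a = 1
          · exact D_even h hs ha hsg
          · rw [(hodd a ha hsg ha1).2]; exact h1
        rcases hg with rfl | rfl
        · exact ⟨fun hD => absurd hD k1, fun e => absurd e (ne1 _ _)⟩
        · exact ⟨fun _ => rfl, fun _ => k2⟩
    · rw [sum1]; exact p7
  · have h2 : D x (x * ι pf) := by
      by_contra h2
      exact hne ⟨fun e => absurd e h1, fun e => absurd e h2⟩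
    apply prod_kill h hs (fun a => if Perm.sign a = 1 ∨ a = pf then 1 else 0)
      (fun a _ => by split_ifs <;> simp)
    · intro a ha g hg
      by_cases ha1 : Perm.sign a = 1 ∨ a = pf
      · rw [if_pos ha1, pow_one]
        have k1 : ¬ D x (ι a) := by
          rcases ha1 with hsg | rfl
          · exact not_D_even h nxz ha hsg
          · exact h1
        have k2 : D x (x * ι a) := by
          rcases ha1 with hsg | rfl
          · exact D_even h hs ha hsg
          · exact h2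
        rcases hg with rfl | rfl
        · exact ⟨fun hD => absurd hD k1, fun e => absurd e (ne1 _ _)⟩
        · exact ⟨fun _ => rfl, fun _ => k2⟩
      · rw [if_neg ha1, pow_zero, one_mul]
        push Not at ha1
        obtain ⟨k1, k2⟩ := hodd a ha ha1.1 ha1.2
        rcases hg with rfl | rfl
        · exact ⟨fun _ => rfl, fun _ => k1.2 h2⟩
        · exact ⟨fun hD => absurd (k2.1 hD) h1, fun e => absurd e.symm (ne1 _ _)⟩
    · rw [sum2]; exact p5

/-- **the non-abelian variant is impossible** -/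
theorem false_of [Finite G] {f : G} {ι : A6 →* G} (h : AutTw x ι f r) (hG : ∀ (m : G →* ℤˣ) (g : G), m g = 1)
    (hs : ∃ s, s * x * s⁻¹ = x * ι qz) (nxz : ∀ g, g * x * g⁻¹ ≠ ι qz)
    (hZ : ∀ S : Sylow 2 G, Nat.card (center S) ≤ 2) : False := by
  have E := of_tw h
  have hr := of_tw_f h
  rw [← map_mul] at hr
  have hz : h.ext h.ff1 pz = ι qz := h.ext_even h.ff1 qz
  have hs' : D x (x * h.ext h.ff1 pz) := by rw [hz]; exact hs
  have nxz' : ∀ g, A g x ≠ h.ext h.ff1 pz := by rw [hz]; exact nxz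
  by_cases hne : D x (h.ext h.ff1 pf) ↔ D x (x * h.ext h.ff1 pf)
  · by_cases h1 : D x (h.ext h.ff1 pf)
    · exact twelve E hs' nxz' h1 (hne.1 h1)
    · exact TwFour.false_of E ⟨hs', nxz', h1, fun e => h1 (hne.2 e)⟩ hG hZ
  · exact one_of E hr hs' nxz' hne

end Cfsg.Agent.OddHalf.D5.SixAut.TwKill

end

-- merged: Cfsg.Agent.OddHalf.D5.SixAut.FinalOf
section

/-!
# ODD D5, `n = 6`, `C_G(x)/⟨x⟩ = Aut(A_6)`: the hypotheses of the symplectic case (helper383)
-/

set_option autoImplicit false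

namespace Cfsg.Agent.OddHalf.D5.SixAut.C3b

open Subgroup Equiv Cfsg

universe u

variable {G : Type u} [Group G] {x f r : G} {ι : A6 →* G}

/-- `SymT` and `SymHyp` hold -/
theorem hyps (C : Iface.Ctx G) (h : AutGen x ι f r)
    (hfit : IsPGroup 2 ↥(generalizedFittingSubgroup ↥(centralizer ({ι qz} : Set G)))) :
    SymT x (ι qz) ∧ SymHyp (ι qz) := by
  have := C.fin
  have := C.simple
  have hna : ¬ ∀ a b : G, a * b = b * a := fun e => C.na ⟨⟨e⟩⟩
  have hc := comm_top hna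
  have htw : AutTw x ι f r → False := fun hT => TwKill.false_of hT (fun m g => hom_one hc m g) (h.exists_s C.sect5)
    (h.nxz C.sect5) (h.card_center_le C.sect5)
  exact ⟨h.symT, hfit, fun A hA hel => key hna h C.sect5 C.bal htw A hA hel⟩

/-- the row `AutRow` from the symplectic case -/
theorem autRow_of (hS : ∀ (G : Type u) [Group G], Iface.Ctx G → ∀ x z : G, SymT x z → SymHyp z → False) :
    AutRow.{u} := by
  intro G _ x ι f r h
  have := h.ctx.fin
  obtain ⟨h1, h2⟩ := hyps h.ctx h.toAutGen (h.toAutGen.fit h.ctx.sect5 h.world)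
  exact hS G h.ctx x (ι qz) h1 h2

end Cfsg.Agent.OddHalf.D5.SixAut.C3b

end
end
end

-- part: OddHalf/D7Tw/Inst
section
prune_inst 0x400102004492210000018001260003c02d2000002004b000150c0010204ce3c4020022e2148600b101018281020028040111004c0023800002000800040200609040a00428108a10020000000e802000000000000000000000000000000041000000400000
set_option linter.all false
open scoped Cfsg.Agent.FastGrp

-- merged: Cfsg.Agent.OddHalf.D7Tw.ExAbs
section

/-!
# The doubled root group at one long root, any type, `q > 2` (helper622; model: helper657's `D7Ex.SetupOf`)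

* `nP_of_perf` : `n` normalises `P`: perfect subgroups of `C(t)` lie in `K`, `C_K(Z) ≤ T P`;
* `nQ_of_core` : `n` normalises `Q`;
* `KY` : the facts on `t`, `Z`, `P`, `T`; `KY.out_big` : the doubled root group from `Cent`;
* `KY.exists_out` : the doubled root group from `Loc`.
-/

set_option autoImplicit false
set_option linter.style.haveILetI false
set_option linter.unusedSectionVars false
set_option linter.unusedVariables false

namespace Cfsg.Agent.OddHalf.D7Tw

open Subgroup Cfsg.Agent.OddHalf.D7Ex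
open scoped commutatorElement

variable {G : Type*} [Group G]

/-- `T` abelian normalising `P`: `[T P, T P] ≤ P`. -/
theorem commutator_sup_le {T P : Subgroup G} (Tab : ∀ h ∈ T, ∀ k ∈ T, h * k = k * h)
    (TP : ∀ h ∈ T, ∀ p ∈ P, h * p * h⁻¹ ∈ P) : ⁅T ⊔ P, T ⊔ P⁆ ≤ P := by
  have hT : T ≤ normalizer (P : Set G) := by
    intro τ hτ
    rw [mem_normalizer_iff]
    intro p
    refine ⟨fun hp => TP τ hτ p hp, fun hp => ?_⟩
    have h1 := TP τ⁻¹ (inv_mem hτ) _ hp
    have e : τ⁻¹ * (τ * p * τ⁻¹) * τ⁻¹⁻¹ = p := by group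
    rwa [e] at h1
  rw [commutator_le]
  intro a ha b hb
  rw [← SetLike.mem_coe, coe_mul_of_left_le_normalizer_right _ _ hT] at ha hb
  obtain ⟨τ, hτ, p, hp, rfl⟩ := ha
  obtain ⟨σ, hσ, r, hr, rfl⟩ := hb
  have h1 := TP τ hτ p hp
  have h2 := TP (τ * σ) (mul_mem hτ hσ) (r * p⁻¹) (mul_mem hr (inv_mem hp))
  have h3 := TP σ hσ r⁻¹ (inv_mem hr)
  have hc := Tab τ hτ σ hσ
  have e : ⁅τ * p, σ * r⁆ = (τ * p * τ⁻¹) * (τ * σ * (r * p⁻¹) * (τ * σ)⁻¹) * (σ * r⁻¹ * σ⁻¹) := by
    rw [commutatorElement_def]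
    calc τ * p * (σ * r) * (τ * p)⁻¹ * (σ * r)⁻¹
        = (τ * p * τ⁻¹) * ((τ * σ) * (r * p⁻¹) * τ⁻¹ * (r⁻¹ * σ⁻¹)) := by group
      _ = (τ * p * τ⁻¹) * ((τ * σ) * (r * p⁻¹) * (σ * τ)⁻¹ * (σ * r⁻¹ * σ⁻¹)) := by group
      _ = _ := by rw [← hc]; group
  rw [e]
  exact mul_mem (mul_mem h1 h2) h3

/-- **`n` normalises `P`**: `P` perfect, perfect subgroups of `C(t)` lie in `K` and `C_K(Z) ≤ T P`. -/
theorem nP_of_perf {t : G} {Z P T K : Subgroup G} (tt : t * t = 1) [Finite G]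
    (hK : ∀ D : Subgroup G, (∀ x ∈ D, x * t = t * x) → ⁅D, D⁆ = D → D ≤ K)
    (hCK : ∀ c ∈ K, (∀ x ∈ Z, c * x = x * c) → c ∈ T ⊔ P)
    (Tab : ∀ h ∈ T, ∀ k ∈ T, h * k = k * h) (TP : ∀ h ∈ T, ∀ p ∈ P, h * p * h⁻¹ ∈ P)
    (hPC : P ≤ CC t Z) (hP : ⁅P, P⁆ = P) (n : G) (hX : ∀ x ∈ Z, n * x * n⁻¹ ∈ Z)
    (ht : t * (n * t * n⁻¹) ∈ Z) : ∀ p ∈ P, n * p * n⁻¹ ∈ P := by
  intro p hp
  let R : Subgroup G := P.map (MulAut.conj n).toMonoidHom
  have hR : R ≤ CC t Z := by
    rintro _ ⟨p, hp, rfl⟩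
    exact conj_CC tt hX ht (hPC hp)
  have hRp : ⁅R, R⁆ = R := by
    rw [← map_commutator, hP]
  have hRK : R ≤ K := hK R (fun x hx => (mem_CC.1 (hR hx)).1) hRp
  have hRT : R ≤ T ⊔ P := fun x hx => hCK x (hRK hx) (mem_CC.1 (hR hx)).2
  have hRP : R ≤ P := by
    rw [← hRp]
    exact (commutator_mono hRT hRT).trans (commutator_sup_le Tab TP)
  exact hRP ⟨p, hp, rfl⟩

/-- **`n` normalises `Q`**: `Q` is the largest normal `2`-subgroup of `P`. -/
theorem nQ_of_core {t : G} {Z Q P : Subgroup G} (tt : t * t = 1) [Finite G] (hQ2 : IsPGroup 2 Q) (QP : Q ≤ P)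
    (PQ : ∀ p ∈ P, ∀ q ∈ Q, p * q * p⁻¹ ∈ Q)
    (o2 : ∀ R : Subgroup G, R ≤ P → IsPGroup 2 R → (∀ p ∈ P, ∀ x ∈ R, p * x * p⁻¹ ∈ R) → R ≤ Q)
    (nP0 : ∀ n : G, (∀ x ∈ Z, n * x * n⁻¹ ∈ Z) → t * (n * t * n⁻¹) ∈ Z → ∀ p ∈ P, n * p * n⁻¹ ∈ P)
    (n : G) (hX : ∀ x ∈ Z, n * x * n⁻¹ ∈ Z) (ht : t * (n * t * n⁻¹) ∈ Z) : ∀ q ∈ Q, n * q * n⁻¹ ∈ Q := by
  obtain ⟨hX', ht'⟩ := inv_normX tt hX ht
  let R : Subgroup G := Q.map (MulAut.conj n).toMonoidHom
  have hR : R ≤ Q := by
    apply o2 R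
    · rintro _ ⟨q, hq, rfl⟩
      exact nP0 n hX ht _ (QP hq)
    · exact hQ2.map _
    · rintro p hp _ ⟨q, hq, rfl⟩
      have h1 := nP0 n⁻¹ hX' ht' p hp
      refine ⟨_, PQ _ h1 q hq, ?_⟩
      show n * (n⁻¹ * p * n⁻¹⁻¹ * q * (n⁻¹ * p * n⁻¹⁻¹)⁻¹) * n⁻¹ = p * (n * q * n⁻¹) * p⁻¹
      group
  exact fun q hq => hR ⟨q, hq, rfl⟩

/-! ### The facts -/

/-- The facts on `t`, `Z`, `P` and the torus `T`. -/
structure KY (t : G) (Z P T : Subgroup G) : Prop where
  tt : t * t = 1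
  tZ : t ∉ Z
  Z2 : ∀ x ∈ Z, x * x = 1
  ZP : Z ≤ P
  tP : ∀ p ∈ P, t * p = p * t
  cen : ∀ x ∈ Z, ∀ p ∈ P, x * p = p * x
  tT : ∀ h ∈ T, t * h = h * t
  TZ : ∀ h ∈ T, ∀ x ∈ Z, h * x * h⁻¹ ∈ Z
  TP : ∀ h ∈ T, ∀ p ∈ P, h * p * h⁻¹ ∈ P
  Tab : ∀ h ∈ T, ∀ k ∈ T, h * k = k * h
  cP : ∀ c, t * c = c * t → (∀ p ∈ P, c * p = p * c) → c ∈ Z ∨ t * c ∈ Z

namespace KY

variable {t : G} {Z P T : Subgroup G}

theorem PC (K : KY t Z P T) : P ≤ CC t Z := fun p hp => by
  rw [mem_CC]
  exact ⟨(K.tP p hp).symm, fun x hx => (K.cen x hx p hp).symm⟩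

/-- The hypotheses of `Cent`. -/
theorem cent (K : KY t Z P T) (hex : ∀ x ∈ Z, ∃ b : G, (∀ p ∈ P, b * p = p * b) ∧ b * t * b⁻¹ = t * x) :
    Cent t Z P where
  tt := K.tt
  tX := K.tZ
  X2 := K.Z2
  XP := K.ZP
  tP := K.tP
  Xc := K.cen
  cP := K.cP
  ex := hex

theorem nice (K : KY t Z P T) {h k : G} (hh : h ∈ T) (hk : k ∈ T) : Nice t Z P h k where
  kt := (K.tT k hk).symm
  kX := by
    intro x
    refine ⟨K.TZ k hk x, fun hx => ?_⟩
    have := K.TZ k⁻¹ (inv_mem hk) _ hx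
    have e : k⁻¹ * (k * x * k⁻¹) * k⁻¹⁻¹ = x := by group
    rwa [e] at this
  kP := by
    intro p
    refine ⟨K.TP k hk p, fun hp => ?_⟩
    have := K.TP k⁻¹ (inv_mem hk) _ hp
    have e : k⁻¹ * (k * p * k⁻¹) * k⁻¹⁻¹ = p := by group
    rwa [e] at this
  kh := by
    have e : k * h * k⁻¹ * h⁻¹ = 1 := by rw [K.Tab k hk h hh]; group
    rw [e]; exact one_mem _

/-- `h` is fixed point free on `Z`. -/
theorem fpf (K : KY t Z P T) (Htr : ∀ x ∈ Z, ∀ y ∈ Z, x ≠ 1 → y ≠ 1 → ∃ h ∈ T, h * x * h⁻¹ = y)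
    {h : G} (hh : h ∈ T) (hne : ∃ x ∈ Z, h * x * h⁻¹ ≠ x) : ∀ x ∈ Z, h * x * h⁻¹ = x → x = 1 := by
  obtain ⟨x0, hx0, hne⟩ := hne
  have hx01 : x0 ≠ 1 := by
    rintro rfl
    apply hne; group
  intro x hx e
  by_contra hx1
  apply hne
  obtain ⟨k, hk, ek⟩ := Htr x hx x0 hx0 hx1 hx01
  have hc := K.Tab h hh k hk
  calc h * x0 * h⁻¹ = (h * k) * x * (h * k)⁻¹ := by rw [← ek]; group
    _ = k * (h * x * h⁻¹) * k⁻¹ := by rw [hc]; group
    _ = x0 := by rw [e, ek]

/-- **The doubled root group from `Cent`, `q > 2`.** -/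
theorem out_big (K : KY t Z P T) [Finite G] (C : Cent t Z P)
    (Htr : ∀ x ∈ Z, ∀ y ∈ Z, x ≠ 1 → y ≠ 1 → ∃ h ∈ T, h * x * h⁻¹ = y)
    {h : G} (hh : h ∈ T) {m : ℕ} (hm : Odd m) (hm1 : h ^ m = 1) (hne : ∃ x ∈ Z, h * x * h⁻¹ ≠ x) :
    ∃ W, KR.Out t Z P T W := by
  have hf := K.fpf Htr hh hne
  have hN := K.nice hh hh
  refine ⟨C.Wbig hN m, C.isDbl_big hN hm1 hm hf, fun w hw => ?_, ?_⟩
  · obtain ⟨h1, -⟩ := (C.mem_Wbig hN m).1 hw
    exact C.sq_mem h1
  · intro k hk
    have hle : T ⊔ P ≤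
        { carrier := {k | (∀ w ∈ C.Wbig hN m, k * w * k⁻¹ ∈ C.Wbig hN m) ∧
            ∀ w ∈ C.Wbig hN m, k⁻¹ * w * k ∈ C.Wbig hN m}
          one_mem' := ⟨fun w hw => by simpa using hw, fun w hw => by simpa using hw⟩
          mul_mem' := by
            rintro a b ⟨ha, ha'⟩ ⟨hb, hb'⟩
            refine ⟨fun w hw => ?_, fun w hw => ?_⟩
            · have := ha _ (hb w hw)
              have e : a * b * w * (a * b)⁻¹ = a * (b * w * b⁻¹) * a⁻¹ := by group
              rwa [e]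
            · have := hb' _ (ha' w hw)
              have e : (a * b)⁻¹ * w * (a * b) = b⁻¹ * (a⁻¹ * w * a) * b := by group
              rwa [e]
          inv_mem' := by
            rintro a ⟨ha, ha'⟩
            exact ⟨fun w hw => by simpa using ha' w hw, fun w hw => by simpa using ha w hw⟩ : Subgroup G } := by
      refine sup_le (fun k hk => ⟨fun w hw => C.nice_big hN m (K.nice hh hk) hw, fun w hw => ?_⟩)
        fun k hk => ⟨fun w hw => ?_, fun w hw => ?_⟩
      · have := C.nice_big hN m (K.nice hh (inv_mem hk)) hw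
        rwa [inv_inv] at this
      · rw [← (C.isDbl_big hN hm1 hm hf).WP w hw k hk, mul_inv_cancel_right]
        exact hw
      · rw [mul_assoc, (C.isDbl_big hN hm1 hm hf).WP w hw k hk, inv_mul_cancel_left]
        exact hw
    exact (hle hk).1

/-- **The doubled root group at one root, `q > 2`.** -/
theorem exists_out {ι : Type*} [Finite ι] [Finite G] {X : ι → Subgroup G} {op : ι → ι} {g : Set ι}
    (K : KY t Z P T) (L : Loc X Z P op g) (hP : ⁅P, P⁆ = P)
    (nP0 : ∀ n : G, (∀ x ∈ Z, n * x * n⁻¹ ∈ Z) → t * (n * t * n⁻¹) ∈ Z → ∀ p ∈ P, n * p * n⁻¹ ∈ P)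
    (hQ2 : IsPGroup 2 (QS X Z Set.univ))
    (o2 : ∀ R : Subgroup G, R ≤ P → IsPGroup 2 R → (∀ p ∈ P, ∀ x ∈ R, p * x * p⁻¹ ∈ R) → R ≤ QS X Z Set.univ)
    (Htr : ∀ x ∈ Z, ∀ y ∈ Z, x ≠ 1 → y ≠ 1 → ∃ h ∈ T, h * x * h⁻¹ = y)
    {h : G} (hh : h ∈ T) (hPQ : ∀ p ∈ P, h * p * h⁻¹ * p⁻¹ ∈ QS X Z Set.univ) {m : ℕ} (hm : Odd m)
    (hm1 : h ^ m = 1) (hne : ∃ x ∈ Z, h * x * h⁻¹ ≠ x)
    {n : G} (hX : ∀ x ∈ Z, n * x * n⁻¹ ∈ Z) (ht : t * (n * t * n⁻¹) ∈ Z) (hnt : n * t * n⁻¹ ≠ t) :
    ∃ W, KR.Out t Z P T W := by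
  have S : Setup t Z (QS X Z Set.univ) P T := L.setup K.tt K.tZ K.tP K.tT K.TZ hP fun n hX ht =>
    ⟨nP0 n hX ht, nQ_of_core K.tt hQ2 (L.QS_le_P _) (fun p hp q hq => L.PQ hp hq) o2 nP0 n hX ht⟩
  have hn : n ∈ S.N := by
    refine ⟨hX, fun x hx => ?_, ht⟩
    have := (inv_normX K.tt hX ht).1 x hx
    rwa [inv_inv] at this
  refine K.out_big (K.cent fun x hx => S.exists_cent_of_big ?_ Htr ⟨h, hh, hPQ, hne⟩ hn hnt hx) Htr hh hm hm1 hne
  exact fun n h2 hQ hX hP q hq => L.lin h2 hQ hX hP hq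

end KY

end Cfsg.Agent.OddHalf.D7Tw

end

-- merged: Cfsg.Agent.OddHalf.D7Tw.ExRho
section

/-!
# `²E₆(q)`, `q > 2`: the doubled long root groups (helper622)

`KX R t K`: the facts on `K = GG` (root group datum in `G`), `t` and `K`.

* `KX.ky` : `D7Tw.KY` at `ρ`; `KX.exists_out` : the doubled root group at `ρ` from one element `n`;
* `KX.exists_yo` : `∃ V, YO R t rho V`; `KX.three` : `|X r| > 2`;
* `KX.swap_Z` : the element `n` of the front normalises `X ρ`; `KX.exists_yo_of_swap`.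
-/

set_option autoImplicit false
set_option linter.unusedSectionVars false

namespace Cfsg.Agent.OddHalf.D7Tw.ExRho

open CoxeterSystem Cfsg.Agent.ChevalleyStructure.CoxeterGeom Cfsg.Agent.Tits.Roots Cfsg.Agent.Tits.Core
  Cfsg.Agent.Tits.RootComb Cfsg.Agent.Tits.Exchange Cfsg.Agent.Nodes.Reps Cfsg.Agent.Nodes.BNOf
  Cfsg.Agent.Nodes.Coroot Cfsg.Agent.Nodes.StabComb
  Cfsg.Agent.Nodes.LeviDec Cfsg.Agent.Nodes.Bruhat Cfsg.Agent.Nodes.OppDec
  Cfsg.Agent.KFacts.RgdPar Cfsg.Agent.KFacts.RgdCent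
  Cfsg.Agent.KFacts.RgdSL Cfsg.Agent.KFacts.RgdTI Cfsg.Agent.KFacts.RgdOdd Cfsg.Agent.KFacts.RgdEx
  Cfsg.Agent.Nodes.RGDTwE6 Cfsg.Agent.KFacts.TwESix.Comb Cfsg.Agent.KFacts.TwESix.CombRho
  Cfsg.Agent.KFacts.TwESix.Facts Cfsg.Agent.KFacts.TwESix.QRho Cfsg.Agent.KFacts.TwESix.Faith
  Cfsg.Agent.OddHalf.SL.Defs Cfsg.Agent.OddHalf.D7Ex
  Cfsg.Agent.OddHalf.D7Tw Cfsg.Agent.OddHalf.D7Tw.Orbit Cfsg.Agent.OddHalf.D7Tw.DFour
  Cfsg.Agent.OddHalf.D7Tw.Long
open scoped commutatorElement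

variable {W G : Type*} [Group W] [Group G] {cs : CoxeterSystem CoxeterMatrix.F₄ W} {T : Subgroup G} {n : Fin 4 → G}
  {X : (Fin 4 → ℤ) → Subgroup G}

/-- The facts on `K = GG`, `t` and `G`. -/
structure KX (R : RGD cs isCartan 2 T n X) (t : G) (K : Subgroup G) : Prop where
  dat : Dat R
  gg : GG cs isCartan T X = K
  Tab : ∀ a ∈ T, ∀ b ∈ T, a * b = b * a
  tt : t * t = 1
  tK : t ∉ K
  Kt : ∀ x ∈ K, t * x = x * t
  /-- perfect subgroups of `C(t)` lie in `K` -/
  perf : ∀ E : Subgroup G, (∀ x ∈ E, x * t = t * x) → ⁅E, E⁆ = E → E ≤ K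
  /-- `C(t) ∩ C(P) = ⟨t⟩ × X ρ` -/
  cP : ∀ c, t * c = c * t → (∀ p ∈ PP cs X, c * p = p * c) → c ∈ X rho ∨ t * c ∈ X rho
  /-- `q > 2` -/
  hrho : ∃ k ∈ T ⊓ (X rho ⊔ X (-rho)), ∃ x ∈ X rho, k * x * k⁻¹ ≠ x

theorem TP (R : RGD cs isCartan 2 T n X) : ∀ k ∈ T, ∀ p ∈ PP cs X, k * p * k⁻¹ ∈ PP cs X := by
  intro k hk p hp
  have hTn : T ≤ Subgroup.normalizer (PP cs X : Set G) := R.T_le_normalizer fun x hx => hx.1
  exact (Subgroup.mem_normalizer_iff.1 (hTn hk) p).1 hp

namespace KX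

variable {R : RGD cs isCartan 2 T n X} {t : G} {K : Subgroup G} (E : KX R t K)

include E

theorem TK : T ≤ K := by
  rw [← E.gg]
  exact le_trans (T_le_PS (X := X) (Ω := {b | IsRoot cs isCartan b})) (PS_le_GG fun x hx => hx)

theorem XK {a : Fin 4 → ℤ} (ha : IsRoot cs isCartan a) : X a ≤ K := by
  rw [← E.gg]
  exact le_trans (X_le_PS (T := T) (Ω := {b | IsRoot cs isCartan b}) ha) (PS_le_GG fun x hx => hx)

theorem PK : PP cs X ≤ K := PP_le fun _ hb _ => E.XK hb

theorem NK {w : W} {k : G} (hk : Rp cs R.nsys w k) : k ∈ K := by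
  rw [← E.gg]
  have : Finite W := finiteW cs
  exact NN_le_GG R ⟨_, hk⟩

theorem tX {a : Fin 4 → ℤ} (ha : IsRoot cs isCartan a) {x : G} (hx : x ∈ X a) : t * x = x * t := E.Kt x (E.XK ha hx)

/-- **`KY` at `ρ`.** -/
theorem ky : KY t (X rho) (PP cs X) T where
  tt := E.tt
  tZ := fun h => E.tK (E.XK (rho_root cs) h)
  Z2 := fun x hx => sq R (rho_root cs) hx
  ZP := le_PP (rho_root cs) (by decide)
  tP := fun p hp => E.Kt p (E.PK hp)
  cen := fun x hx p hp => cen_PP E.dat hx hp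
  tT := fun h hh => E.Kt h (E.TK hh)
  TZ := fun h hh x hx => tor_mem R (rho_root cs) hh hx
  TP := TP R
  Tab := E.Tab
  cP := E.cP

/-- an element centralising `X ρ` lies in `T P` -/
theorem mem_TP {c : G} (hc : c ∈ K) (hcX : ∀ x ∈ X rho, c * x = x * c) : c ∈ T ⊔ PP cs X := by
  obtain ⟨z, hz, hz1⟩ := exists_ne_one R (rho_root cs)
  obtain ⟨τ, hτ, -, p, hp, rfl⟩ := cent_z E.dat (by rw [E.gg]; exact hc) hz hz1 (hcX z hz)
  exact mul_mem (Subgroup.mem_sup_left hτ) (Subgroup.mem_sup_right hp)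

/-- an element normalising `X ρ` lies in `T P` -/
theorem mem_TP_of_norm {w : W} {k : G} (hk : Rp cs R.nsys w k) (hw : rep cs isCartan w rho = rho) :
    k ∈ T ⊔ PP cs X := by
  have : Finite W := finiteW cs
  have L := E.dat.lr rho (rho_root cs) rho_long
  have h1 := (L.mem_normalizer_iff hk).2 hw
  have h2 : k ∈ PS T X (Ge cs isCartan rho) := by
    rw [← L.normalizer]
    exact ⟨h1, by rw [E.gg]; exact E.NK hk⟩
  exact h2

/-- **The doubled root group at `ρ`.** -/
theorem exists_out [Finite G] {m : G} (hX : ∀ x ∈ X rho, m * x * m⁻¹ ∈ X rho) (ht : t * (m * t * m⁻¹) ∈ X rho)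
    (hnt : m * t * m⁻¹ ≠ t) : ∃ V₀, KR.Out t (X rho) (PP cs X) T V₀ := by
  have hPC : PP cs X ≤ CC t (X rho) := E.ky.PC
  obtain ⟨k, hk, x, hx, hne⟩ := E.hrho
  have hkT := (Subgroup.mem_inf.1 hk).1
  have hodd : Odd (Nat.card T) := by
    rw [← Nat.coprime_two_right]; exact R.tcop
  have hg1 : k ^ Nat.card T = 1 := congrArg Subtype.val (pow_card_eq_one' (G := T) (x := ⟨k, hkT⟩))
  have hQS : QS (fun b : Ix => X b.1) (X rho) Set.univ = QQ cs X := QS_eq (cs := cs)
  -- `k` centralises the root groups orthogonal to `ρ`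
  have h0 : ∀ b, IsRoot cs isCartan b → b 0 = 0 → ∀ y ∈ X b, k * y = y * k := by
    intro b hb hb0 y hy
    have h1 : X rho ⊔ X (-rho) ≤ Subgroup.centralizer {y} := by
      refine sup_le (fun u hu => ?_) (fun u hu => ?_)
      · rw [Subgroup.mem_centralizer_singleton_iff]
        exact (comm_long E.dat hb (rho_root cs) rho_long (by rw [bf_rho, hb0]; norm_num) hy hu).symm
      · rw [Subgroup.mem_centralizer_singleton_iff]
        exact (comm_long E.dat hb (rho_root cs).neg (by rw [bf_neg_left, bf_neg_right, rho_long]; norm_num)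
          (by rw [bf_neg_right, bf_rho, hb0]; norm_num) hy hu).symm
    exact Subgroup.mem_centralizer_singleton_iff.1 (h1 (Subgroup.mem_inf.1 hk).2)
  have hPQ : ∀ p ∈ PP cs X, k * p * k⁻¹ * p⁻¹ ∈ QQ cs X := by
    have hN : ∀ p ∈ PP cs X, ∀ q ∈ QQ cs X, p * q * p⁻¹ ∈ QQ cs X := fun p hp q hq =>
      (Subgroup.mem_normalizer_iff.1 (PP_normalizer R hp) q).1 hq
    let S : Subgroup G :=
      { carrier := {p | p ∈ PP cs X ∧ k * p * k⁻¹ * p⁻¹ ∈ QQ cs X}
        one_mem' := ⟨one_mem _, by rw [mul_one, mul_inv_cancel, inv_one, mul_one]; exact one_mem _⟩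
        mul_mem' := by
          rintro a b ⟨ha, ha'⟩ ⟨hb, hb'⟩
          refine ⟨mul_mem ha hb, ?_⟩
          have e : k * (a * b) * k⁻¹ * (a * b)⁻¹ = (k * a * k⁻¹ * a⁻¹) * (a * (k * b * k⁻¹ * b⁻¹) * a⁻¹) := by group
          rw [e]
          exact mul_mem ha' (hN a ha _ hb')
        inv_mem' := by
          rintro a ⟨ha, ha'⟩
          refine ⟨inv_mem ha, ?_⟩
          have e2 : k * a⁻¹ * k⁻¹ * a⁻¹⁻¹ = a⁻¹ * (k * a * k⁻¹ * a⁻¹)⁻¹ * a⁻¹⁻¹ := by group
          rw [e2]
          exact hN a⁻¹ (inv_mem ha) _ (inv_mem ha') }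
    have hle : PP cs X ≤ S := by
      refine PP_le fun b hb hb0 y hy => ⟨le_PP hb hb0 hy, ?_⟩
      by_cases h1 : b 0 = 0
      · rw [h0 b hb h1 y hy]
        have : y * k * k⁻¹ * y⁻¹ = 1 := by group
        rw [this]; exact one_mem _
      · exact mul_mem (le_QQ hb (by omega) (tor_mem R hb hkT hy)) (inv_mem (le_QQ hb (by omega) hy))
    exact fun p hp => (hle hp).2
  refine E.ky.exists_out (loc E.dat) (perfect E.dat) (nP_of_perf E.tt E.perf (fun c hc hcX => E.mem_TP hc hcX) E.Tab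
    (TP R) hPC (perfect E.dat)) ?_ ?_ (fun x hx y hy hx1 hy1 => exists_tor R (rho_root cs) hx hx1 hy hy1) hkT ?_
    hodd hg1 ⟨x, hx, hne⟩ hX ht hnt
  · rw [hQS]; exact isPGroup_QQ R
  · intro S hS h2 hn
    rw [hQS]; exact core R hS h2 hn
  · rw [hQS]; exact hPQ

/-- **The doubled long root groups.** -/
theorem exists_yo [Finite G] {m : G} (hX : ∀ x ∈ X rho, m * x * m⁻¹ ∈ X rho) (ht : t * (m * t * m⁻¹) ∈ X rho)
    (hnt : m * t * m⁻¹ ≠ t) : ∃ V, YO R t rho V := by
  have : Finite W := finiteW cs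
  obtain ⟨V₀, O⟩ := E.exists_out hX ht hnt
  have B : BaseO R t rho V₀ := by
    refine ⟨rho_root cs, O.dbl.XW, O.sq, O.dbl.brk, O.dbl.cent, O.dbl.surj, ?_, fun w k hk hwr v hv => ?_,
      fun w k hk => E.Kt k (E.NK hk)⟩
    · intro a ha h0 w hw x hx
      rw [cpr_rho] at h0
      exact O.dbl.WP w hw x (le_PP ha h0 hx)
    · exact O.nrm k (E.mem_TP_of_norm hk hwr) v hv
  exact ⟨_, B.yO⟩

/-- `|X r| > 2` -/
theorem three : ∀ r ∈ Phi, ∀ x ∈ XL X r, ∃ y ∈ XL X r, y ≠ 1 ∧ y ≠ x := by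
  intro r hr x _
  have : Finite W := finiteW cs
  obtain ⟨k, hk, x0, hx0, hne⟩ := E.hrho
  have hkT := (Subgroup.mem_inf.1 hk).1
  obtain ⟨w, hw⟩ := c_mem_O (cs := cs) hr
  obtain ⟨l, hl⟩ := exists_rp cs R.nsys w
  have hconj : ∀ y ∈ X rho, l * y * l⁻¹ ∈ XL X r := by
    intro y hy
    have := R.conj_mem hl (rho_root cs) hy
    rwa [hw] at this
  have hx01 : x0 ≠ 1 := by
    rintro rfl
    apply hne; group
  have hy01 : k * x0 * k⁻¹ ≠ 1 := by
    intro h
    apply hx01
    have e : x0 = k⁻¹ * (k * x0 * k⁻¹) * k := by group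
    rw [e, h]; group
  have hinj : ∀ {a b : G}, l * a * l⁻¹ = l * b * l⁻¹ → a = b := fun h => mul_left_cancel (mul_right_cancel h)
  by_cases h : l * x0 * l⁻¹ = x
  · refine ⟨_, hconj _ (tor_mem R (rho_root cs) hkT hx0), fun h1 => hy01 ?_, fun h1 => hne ?_⟩
    · refine hinj (h1.trans ?_); group
    · exact hinj (h1.trans h.symm)
  · refine ⟨_, hconj _ hx0, fun h1 => hx01 ?_, h⟩
    refine hinj (h1.trans ?_); group

/-- The element `m` of the front normalises `X ρ`. -/
theorem swap_Z [Finite G] {S : Subgroup G} {m z : G} (F : D7Out.FrontN.Swap t (X rho) S m z) :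
    ∀ x ∈ X rho, m * x * m⁻¹ ∈ X rho := by
  have hz := F.zZ
  have h1 : ∀ p, m * p * m⁻¹ ∈ PP cs X ↔ p ∈ PP cs X :=
    F.conj_P (perfect E.dat) (fun p hp => (E.Kt p (E.PK hp)).symm) (fun p hp => (cen_PP E.dat hz hp).symm)
      fun L hL hLt hLz => perfect_le E.dat E.Tab hz F.z1 hL (by rw [E.gg]; exact E.perf L hLt hL) hLz
  refine D7Out.FrontN.Swap.conj_Z h1 (le_PP (rho_root cs) (by decide))
    (fun x hx p hp => (cen_PP E.dat hx hp).symm) fun g hg hgP => ?_
  rcases E.cP g (E.Kt g (E.PK hg)) (fun p hp => (hgP p hp).symm) with h | h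
  · exact h
  · exfalso
    apply E.tK
    have e : t = (t * g) * g⁻¹ := by group
    rw [e]
    exact mul_mem (E.XK (rho_root cs) h) (inv_mem (E.PK hg))

/-- **The doubled long root groups**, from the element of the front. -/
theorem exists_yo_of_swap [Finite G] {S : Subgroup G} {m z : G} (F : D7Out.FrontN.Swap t (X rho) S m z) :
    ∃ V, YO R t rho V := by
  refine E.exists_yo (E.swap_Z F) ?_ ?_
  · rw [F.nt, ← mul_assoc, E.tt, one_mul]; exact F.zZ
  · rw [F.nt]
    intro h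
    exact F.z1 (mul_left_cancel (h.trans (mul_one t).symm))

end KX

end Cfsg.Agent.OddHalf.D7Tw.ExRho

end

-- merged: Cfsg.Agent.OddHalf.D7Tw.Inst
section

/-!
# `K ≅ ²E₆(q)` in `G`, `q > 2` even: the root group datum in `G` and the doubled long root groups (helper622)

* `rgdG R e` : the root group datum of `K` in `G`, `XG e X x = (X x).map (emb e)`; `sup_map`, `PP_map`, `QQ_map`,
  `gg_map`, `noCent_map`;
* `kx` : `ExRho.KX` in `G`;
* **`exists_all`** : in `Ctx G`, `Std G K`, `Cyc K`, `K ≅ ²E₆(q)`: `t`, the output of the front, `KX`, `NoCent` and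
  `∃ V, Orbit.YO (rgdG _ e) t rho V`.
-/

set_option autoImplicit false
set_option linter.unusedSectionVars false

namespace Cfsg.Agent.OddHalf.D7Tw.Inst

open CoxeterSystem Cfsg.Agent.ChevalleyStructure.CoxeterGeom Cfsg.Agent.Tits.Roots Cfsg.Agent.Tits.Core
  Cfsg.Agent.Tits.RootComb Cfsg.Agent.Tits.Exchange Cfsg.Agent.Nodes.Reps Cfsg.Agent.Nodes.BNOf
  Cfsg.Agent.Nodes.Coroot Cfsg.Agent.Nodes.StabComb
  Cfsg.Agent.Nodes.LeviDec Cfsg.Agent.Nodes.Bruhat Cfsg.Agent.Nodes.OppDec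
  Cfsg.Agent.KFacts.RgdPar Cfsg.Agent.KFacts.RgdCent
  Cfsg.Agent.KFacts.RgdSL Cfsg.Agent.KFacts.RgdTI Cfsg.Agent.KFacts.RgdOdd Cfsg.Agent.KFacts.RgdEx
  Cfsg.Agent.Nodes.RGDTwE6 Cfsg.Agent.KFacts.TwESix.Comb Cfsg.Agent.KFacts.TwESix.CombRho
  Cfsg.Agent.KFacts.TwESix.Facts Cfsg.Agent.KFacts.TwESix.QRho Cfsg.Agent.KFacts.TwESix.Faith
  Cfsg.Agent.OddHalf.SL.Defs
  Cfsg.Agent.OddHalf.D7Tw Cfsg.Agent.OddHalf.D7Tw.Orbit Cfsg.Agent.OddHalf.D7Tw.ExRho
  Cfsg.Agent.OddHalf.D7Tw.Front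
open scoped commutatorElement

section Over

open Cfsg.Agent.OddHalf.D7Out

variable {G : Type*} [Group G] {K : Subgroup G} {t : G}
variable {W Y : Type*} [Group W] [Group Y] {cs : CoxeterSystem CoxeterMatrix.F₄ W} {T₀ : Subgroup Y} {n : Fin 4 → Y}
  {X : (Fin 4 → ℤ) → Subgroup Y}

/-- the root groups in `G` -/
abbrev XG (e : Y ≃* ↥K) (X : (Fin 4 → ℤ) → Subgroup Y) : (Fin 4 → ℤ) → Subgroup G := fun x => (X x).map (emb e)

/-- the root group datum in `G` -/
theorem rgdG (R : RGD cs isCartan 2 T₀ n X) (e : Y ≃* ↥K) :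
    RGD cs isCartan 2 (T₀.map (emb e)) (fun i => emb e (n i)) (XG e X) :=
  Cfsg.Agent.Nodes.RGDLib.rgd_map_of_injective R (emb e) (emb_injective e)

theorem sup_map (e : Y ≃* ↥K) (S : Set (Fin 4 → ℤ)) : RGD.Sup (XG e X) S = (RGD.Sup X S).map (emb e) := by
  unfold RGD.Sup
  rw [Subgroup.map_iSup]

theorem PP_map (e : Y ≃* ↥K) : PP cs (XG e X) = (PP cs X).map (emb e) := sup_map e _

theorem map_top (e : Y ≃* ↥K) : (⊤ : Subgroup Y).map (emb e) = K := by
  ext x
  constructor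
  · rintro ⟨y, -, rfl⟩
    exact emb_mem e y
  · intro hx
    obtain ⟨y, rfl⟩ := exists_emb e hx
    exact ⟨y, Subgroup.mem_top y, rfl⟩

theorem sup_eq (e : Y ≃* ↥K) (hG1 : RGD.Sup X {x | IsRoot cs isCartan x} = ⊤) :
    RGD.Sup (XG e X) {x | IsRoot cs isCartan x} = K := by
  rw [sup_map, hG1, map_top]

theorem gg_eq (e : Y ≃* ↥K) (hG1 : RGD.Sup X {x | IsRoot cs isCartan x} = ⊤) :
    GG cs isCartan (T₀.map (emb e)) (XG e X) = K := by
  unfold GG
  rw [sup_eq e hG1]
  refine sup_eq_right.2 ?_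
  rintro _ ⟨y, -, rfl⟩
  exact emb_mem e y

theorem noCent_map (e : Y ≃* ↥K) (h : NoCent cs isCartan T₀ X) :
    NoCent cs isCartan (T₀.map (emb e)) (XG e X) := by
  rintro _ ⟨s, hs, rfl⟩ hc
  rw [h s hs, map_one]
  intro b hb v hv
  apply emb_injective e
  rw [map_mul, map_mul]
  exact hc b hb _ ⟨v, hv, rfl⟩

/-- conjugation by `c ∈ N(K)`, on `Y` -/
def aut (e : Y ≃* ↥K) {c : G} (hc : c ∈ Subgroup.normalizer (K : Set G)) : MulAut Y :=
  MulAut.congr e.symm (Subgroup.normalizerMonoidHom K ⟨c, hc⟩)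

theorem emb_aut (e : Y ≃* ↥K) {c : G} (hc : c ∈ Subgroup.normalizer (K : Set G)) (y : Y) :
    emb e (aut e hc y) = c * emb e y * c⁻¹ := by
  show ((e (e.symm (Subgroup.normalizerMonoidHom K ⟨c, hc⟩ (e y))) : ↥K) : G) = _
  rw [e.apply_symm_apply]
  rfl

/-- `C(t) ∩ C(Q_r) = ⟨t⟩ X r`, and so on: an element inducing an inner automorphism of `K` -/
theorem eq_or_of_aut (e : Y ≃* ↥K) {c : G} (hc : c ∈ Subgroup.normalizer (K : Set G)) (hct : c * t = t * c)
    (hKt : ∀ k ∈ K, t * k = k * t)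
    (hcK : ∀ x : G, x * t = t * x → (∀ k ∈ K, x * k = k * x) → x = 1 ∨ x = t) {z : Y}
    (hz : aut e hc = MulAut.conj z) : c = emb e z ∨ c = t * emb e z := by
  refine Cfsg.Agent.KFacts.TwESix.Cent.eq_or_of_conj hc hct hKt hcK (z := e z) ?_
  ext k
  obtain ⟨y, rfl⟩ := e.surjective k
  have h1 := emb_aut e hc y
  rw [hz, MulAut.conj_apply, map_mul, map_mul, map_inv] at h1
  show c * (e y : G) * c⁻¹ = (e z : G) * (e y : G) * (e z : G)⁻¹
  exact h1.symm

theorem centK (S : Cfsg.Agent.OddHalf.Front.FE.Start K t t) :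
    ∀ x : G, x * t = t * x → (∀ k ∈ K, x * k = k * x) → x = 1 ∨ x = t := by
  intro x hx h
  obtain ⟨i, rfl⟩ := Subgroup.mem_zpowers_iff.1 (S.cK x hx fun k hk => (h k hk).symm)
  have h2 : t ^ (2 : ℤ) = 1 := by
    rw [zpow_ofNat, pow_two]; exact S.tt
  rcases Int.even_or_odd' i with ⟨j, hj | hj⟩
  · left
    rw [hj, zpow_mul, h2, one_zpow]
  · right
    rw [hj, zpow_add, zpow_mul, h2, one_zpow, one_mul, zpow_one]

/-- **`KX` in `G`.** -/
theorem kx [Finite G] {R : RGD cs isCartan 2 T₀ n X} (D : Dat R) (e : Y ≃* ↥K)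
    (S : Cfsg.Agent.OddHalf.Front.FE.Start K t t)
    (hs : Cfsg.Agent.Schreier.Basic.Sch ↥K) (hG1 : RGD.Sup X {x | IsRoot cs isCartan x} = ⊤)
    (hab : ∀ s ∈ T₀, ∀ s' ∈ T₀, s * s' = s' * s) (hNC : NoCent cs isCartan T₀ X)
    (hrho : ∃ k ∈ T₀ ⊓ (X rho ⊔ X (-rho)), ∃ x ∈ X rho, k * x * k⁻¹ ≠ x) : KX (rgdG R e) t K where
  dat := Cfsg.Agent.KFacts.TwESix.Tor.map D (emb e) (emb_injective e)
  gg := gg_eq e hG1
  Tab := by
    rintro _ ⟨a, ha, rfl⟩ _ ⟨b, hb, rfl⟩
    rw [← map_mul, ← map_mul, hab a ha b hb]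
  tt := S.tt
  tK := fun h => S.t1 (S.cen t h fun y hy => S.Kt y hy)
  Kt := fun x hx => (S.Kt x hx).symm
  perf := fun L hLt hL => FrGen.perf_le S.toStart0 hs hLt hL
  cP := by
    intro c hct hcP
    have hc : c ∈ Subgroup.normalizer (K : Set G) := S.nK c hct.symm
    obtain ⟨z, hz, h1⟩ := Cfsg.Agent.KFacts.TwESix.Cent.aut_k1 D (rho_root cs) rho_long hNC hG1 (α := aut e hc) (by
      intro a ha ha0 v hv
      rw [cpr_rho] at ha0
      apply emb_injective e
      rw [emb_aut]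
      have h2 : emb e v ∈ PP cs (XG e X) := le_PP (X := XG e X) ha ha0.le ⟨v, hv, rfl⟩
      rw [hcP _ h2, mul_inv_cancel_right])
    rcases eq_or_of_aut e hc hct.symm (fun k hk => (S.Kt k hk).symm) (centK S) h1 with h2 | h2
    · left
      rw [h2]
      exact ⟨z, hz, rfl⟩
    · right
      rw [h2, ← mul_assoc, S.tt, one_mul]
      exact ⟨z, hz, rfl⟩
  hrho := by
    obtain ⟨k, hk, x, hx, hne⟩ := hrho
    refine ⟨emb e k, Subgroup.mem_inf.2 ⟨⟨k, (Subgroup.mem_inf.1 hk).1, rfl⟩, ?_⟩, emb e x, ⟨x, hx, rfl⟩, fun h => hne ?_⟩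
    · rw [← Subgroup.map_sup]
      exact ⟨k, (Subgroup.mem_inf.1 hk).2, rfl⟩
    · apply emb_injective e
      rw [map_mul, map_mul, map_inv]
      exact h

end Over

/-! ### The instance `²E₆(q)` -/

section Inst

open Cfsg.Lie Cfsg.Agent.OddHalf.D7Out Cfsg.Agent.OddHalf.Iface

universe u

variable {F : Type u} [Field F] [Fintype F] {q : ℕ} {φ : F →+* F}

/-- the output for `K ≅ ²E₆(q)` -/
structure All {G : Type*} [Group G] {K : Subgroup G} {W : Type*} [Group W] (cs : CoxeterSystem CoxeterMatrix.F₄ W)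
    (hφ : ∀ x, φ x = x ^ q) (hqq : ∀ t : F, (t ^ q) ^ q = t) (e : ↥(twistedE6 F q) ≃* ↥K) [CharP F 2] (t : G)
    (T : Subgroup G) (m z : G) (V : (Fin 4 → ℤ) → Subgroup G) : Prop where
  start : Cfsg.Agent.OddHalf.Front.FE.Start K t t
  out : Front.Out t K (PP cs (XG e (X φ q))) (RGD.Sup (XG e (X φ q)) (RGD.Pos cs isCartan)) (XG e (X φ q) rho) T m z
  kx : KX (rgdG (rgd cs hφ hqq 2) e) t K
  nc : NoCent cs isCartan ((Cfsg.Agent.Nodes.RGDTwE6.T F q).map (emb e)) (XG e (X φ q))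
  sup : RGD.Sup (XG e (X φ q)) {x | IsRoot cs isCartan x} = K
  yo : YO (rgdG (rgd cs hφ hqq 2) e) t rho V

/-- **The doubled long root groups for `K ≅ ²E₆(q)`, `q > 2` even.** -/
theorem exists_all {G : Type*} [Group G] (C : Ctx G) {K : Subgroup G} (S : Std G K) (hcyc : Cyc K)
    {W : Type*} [Group W] (cs : CoxeterSystem CoxeterMatrix.F₄ W) [CharP F 2]
    (hφ : ∀ x, φ x = x ^ q) (hqq : ∀ t : F, (t ^ q) ^ q = t) (hq : IsPrimePow q) (hq2 : 2 < q)
    (hF : Fintype.card F = q ^ 2) (e : ↥(twistedE6 F q) ≃* ↥K) :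
    ∃ (t : G) (T : Subgroup G) (m z : G) (V : (Fin 4 → ℤ) → Subgroup G), All cs hφ hqq e t T m z V := by
  have := C.fin
  have : Finite W := finiteW cs
  obtain ⟨h1, h2⟩ := Cfsg.Agent.S1070.result (K := F) hq hF
  have hNC : NoCent cs isCartan (Cfsg.Agent.Nodes.RGDTwE6.T F q) (X φ q) :=
    noCent_of_center (rgd cs hφ hqq 2) (G1_eq_top cs hφ hqq) (center_eq_bot h1 h2)
  have hD : Dat (rgd cs hφ hqq 2) := Cfsg.Agent.KFacts.TwESix.Dat.dat cs hφ hqq hF hq.one_lt
  have hk1 : K1 cs (X φ q) := by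
    intro g hg
    refine Cfsg.Agent.KFacts.TwESix.Cent.k1 hD (rho_root cs) rho_long hNC ?_ fun a ha ha0 v hv => ?_
    · rw [Cfsg.Agent.KFacts.RgdRigid.GG_eq_top (G1_eq_top cs hφ hqq)]
      exact Subgroup.mem_top g
    · rw [cpr_rho] at ha0
      exact hg a ha ha0 v hv
  obtain ⟨t, T, m, z, hst, hO⟩ := Front.front C S hcyc cs hφ hqq hq hF e hk1
  have hkx : KX (rgdG (rgd cs hφ hqq 2) e) t K := by
    refine kx hD e hst ((Cfsg.Agent.Schreier.TwESix.sch hq hF).of_equiv e) (G1_eq_top cs hφ hqq) Front.T_comm hNC ?_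
    obtain ⟨k, hk, h⟩ := Cfsg.Agent.KFacts.TwESix.Tor.hne cs hφ hqq hF hq2 (rho_root cs) rho_long
    obtain ⟨x, hx, hx1⟩ := exists_ne_one (rgd cs hφ hqq 2) (rho_root cs)
    exact ⟨k, hk, x, hx, h x hx hx1⟩
  have hO' : Front.Out t K (PP cs (XG e (X φ q))) (RGD.Sup (XG e (X φ q)) (RGD.Pos cs isCartan))
      (XG e (X φ q) rho) T m z := by
    rw [PP_map, sup_map]
    exact hO
  obtain ⟨V, hV⟩ := hkx.exists_yo_of_swap hO'.sw
  exact ⟨t, T, m, z, V, hst, hO', hkx, noCent_map e hNC, sup_eq e (G1_eq_top cs hφ hqq), hV⟩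

end Inst

end Cfsg.Agent.OddHalf.D7Tw.Inst

end
end
end
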